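import Mathlib
import Cfsg.Prelude.Def_Solvable
import Cfsg.Agent.Lib.Helper17.CharP
import Cfsg.Agent.Lib.Helper9.Coprime

set_option autoImplicit false

namespace Cfsg.Agent.Lib.Helper17.CharP3

open scoped commutatorElement
open Cfsg.Agent.Lib.Helper16.Basic Cfsg.Agent.Lib.Helper17.CharP

variable {G : Type*} [Group G]

theorem comm_mem_of_normal {P : Subgroup G} (hP : P.Normal) {u : G} (hu : u ∈ P) (y : G) :
    ⁅u, y⁆ ∈ P := by
  rw [commutatorElement_def]
  have h2 : y * u⁻¹ * y⁻¹ ∈ P := hP.conj_mem _ (inv_mem hu) _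
  have h3 := mul_mem hu h2
  have h4 : u * (y * u⁻¹ * y⁻¹) = u * y * u⁻¹ * y⁻¹ := by group
  rw [← h4]; exact h3

theorem comm_mul (u g h : G) : ⁅u, g * h⁆ = ⁅u, g⁆ * (g * ⁅u, h⁆ * g⁻¹) := by
  simp only [commutatorElement_def]; group

theorem comm_inv (u g : G) : ⁅u, g⁻¹⁆ = g⁻¹ * ⁅u, g⁆⁻¹ * g := by
  simp only [commutatorElement_def]; group

theorem comm_conj (u n g : G) : ⁅u, n * g * n⁻¹⁆ = n * ⁅n⁻¹ * u * n, g⁆ * n⁻¹ := by
  simp only [commutatorElement_def]; group

theorem conj_inv_mem_of_mem_normalizer {D : Subgroup G} {g : G}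
    (hg : g ∈ Subgroup.normalizer (D : Set G)) {d : G} (hd : d ∈ D) : g⁻¹ * d * g ∈ D := by
  have h := (Subgroup.mem_normalizer_iff.1 (inv_mem hg) d).1 hd
  simpa using h

/-- The stabilizer of the chain `P ≥ D`: elements normalizing `D` and acting trivially on the
cosets of `D` in `P`. -/
def stab (P D : Subgroup G) : Subgroup G where
  carrier := {g | g ∈ Subgroup.normalizer (D : Set G) ∧ ∀ u ∈ P, ⁅u, g⁆ ∈ D}
  one_mem' := ⟨one_mem _, fun u _ => by rw [commutatorElement_one_right]; exact one_mem _⟩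
  mul_mem' := by
    rintro g h ⟨hg1, hg2⟩ ⟨hh1, hh2⟩
    refine ⟨mul_mem hg1 hh1, fun u hu => ?_⟩
    rw [comm_mul]
    exact mul_mem (hg2 u hu) ((Subgroup.mem_normalizer_iff.1 hg1 _).1 (hh2 u hu))
  inv_mem' := by
    rintro g ⟨hg1, hg2⟩
    refine ⟨inv_mem hg1, fun u hu => ?_⟩
    rw [comm_inv]
    exact conj_inv_mem_of_mem_normalizer hg1 (inv_mem (hg2 u hu))

theorem mem_stab {P D : Subgroup G} {g : G} :
    g ∈ stab P D ↔ g ∈ Subgroup.normalizer (D : Set G) ∧ ∀ u ∈ P, ⁅u, g⁆ ∈ D := Iff.rfl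

theorem stab_conj {P D : Subgroup G} (hP : P.Normal) {g n : G} (hg : g ∈ stab P D)
    (hn : n ∈ Subgroup.normalizer (D : Set G)) : n * g * n⁻¹ ∈ stab P D := by
  refine ⟨mul_mem (mul_mem hn hg.1) (inv_mem hn), fun u hu => ?_⟩
  rw [comm_conj]
  have h1 : n⁻¹ * u * n ∈ P := by
    have := hP.conj_mem u hu n⁻¹
    simpa using this
  exact (Subgroup.mem_normalizer_iff.1 hn _).1 (hg.2 _ h1)

theorem le_stab {P Q : Subgroup G} (hP : P.Normal) (hPQ : P ≤ Subgroup.normalizer (Q : Set G)) :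
    Q ≤ stab P (P ⊓ Q) := by
  intro q hq
  refine ⟨?_, fun u hu => ?_⟩
  · rw [Subgroup.mem_normalizer_iff]
    intro h
    constructor
    · intro hh
      obtain ⟨h1, h2⟩ := Subgroup.mem_inf.1 hh
      exact Subgroup.mem_inf.2 ⟨hP.conj_mem h h1 q, mul_mem (mul_mem hq h2) (inv_mem hq)⟩
    · intro hh
      obtain ⟨h1, h2⟩ := Subgroup.mem_inf.1 hh
      have e : h = q⁻¹ * (q * h * q⁻¹) * q := by group
      rw [e]
      refine Subgroup.mem_inf.2 ⟨?_, mul_mem (mul_mem (inv_mem hq) h2) hq⟩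
      have := hP.conj_mem _ h1 q⁻¹
      simpa using this
  · refine Subgroup.mem_inf.2 ⟨comm_mem_of_normal hP hu q, ?_⟩
    rw [commutatorElement_def]
    exact mul_mem ((Subgroup.mem_normalizer_iff.1 (hPQ hu) q).1 hq) (inv_mem hq)

variable [Finite G] {p : ℕ} [Fact p.Prime]

/-- In a group of characteristic `p`, a normal subgroup `Q` of a Sylow `p`-subgroup `T` with
`C_T(Q) ≤ Q` satisfies `C_G(Q) ≤ Q`. -/
theorem centralizer_le_of_sylow
    (hG : Subgroup.centralizer (Cfsg.pCore p G : Set G) ≤ Cfsg.pCore p G) (T : Sylow p G)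
    (Q : Subgroup G) (hQT : Q ≤ (T : Subgroup G))
    (hQn : (T : Subgroup G) ≤ Subgroup.normalizer (Q : Set G))
    (hC : (T : Subgroup G) ⊓ Subgroup.centralizer (Q : Set G) ≤ Q) :
    Subgroup.centralizer (Q : Set G) ≤ Q := by
  have hPp : IsPGroup p (Cfsg.pCore p G) := pCore_isPGroup
  have hPn : (Cfsg.pCore p G).Normal := pCore_normal' G
  have hPT : Cfsg.pCore p G ≤ T := pCore_le_sylow T
  have hQp : IsPGroup p Q := T.isPGroup'.to_le hQT
  have hCp : IsPGroup p (Subgroup.centralizer (Q : Set G)) := by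
    apply isPGroup_sub_of_coprime_trivial
    intro x hx hxo
    have hxQ : ∀ b ∈ Q, x * b = b * x := fun b hb =>
      (Subgroup.mem_centralizer_iff.1 hx b hb).symm
    have h1 := Cfsg.Agent.Lib.Helper9.thompson_AxB hxo hQp hPp hxQ
      (by rw [Subgroup.normalizer_eq_top]; exact Subgroup.mem_top x)
      (by rw [Subgroup.normalizer_eq_top]; exact le_top)
      (fun y hy hyQ => by
        have hyc : y ∈ Subgroup.centralizer (Q : Set G) := by
          rw [Subgroup.mem_centralizer_iff]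
          exact hyQ
        exact hxQ y (hC ⟨hPT hy, hyc⟩))
    have h2 : x ∈ Subgroup.centralizer ((Cfsg.pCore p G : Subgroup G) : Set G) := by
      rw [Subgroup.mem_centralizer_iff]
      intro y hy
      exact (h1 y hy).symm
    obtain ⟨k, hk⟩ := exists_pow_eq_one_of_mem hPp (hG h2)
    exact eq_one_of_pow_eq_one_of_coprime (pow_orderOf_eq_one x) hk (Nat.Coprime.pow_right k hxo)
  have hTC : (T : Subgroup G) ≤ Subgroup.normalizer
      ((Subgroup.centralizer (Q : Set G) : Subgroup G) : Set G) := by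
    intro t ht
    rw [Subgroup.mem_normalizer_iff]
    have key : ∀ s : G, s ∈ Subgroup.normalizer (Q : Set G) →
        ∀ c ∈ Subgroup.centralizer (Q : Set G), s * c * s⁻¹ ∈ Subgroup.centralizer (Q : Set G) := by
      intro s hs c hc
      rw [Subgroup.mem_centralizer_iff]
      intro b hb
      have hb' : s⁻¹ * b * s ∈ Q := conj_inv_mem_of_mem_normalizer hs hb
      have h3 := Subgroup.mem_centralizer_iff.1 hc _ hb'
      have e1 : b * (s * c * s⁻¹) = s * ((s⁻¹ * b * s) * c) * s⁻¹ := by group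
      have e2 : s * c * s⁻¹ * b = s * (c * (s⁻¹ * b * s)) * s⁻¹ := by group
      rw [e1, e2, h3]
    intro c
    constructor
    · exact key t (hQn ht) c
    · intro hc
      have := key t⁻¹ (inv_mem (hQn ht)) _ hc
      have e : t⁻¹ * (t * c * t⁻¹) * t⁻¹⁻¹ = c := by group
      rwa [e] at this
  have h5 : IsPGroup p ((T : Subgroup G) ⊔ Subgroup.centralizer (Q : Set G) : Subgroup G) :=
    IsPGroup.to_sup_of_normal_right' T.isPGroup' hCp hTC
  have h6 := T.is_maximal' h5 le_sup_left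
  have h7 : Subgroup.centralizer (Q : Set G) ≤ T := by
    rw [← h6]; exact le_sup_right
  exact fun x hx => hC ⟨h7 hx, hx⟩

/-- Overgroups of `Q` have characteristic `p`. -/
theorem charp_of_overgroup
    (hG : Subgroup.centralizer (Cfsg.pCore p G : Set G) ≤ Cfsg.pCore p G) (T : Sylow p G)
    (Q : Subgroup G) (hQT : Q ≤ (T : Subgroup G))
    (hQn : (T : Subgroup G) ≤ Subgroup.normalizer (Q : Set G))
    (hC : (T : Subgroup G) ⊓ Subgroup.centralizer (Q : Set G) ≤ Q) (L : Subgroup G)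
    (hQL : Q ≤ L) :
    Subgroup.centralizer (Cfsg.pCore p ↥L : Set ↥L) ≤ Cfsg.pCore p ↥L := by
  classical
  have hPp : IsPGroup p (Cfsg.pCore p G) := pCore_isPGroup
  have hPn : (Cfsg.pCore p G).Normal := pCore_normal' G
  have hPT : Cfsg.pCore p G ≤ T := pCore_le_sylow T
  have hQp : IsPGroup p Q := T.isPGroup'.to_le hQT
  have hLn : L ≤ Subgroup.normalizer ((Cfsg.pCore p G : Subgroup G) : Set G) := by
    rw [Subgroup.normalizer_eq_top]; exact le_top
  have hRn : (Cfsg.pCore p ↥L).Normal := pCore_normal' L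
  have hRp : IsPGroup p (Cfsg.pCore p ↥L) := pCore_isPGroup
  -- the normal `p`-subgroup `Y` of `L`
  let Y : Subgroup L :=
    { carrier := {y | y ∈ Subgroup.centralizer (Cfsg.pCore p ↥L : Set ↥L) ∧
          ∀ u ∈ Cfsg.pCore p G, ⁅u, (y : G)⁆ ∈ L}
      one_mem' := ⟨one_mem _, fun u _ => by
        rw [Subgroup.coe_one, commutatorElement_one_right]; exact one_mem _⟩
      mul_mem' := by
        rintro g h ⟨hg1, hg2⟩ ⟨hh1, hh2⟩
        refine ⟨mul_mem hg1 hh1, fun u hu => ?_⟩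
        rw [Subgroup.coe_mul, comm_mul]
        exact mul_mem (hg2 u hu) (mul_mem (mul_mem g.2 (hh2 u hu)) (inv_mem g.2))
      inv_mem' := by
        rintro g ⟨hg1, hg2⟩
        refine ⟨inv_mem hg1, fun u hu => ?_⟩
        rw [Subgroup.coe_inv, comm_inv]
        exact mul_mem (mul_mem (inv_mem g.2) (inv_mem (hg2 u hu))) g.2 }
  have hYmem : ∀ y : L, y ∈ Y ↔ (y ∈ Subgroup.centralizer (Cfsg.pCore p ↥L : Set ↥L) ∧
          ∀ u ∈ Cfsg.pCore p G, ⁅u, (y : G)⁆ ∈ L) := fun y => Iff.rfl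
  have hYn : Y.Normal := by
    refine ⟨fun y hy l => ?_⟩
    rw [hYmem] at hy ⊢
    refine ⟨(Subgroup.normal_centralizer (H := Cfsg.pCore p ↥L)).conj_mem y hy.1 l, fun u hu => ?_⟩
    have e : ((l * y * l⁻¹ : L) : G) = (l : G) * (y : G) * (l : G)⁻¹ := by simp
    rw [e, comm_conj]
    have h1 : (l : G)⁻¹ * u * (l : G) ∈ Cfsg.pCore p G := by
      have := hPn.conj_mem u hu (l : G)⁻¹
      simpa using this
    exact mul_mem (mul_mem l.2 (hy.2 _ h1)) (inv_mem l.2)
  have hYp : IsPGroup p Y := by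
    apply isPGroup_sub_of_coprime_trivial
    intro y hy hyo
    rw [hYmem] at hy
    have hyo' : (orderOf (y : G)).Coprime p := by rw [Subgroup.orderOf_coe]; exact hyo
    have h1 : (y : G) = 1 := by
      apply eq_one_of_stab hPp hG hyo'
      · intro u hu
        exact comm_mem_of_normal hPn hu _
      · intro u hu
        exact commute_of_mem_centralizer_pCore hPp hLn hy.1 (hy.2 u hu)
          (comm_mem_of_normal hPn hu _)
    exact Subtype.ext h1
  have hYR : Y ≤ Cfsg.pCore p ↥L := le_pCore hYn hYp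
  have hCQ := centralizer_le_of_sylow hG T Q hQT hQn hC
  apply charp_of_coprime_trivial
  intro x hx hxo
  have hxo' : (orderOf (x : G)).Coprime p := by rw [Subgroup.orderOf_coe]; exact hxo
  -- `x` centralizes `D = P ⊓ Q`
  have hxD : (x : G) ∈ Subgroup.normalizer ((Cfsg.pCore p G ⊓ Q : Subgroup G) : Set G) := by
    apply Subgroup.centralizer_le_normalizer
    rw [Subgroup.mem_centralizer_iff]
    intro d hd
    obtain ⟨hd1, hd2⟩ := Subgroup.mem_inf.1 hd
    exact commute_of_mem_centralizer_pCore hPp hLn hx (hQL hd2) hd1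
  have hQstab : Q ≤ stab (Cfsg.pCore p G) (Cfsg.pCore p G ⊓ Q) :=
    le_stab hPn (hPT.trans hQn)
  have hxQ : (x : G) ∈ Subgroup.centralizer (Q : Set G) := by
    rw [Subgroup.mem_centralizer_iff]
    intro q hq
    -- the commutator `w = ⁅q, x⁆` as an element of `L`
    have hwL : ⁅q, (x : G)⁆ ∈ L := by
      rw [commutatorElement_def]
      exact mul_mem (mul_mem (mul_mem (hQL hq) x.2) (inv_mem (hQL hq))) (inv_mem x.2)
    have hwstab : ⁅q, (x : G)⁆ ∈ stab (Cfsg.pCore p G) (Cfsg.pCore p G ⊓ Q) := by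
      have e : ⁅q, (x : G)⁆ = q * ((x : G) * q⁻¹ * (x : G)⁻¹) := by
        rw [commutatorElement_def]; group
      rw [e]
      exact mul_mem (hQstab hq) (stab_conj hPn (inv_mem (hQstab hq)) hxD)
    have hwY : (⟨⁅q, (x : G)⁆, hwL⟩ : L) ∈ Y := by
      rw [hYmem]
      constructor
      · have e : (⟨⁅q, (x : G)⁆, hwL⟩ : L) = (⟨q, hQL hq⟩ * x * (⟨q, hQL hq⟩ : L)⁻¹) * x⁻¹ := by
          apply Subtype.ext
          simp [commutatorElement_def]
        rw [e]
        exact mul_mem ((Subgroup.normal_centralizer (H := Cfsg.pCore p ↥L)).conj_mem x hx _)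
          (inv_mem hx)
      · intro u hu
        exact hQL (Subgroup.mem_inf.1 (hwstab.2 u hu)).2
    have hwR := hYR hwY
    have hcomm : Commute ⁅q, (x : G)⁆ (x : G) := by
      have h2 := Subgroup.mem_centralizer_iff.1 hx _ hwR
      have h3 : ⁅q, (x : G)⁆ * (x : G) = (x : G) * ⁅q, (x : G)⁆ := congrArg Subtype.val h2
      exact h3
    obtain ⟨k, hk⟩ := hRp ⟨_, hwR⟩
    have hk' : ⁅q, (x : G)⁆ ^ p ^ k = 1 := by
      have := congrArg (fun z : (Cfsg.pCore p ↥L) => ((z : L) : G)) hk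
      simpa using this
    have h4 := commutator_eq_one_of_coprime hcomm hk' hxo'
    rw [commutatorElement_def] at h4
    have : q * (x : G) * q⁻¹ * (x : G)⁻¹ * ((x : G) * q) = (x : G) * q := by rw [h4, one_mul]
    rw [← this]; group
  obtain ⟨k, hk⟩ := exists_pow_eq_one_of_mem hQp (hCQ hxQ)
  exact Subtype.ext (eq_one_of_pow_eq_one_of_coprime (pow_orderOf_eq_one _) hk
    (Nat.Coprime.pow_right k hxo'))

end Cfsg.Agent.Lib.Helper17.CharP3
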