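import Mathlib
import Cfsg.Prelude.Def_SylowControl
import Cfsg.Agent.Lib.Helper12.SylowBasic

/-!
Helpers for `Cfsg.sylowMembers`, `Cfsg.ControlsSylowIntersections`: conjugation invariance.
-/

set_option autoImplicit false

namespace Cfsg.Agent.Lib.Helper17.SylCtrl

open Cfsg Cfsg.Agent.Lib.Helper12.SylowBasic

variable {G : Type*} [Group G] {p : ℕ}

/-- `S ∩ X` is a Sylow `p`-subgroup of `X`. -/
def IsSylIn (p : ℕ) (S X : Subgroup G) : Prop :=
  IsPGroup p ↥(S ⊓ X) ∧ ¬ p ∣ (S ⊓ X).relIndex X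

theorem mem_sylowMembers_iff [Finite G] [Fact p.Prime] {𝓕 : Set (Subgroup G)}
    {S X : Subgroup G} : X ∈ sylowMembers p 𝓕 S ↔ X ∈ 𝓕 ∧ IsSylIn p S X := by
  constructor
  · rintro ⟨hX, P, hP⟩
    refine ⟨hX, ?_, ?_⟩
    · rw [← hP]; exact P.isPGroup'.map _
    · have h1 : (S ⊓ X).subgroupOf X = (P : Subgroup ↥X) := by
        rw [← hP]
        exact Subgroup.comap_map_eq_self_of_injective X.subtype_injective _
      show ¬ p ∣ ((S ⊓ X).subgroupOf X).index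
      rw [h1]; exact P.not_dvd_index
  · rintro ⟨hX, hp, hidx⟩
    have hp' : IsPGroup p ↥((S ⊓ X).subgroupOf X) := hp.comap_subtype
    have hidx' : ¬ p ∣ ((S ⊓ X).subgroupOf X).index := hidx
    refine ⟨hX, IsPGroup.toSylow hp' hidx', ?_⟩
    rw [IsPGroup.toSylow_coe]
    exact Subgroup.map_subgroupOf_eq_of_le inf_le_right

theorem isSylIn_map {S X : Subgroup G} (h : IsSylIn p S X) (g : G) :
    IsSylIn p (S.map (MulAut.conj g).toMonoidHom) (X.map (MulAut.conj g).toMonoidHom) := by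
  have hinj : Function.Injective (MulAut.conj g).toMonoidHom := (MulAut.conj g).injective
  unfold IsSylIn
  rw [← Subgroup.map_inf _ _ _ hinj, Subgroup.relIndex_map_map_of_injective _ _ hinj]
  exact ⟨h.1.map _, h.2⟩

theorem coe_smul_sylow (g : G) (T : Sylow p G) :
    ((g • T : Sylow p G) : Subgroup G) = (T : Subgroup G).map (MulAut.conj g).toMonoidHom := by
  ext y
  rw [mem_smul_sylow_iff, mem_map_conj_iff]

theorem map_conj_map_conj_inv (g : G) (X : Subgroup G) :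
    (X.map (MulAut.conj g).toMonoidHom).map (MulAut.conj g⁻¹).toMonoidHom = X := by
  ext y
  rw [mem_map_conj_iff, mem_map_conj_iff]
  have e : g⁻¹ * (g⁻¹⁻¹ * y * g⁻¹) * g = y := by group
  rw [e]

theorem map_conj_inv_map_conj (g : G) (X : Subgroup G) :
    (X.map (MulAut.conj g⁻¹).toMonoidHom).map (MulAut.conj g).toMonoidHom = X := by
  ext y
  rw [mem_map_conj_iff, mem_map_conj_iff]
  have e : g⁻¹⁻¹ * (g⁻¹ * y * g) * g⁻¹ = y := by group
  rw [e]

/-- `X ∈ 𝓕(l • T)` gives `X^l ∈ 𝓕(T)`. -/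
theorem sylowMembers_smul [Finite G] [Fact p.Prime] {𝓕 : Set (Subgroup G)}
    (h𝓕 : IsNormalSet 𝓕) {T : Sylow p G} {X : Subgroup G} (l : G)
    (hX : X ∈ sylowMembers p 𝓕 ((l • T : Sylow p G) : Subgroup G)) :
    X.map (MulAut.conj l⁻¹).toMonoidHom ∈ sylowMembers p 𝓕 (T : Subgroup G) := by
  rw [mem_sylowMembers_iff] at hX ⊢
  refine ⟨h𝓕 X hX.1 l, ?_⟩
  have h1 := isSylIn_map hX.2 l⁻¹
  rwa [coe_smul_sylow, map_conj_map_conj_inv] at h1

/-- `X ∈ 𝓕(T)` gives `l X l⁻¹ ∈ 𝓕(l • T)`. -/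
theorem sylowMembers_smul' [Finite G] [Fact p.Prime] {𝓕 : Set (Subgroup G)}
    (h𝓕 : IsNormalSet 𝓕) {T : Sylow p G} {X : Subgroup G} (l : G)
    (hX : X ∈ sylowMembers p 𝓕 (T : Subgroup G)) :
    X.map (MulAut.conj l).toMonoidHom ∈ sylowMembers p 𝓕 ((l • T : Sylow p G) : Subgroup G) := by
  rw [mem_sylowMembers_iff] at hX ⊢
  refine ⟨?_, ?_⟩
  · have h1 := h𝓕 X hX.1 l⁻¹
    rw [subgroupConjRight, inv_inv] at h1
    exact h1
  · rw [coe_smul_sylow]
    exact isSylIn_map hX.2 l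

/-- if all members of `𝓕(S)` lie in `L`, `l ∈ L` and `X ∈ 𝓕(l • S)`, then `X ≤ L`. -/
theorem le_of_mem_sylowMembers_smul [Finite G] [Fact p.Prime] {𝓕 : Set (Subgroup G)}
    (h𝓕 : IsNormalSet 𝓕) (S : Sylow p G) (L : Subgroup G)
    (hL : ∀ X ∈ sylowMembers p 𝓕 (S : Subgroup G), X ≤ L)
    {l : G} (hl : l ∈ L) {X : Subgroup G}
    (hX : X ∈ sylowMembers p 𝓕 ((l • S : Sylow p G) : Subgroup G)) : X ≤ L := by
  intro x hx
  have h1 := hL _ (sylowMembers_smul h𝓕 l hX)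
  have h2 : l⁻¹ * x * l ∈ X.map (MulAut.conj l⁻¹).toMonoidHom := by
    rw [mem_map_conj_iff]
    have e : l⁻¹⁻¹ * (l⁻¹ * x * l) * l⁻¹ = x := by group
    rw [e]; exact hx
  have h3 := h1 h2
  have e : x = l * (l⁻¹ * x * l) * l⁻¹ := by group
  rw [e]
  exact L.mul_mem (L.mul_mem hl h3) (L.inv_mem hl)

/-- `subgroupConjRight x T' = T` for Sylow subgroups means `T' = x • T`. -/
theorem eq_smul_of_subgroupConjRight {T T' : Sylow p G} {x : G}
    (h : subgroupConjRight x (T' : Subgroup G) = (T : Subgroup G)) : T' = x • T := by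
  apply Sylow.ext
  rw [coe_smul_sylow, ← h, subgroupConjRight, map_conj_inv_map_conj]

theorem subgroupConjRight_smul (T : Sylow p G) (x : G) :
    subgroupConjRight x ((x • T : Sylow p G) : Subgroup G) = (T : Subgroup G) := by
  rw [subgroupConjRight, coe_smul_sylow, map_conj_map_conj_inv]

end Cfsg.Agent.Lib.Helper17.SylCtrl
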