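import Mathlib

set_option autoImplicit false

namespace Cfsg.Agent.Lib.Helper17.BS1

open Finset

variable {V : Type*} [CommGroup V]

/-- fixed points of an automorphism -/
def fixSub (γ : MulAut V) : Subgroup V where
  carrier := {v | γ v = v}
  mul_mem' := by
    intro a b ha hb
    simp only [Set.mem_ofPred_eq] at *
    rw [map_mul, ha, hb]
  one_mem' := by simp
  inv_mem' := by
    intro a ha
    simp only [Set.mem_ofPred_eq] at *
    rw [map_inv, ha]

theorem mem_fixSub (γ : MulAut V) (v : V) : v ∈ fixSub γ ↔ γ v = v := Iff.rfl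

theorem pow_fix (γ : MulAut V) (v : V) (h : γ v = v) (k : ℕ) : (γ ^ k) v = v := by
  induction k with
  | zero => simp
  | succ k ih => rw [pow_succ, MulAut.mul_apply, h, ih]

/-- the "trace" of a vector under an automorphism without fixed points is trivial -/
theorem trace_eq_one (β : MulAut V) (m : ℕ) (hm : β ^ m = 1) (hfix : ∀ v, β v = v → v = 1)
    (u : V) : ∏ k ∈ range m, (β ^ k) u = 1 := by
  apply hfix
  rw [map_prod]
  have h1 : ∀ k, β ((β ^ k) u) = (β ^ (k + 1)) u := by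
    intro k
    rw [pow_succ', MulAut.mul_apply]
  simp_rw [h1]
  have h2 := Finset.prod_range_succ' (fun k => (β ^ k) u) m
  have h3 := Finset.prod_range_succ (fun k => (β ^ k) u) m
  rw [h3] at h2
  simp only [hm, pow_zero, MulAut.one_apply] at h2
  exact (mul_right_cancel h2).symm

theorem fix_pow_le {R : Type*} [Group R] [Finite R] [Finite V] (p : ℕ) [Fact p.Prime]
    (hR : IsPGroup p R) (hV : (Nat.card V).Coprime p) (ρ : R →* MulAut V)
    (hirr : ∀ W : Subgroup V, (∀ g : R, ∀ v ∈ W, ρ g v ∈ W) → W = ⊥ ∨ W = ⊤)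
    (e c : R) (hcen : ∀ g : R, Commute (ρ (c * e * c⁻¹ * e⁻¹)) (ρ g))
    (hne : ρ (c * e * c⁻¹ * e⁻¹) ≠ 1) :
    Nat.card (fixSub (ρ c)) ^ p ≤ Nat.card V := by
  have hp : p.Prime := Fact.out
  obtain ⟨α, hα⟩ : ∃ α, α = ρ (c * e * c⁻¹ * e⁻¹) := ⟨_, rfl⟩
  obtain ⟨γ, hγ⟩ : ∃ γ, γ = ρ c := ⟨_, rfl⟩
  obtain ⟨ε, hε⟩ : ∃ ε, ε = ρ e := ⟨_, rfl⟩
  rw [← hα] at hcen hne
  rw [← hγ]
  have hαe : α = γ * ε * γ⁻¹ * ε⁻¹ := by
    rw [hα, hγ, hε, map_mul, map_mul, map_mul, map_inv, map_inv]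
  have hαγ : Commute α γ := hγ ▸ hcen c
  have hαε : Commute α ε := hε ▸ hcen e
  -- central nontrivial automorphisms have no fixed points
  have hcfix : ∀ β : MulAut V, (∀ g : R, Commute β (ρ g)) → β ≠ 1 → ∀ v, β v = v → v = 1 := by
    intro β hβ hβ1 v hv
    have hW := hirr (fixSub β) (by
      intro g w hw
      rw [mem_fixSub] at hw ⊢
      have := (hβ g).eq
      calc β (ρ g w) = (β * ρ g) w := rfl
        _ = (ρ g * β) w := by rw [this]
        _ = ρ g (β w) := rfl
        _ = ρ g w := by rw [hw])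
    rcases hW with hW | hW
    · have : v ∈ fixSub β := hv
      rw [hW] at this
      exact Subgroup.mem_bot.1 this
    · exfalso
      apply hβ1
      ext w
      have : w ∈ fixSub β := by rw [hW]; exact Subgroup.mem_top w
      exact this
  -- order of α
  obtain ⟨a, ha⟩ := hR (c * e * c⁻¹ * e⁻¹)
  have hαa : α ^ (p ^ a) = 1 := by rw [hα, ← map_pow, ha, map_one]
  obtain ⟨m, hm⟩ : ∃ m, m = orderOf α := ⟨_, rfl⟩
  have hmd : m ∣ p ^ a := hm ▸ orderOf_dvd_of_pow_eq_one hαa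
  obtain ⟨b, hb, hmb⟩ := (Nat.dvd_prime_pow hp).1 hmd
  have hb0 : b ≠ 0 := by
    rintro rfl
    rw [pow_zero] at hmb
    rw [hmb] at hm
    exact hne (orderOf_eq_one_iff.1 hm.symm)
  have hpm : p ∣ m := by rw [hmb]; exact dvd_pow_self p hb0
  have hm0 : 0 < m := by rw [hmb]; exact pow_pos hp.pos b
  have hαm : α ^ m = 1 := by rw [hm]; exact pow_orderOf_eq_one α
  have hple : p ≤ m := Nat.le_of_dvd hm0 hpm
  have hmV : (Nat.card V).Coprime m := by rw [hmb]; exact Nat.Coprime.pow_right b hV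
  -- conjugation formulas
  have h1 : γ * ε = α * ε * γ := by
    rw [hαe]; group
  have h2 : ∀ k : ℕ, γ ^ k * ε = α ^ k * ε * γ ^ k := by
    intro k
    induction k with
    | zero => simp
    | succ k ih =>
      have e1 : γ ^ (k + 1) * ε = γ * (γ ^ k * ε) := by rw [pow_succ']; group
      rw [e1, ih]
      have e2 : γ * (α ^ k * ε * γ ^ k) = α ^ k * (γ * ε) * γ ^ k := by
        have := (hαγ.pow_left k).eq
        calc γ * (α ^ k * ε * γ ^ k) = (γ * α ^ k) * ε * γ ^ k := by group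
          _ = (α ^ k * γ) * ε * γ ^ k := by rw [this]
          _ = α ^ k * (γ * ε) * γ ^ k := by group
      rw [e2, h1]
      rw [pow_succ, pow_succ']
      group
  have h3 : ∀ k i : ℕ, γ ^ k * ε ^ i = α ^ (k * i) * ε ^ i * γ ^ k := by
    intro k i
    induction i with
    | zero => simp
    | succ i ih =>
      have e1 : γ ^ k * ε ^ (i + 1) = (γ ^ k * ε ^ i) * ε := by rw [pow_succ]; group
      rw [e1, ih]
      have e2 : α ^ (k * i) * ε ^ i * γ ^ k * ε = α ^ (k * i) * ε ^ i * (γ ^ k * ε) := by group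
      rw [e2, h2 k]
      have := ((hαε.pow_left k).pow_right i).eq
      calc α ^ (k * i) * ε ^ i * (α ^ k * ε * γ ^ k)
          = α ^ (k * i) * (ε ^ i * α ^ k) * ε * γ ^ k := by group
        _ = α ^ (k * i) * (α ^ k * ε ^ i) * ε * γ ^ k := by rw [this]
        _ = α ^ (k * (i + 1)) * ε ^ (i + 1) * γ ^ k := by
          rw [Nat.mul_succ, pow_add, pow_succ]; group
  -- the key independence statement
  have key : ∀ w : Fin p → V, (∀ i, γ (w i) = w i) → ∏ i : Fin p, (ε ^ (i : ℕ)) (w i) = 1 →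
      ∀ i, w i = 1 := by
    intro w hw hprod i₀
    have hk : ∀ k : ℕ, ∏ i : Fin p, (α ^ (k * (i : ℕ))) ((ε ^ (i : ℕ)) (w i)) = 1 := by
      intro k
      have e1 := congrArg (fun v => (γ ^ k) v) hprod
      simp only [map_prod, map_one] at e1
      rw [← e1]
      apply Finset.prod_congr rfl
      intro i _
      calc (α ^ (k * (i : ℕ))) ((ε ^ (i : ℕ)) (w i))
          = (α ^ (k * (i : ℕ))) ((ε ^ (i : ℕ)) ((γ ^ k) (w i))) := by rw [pow_fix γ _ (hw i) k]
        _ = (α ^ (k * (i : ℕ)) * ε ^ (i : ℕ) * γ ^ k) (w i) := rfl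
        _ = (γ ^ k * ε ^ (i : ℕ)) (w i) := by rw [h3]
        _ = (γ ^ k) ((ε ^ (i : ℕ)) (w i)) := rfl
    have hi₀ : (i₀ : ℕ) < p := i₀.2
    have hk2 : ∀ k : ℕ, ∏ i : Fin p, ((α ^ ((i : ℕ) + m - (i₀ : ℕ))) ^ k) ((ε ^ (i : ℕ)) (w i)) = 1 := by
      intro k
      have e1 := congrArg (fun v => (α ^ (k * (m - (i₀ : ℕ)))) v) (hk k)
      simp only [map_prod, map_one] at e1
      rw [← e1]
      apply Finset.prod_congr rfl
      intro i _
      have e2 : (α ^ ((i : ℕ) + m - (i₀ : ℕ))) ^ k = α ^ (k * (m - (i₀ : ℕ))) * α ^ (k * (i : ℕ)) := by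
        rw [← pow_mul, ← pow_add]
        congr 1
        have : (i : ℕ) + m - (i₀ : ℕ) = (m - (i₀ : ℕ)) + (i : ℕ) := by omega
        rw [this, Nat.add_mul, Nat.mul_comm k, Nat.mul_comm k]
      rw [e2]
      rfl
    have hk3 : ∏ k ∈ range m, ∏ i : Fin p,
        ((α ^ ((i : ℕ) + m - (i₀ : ℕ))) ^ k) ((ε ^ (i : ℕ)) (w i)) = 1 :=
      Finset.prod_eq_one (fun k _ => hk2 k)
    rw [Finset.prod_comm] at hk3
    rw [Finset.prod_eq_single i₀] at hk3
    · have e3 : α ^ ((i₀ : ℕ) + m - (i₀ : ℕ)) = 1 := by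
        have : (i₀ : ℕ) + m - (i₀ : ℕ) = m := by omega
        rw [this, hαm]
      simp only [e3, one_pow, MulAut.one_apply, Finset.prod_const, Finset.card_range] at hk3
      have e4 : ((ε ^ (i₀ : ℕ)) (w i₀)) ^ Nat.card V = 1 := pow_card_eq_one'
      have e5 := (pow_gcd_eq_one (n := Nat.card V) (m := m) (a := (ε ^ (i₀ : ℕ)) (w i₀))).2 ⟨hk3, e4⟩
      rw [Nat.Coprime.gcd_eq_one hmV.symm, pow_one] at e5
      exact (MulEquiv.map_eq_one_iff _).1 e5
    · intro i _ hi
      apply trace_eq_one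
      · rw [← pow_mul, Nat.mul_comm, pow_mul, hαm, one_pow]
      · apply hcfix
        · intro g
          exact (hcen g).pow_left _
        · intro h1'
          have hd : orderOf α ∣ (i : ℕ) + m - (i₀ : ℕ) := orderOf_dvd_of_pow_eq_one h1'
          rw [← hm] at hd
          have hd2 : p ∣ (i : ℕ) + m - (i₀ : ℕ) := hpm.trans hd
          have hle : (i₀ : ℕ) ≤ (i : ℕ) + m := by omega
          have h5 := (Nat.modEq_iff_dvd' hle).2 hd2
          have h6 : ((i : ℕ) + m) % p = (i : ℕ) := by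
            rw [Nat.add_mod, Nat.mod_eq_zero_of_dvd hpm, add_zero, Nat.mod_mod,
              Nat.mod_eq_of_lt i.2]
          have h7 : (i₀ : ℕ) % p = (i₀ : ℕ) := Nat.mod_eq_of_lt hi₀
          have h8 : (i₀ : ℕ) = (i : ℕ) := by
            have := h5
            unfold Nat.ModEq at this
            rw [h6, h7] at this
            exact this
          exact hi (Fin.ext h8.symm)
    · intro h; exact absurd (Finset.mem_univ _) h
  -- the injection
  have hinj : Function.Injective (fun v : Fin p → fixSub γ => ∏ i : Fin p, (ε ^ (i : ℕ)) (v i : V)) := by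
    intro v v' hvv
    simp only at hvv
    have hq : ∏ i : Fin p, (ε ^ (i : ℕ)) ((v i : V) / (v' i : V)) = 1 := by
      simp only [map_div, Finset.prod_div_distrib]
      rw [hvv, div_self']
    have := key (fun i => (v i : V) / (v' i : V)) (by
      intro i
      rw [map_div, (v i).2, (v' i).2]) hq
    funext i
    exact Subtype.ext (div_eq_one.1 (this i))
  have hc := Nat.card_le_card_of_injective _ hinj
  rw [Nat.card_fun, Nat.card_fin] at hc
  exact hc

theorem final {R : Type*} [Group R] [Finite R] [Finite V] [Nontrivial V] (p : ℕ) [Fact p.Prime]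
    (hp3 : 3 ≤ p) (hR : IsPGroup p R) (hV : (Nat.card V).Coprime p) (ρ : R →* MulAut V)
    (hirr : ∀ W : Subgroup V, (∀ g : R, ∀ v ∈ W, ρ g v ∈ W) → W = ⊥ ∨ W = ⊤)
    (hfix : ∀ v : V, (∀ g, ρ g v = v) → v = 1)
    (C D : Set R) (hC : Subgroup.closure C = ⊤) (hD : Subgroup.closure D = ⊤)
    (hF : ∀ c ∈ C, ∀ d ∈ D, ∀ x : V, ∃ y : V, ρ d y = y ∧ ρ c (y⁻¹ * x) = y⁻¹ * x) : False := by
  obtain ⟨x₀, hx₀⟩ := exists_ne (1 : V)
  -- a generating set is not contained in a proper subgroup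
  have hgen : ∀ (S : Set R), Subgroup.closure S = ⊤ → ∀ M : Subgroup R, M ≠ ⊤ → ∃ s ∈ S, s ∉ M := by
    intro S hS M hM
    by_contra hcon
    apply hM
    rw [eq_top_iff, ← hS, Subgroup.closure_le]
    intro s hs
    by_contra h'
    exact hcon ⟨s, hs, h'⟩
  have hker : ρ.ker ≠ ⊤ := by
    intro h
    apply hx₀
    apply hfix
    intro g
    have : g ∈ ρ.ker := by rw [h]; exact Subgroup.mem_top g
    rw [MonoidHom.mem_ker] at this
    rw [this]; rfl
  obtain ⟨Z, hZ⟩ : ∃ Z : Subgroup R, Z = (Subgroup.centralizer (Set.range ρ)).comap ρ := ⟨_, rfl⟩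
  have hZmem : ∀ y : R, y ∈ Z ↔ ∀ g : R, Commute (ρ y) (ρ g) := by
    intro y
    rw [hZ, Subgroup.mem_comap, Subgroup.mem_centralizer_iff]
    constructor
    · intro h g
      exact (h (ρ g) ⟨g, rfl⟩).symm
    · rintro h _ ⟨g, rfl⟩
      exact (h g).eq.symm
  -- fixed points of central elements
  have hcfix : ∀ y : R, y ∈ Z → ρ y ≠ 1 → fixSub (ρ y) = ⊥ := by
    intro y hy hy1
    have hW := hirr (fixSub (ρ y)) (by
      intro g w hw
      rw [mem_fixSub] at hw ⊢
      have := ((hZmem y).1 hy g).eq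
      calc ρ y (ρ g w) = (ρ y * ρ g) w := rfl
        _ = (ρ g * ρ y) w := by rw [this]
        _ = ρ g (ρ y w) := rfl
        _ = ρ g w := by rw [hw])
    rcases hW with hW | hW
    · exact hW
    · exfalso
      apply hy1
      ext w
      have : w ∈ fixSub (ρ y) := by rw [hW]; exact Subgroup.mem_top w
      exact this
  by_cases hZt : Z = ⊤
  · obtain ⟨c, hcC, hc⟩ := hgen C hC _ hker
    obtain ⟨d, hdD, hd⟩ := hgen D hD _ hker
    have hc' := hcfix c (by rw [hZt]; exact Subgroup.mem_top c) (by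
      intro h; exact hc (MonoidHom.mem_ker.2 h))
    have hd' := hcfix d (by rw [hZt]; exact Subgroup.mem_top d) (by
      intro h; exact hd (MonoidHom.mem_ker.2 h))
    obtain ⟨y, hy1, hy2⟩ := hF c hcC d hdD x₀
    have e1 : y = 1 := by
      have : y ∈ fixSub (ρ d) := hy1
      rw [hd'] at this
      exact Subgroup.mem_bot.1 this
    have e2 : y⁻¹ * x₀ = 1 := by
      have : y⁻¹ * x₀ ∈ fixSub (ρ c) := hy2
      rw [hc'] at this
      exact Subgroup.mem_bot.1 this
    rw [e1] at e2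
    simp at e2
    exact hx₀ e2
  · haveI hZn : Z.Normal := by
      constructor
      intro y hy r
      rw [hZmem] at hy ⊢
      intro g
      have e1 : ρ (r * y * r⁻¹) = ρ y := by
        rw [map_mul, map_mul, map_inv]
        have := (hy r).eq
        calc ρ r * ρ y * (ρ r)⁻¹ = (ρ r * ρ y) * (ρ r)⁻¹ := rfl
          _ = (ρ y * ρ r) * (ρ r)⁻¹ := by rw [this]
          _ = ρ y := by group
      rw [e1]
      exact hy g
    haveI : Nontrivial (R ⧸ Z) := by
      rw [← Finite.one_lt_card_iff_nontrivial]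
      exact Subgroup.one_lt_index_of_ne_top hZt
    haveI := IsPGroup.center_nontrivial (hR.to_quotient Z)
    obtain ⟨⟨q, hq⟩, hq1⟩ := exists_ne (1 : Subgroup.center (R ⧸ Z))
    obtain ⟨e, rfl⟩ := QuotientGroup.mk_surjective q
    have he1 : e ∉ Z := by
      intro h
      apply hq1
      apply Subtype.ext
      exact (QuotientGroup.eq_one_iff e).2 h
    have he2 : ∀ c : R, c * e * c⁻¹ * e⁻¹ ∈ Z := by
      intro c
      rw [← QuotientGroup.eq_one_iff]
      have := Subgroup.mem_center_iff.1 hq (c : R ⧸ Z)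
      rw [QuotientGroup.mk_mul, QuotientGroup.mk_mul, QuotientGroup.mk_mul, QuotientGroup.mk_inv,
        QuotientGroup.mk_inv, this]
      group
    obtain ⟨M, hM⟩ : ∃ M : Subgroup R, M = (Subgroup.centralizer {ρ e}).comap ρ := ⟨_, rfl⟩
    have hMmem : ∀ c : R, c ∈ M ↔ Commute (ρ c) (ρ e) := by
      intro c
      rw [hM, Subgroup.mem_comap, Subgroup.mem_centralizer_iff]
      constructor
      · intro h
        exact (h (ρ e) rfl).symm
      · rintro h _ rfl
        exact h.eq.symm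
    have hMt : M ≠ ⊤ := by
      intro h
      apply he1
      rw [hZmem]
      intro g
      have : g ∈ M := by rw [h]; exact Subgroup.mem_top g
      exact ((hMmem g).1 this).symm
    obtain ⟨c, hcC, hc⟩ := hgen C hC M hMt
    obtain ⟨d, hdD, hd⟩ := hgen D hD M hMt
    have hne : ∀ c : R, c ∉ M → ρ (c * e * c⁻¹ * e⁻¹) ≠ 1 := by
      intro c hc h
      apply hc
      rw [hMmem]
      rw [map_mul, map_mul, map_mul, map_inv, map_inv] at h
      have : ρ c * ρ e = ρ e * ρ c := by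
        calc ρ c * ρ e = (ρ c * ρ e * (ρ c)⁻¹ * (ρ e)⁻¹) * (ρ e * ρ c) := by group
          _ = ρ e * ρ c := by rw [h, one_mul]
      exact this
    have hcp := fix_pow_le p hR hV ρ hirr e c (fun g => (hZmem _).1 (he2 c) g) (hne c hc)
    have hdp := fix_pow_le p hR hV ρ hirr e d (fun g => (hZmem _).1 (he2 d) g) (hne d hd)
    have hsurj : Function.Surjective
        (fun yw : fixSub (ρ d) × fixSub (ρ c) => (yw.1 : V) * (yw.2 : V)) := by
      intro x
      obtain ⟨y, hy1, hy2⟩ := hF c hcC d hdD x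
      refine ⟨(⟨y, hy1⟩, ⟨y⁻¹ * x, hy2⟩), ?_⟩
      simp
    have hn := Nat.card_le_card_of_surjective _ hsurj
    rw [Nat.card_prod] at hn
    have hn2 : 2 ≤ Nat.card V := Finite.one_lt_card
    obtain ⟨a, ha⟩ : ∃ a, a = Nat.card (fixSub (ρ c)) := ⟨_, rfl⟩
    obtain ⟨b, hb⟩ : ∃ b, b = Nat.card (fixSub (ρ d)) := ⟨_, rfl⟩
    obtain ⟨n, hn'⟩ : ∃ n, n = Nat.card V := ⟨_, rfl⟩
    rw [← ha] at hcp hn
    rw [← hb] at hdp hn
    rw [← hn'] at hcp hdp hn hn2
    have h1 : n ^ p ≤ (b * a) ^ p := Nat.pow_le_pow_left hn p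
    rw [mul_pow] at h1
    have h2 : b ^ p * a ^ p ≤ n * n := Nat.mul_le_mul hdp hcp
    have h3 : n ^ 3 ≤ n ^ p := Nat.pow_le_pow_right (by omega) hp3
    have h4 : n ^ 3 ≤ n * n := h3.trans (h1.trans h2)
    have h5 : n ^ 3 = n * n * n := by ring
    rw [h5] at h4
    have h6 : n * n * 2 ≤ n * n * n := Nat.mul_le_mul_left _ hn2
    have h7 : 0 < n * n := by positivity
    nlinarith

end Cfsg.Agent.Lib.Helper17.BS1
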