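import Mathlib
import Cfsg.Agent.Lib.Helper17.BS1
import Cfsg.Agent.Lib.Helper12.SylowBasic
import Cfsg.Agent.Lib.Helper16.Generation
import Cfsg.Agent.Lib.Helper19.RelIndex
import Cfsg.Agent.Lib.Helper9.Coprime

set_option autoImplicit false

namespace Cfsg.Agent.Lib.Helper17.BS2

open Subgroup
open scoped Pointwise

universe u

variable {G : Type u} [Group G]

/-- closure of the preimage of a subset of a subgroup -/
theorem closure_preimage (K : Subgroup G) (S : Set G) (hS : S ⊆ K) :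
    closure (K.subtype ⁻¹' S) = (closure S).subgroupOf K := by
  apply Subgroup.map_injective K.subtype_injective
  rw [MonoidHom.map_closure, Subgroup.map_subgroupOf_eq_of_le ((closure_le K).2 hS)]
  congr 1
  apply Set.image_preimage_eq_of_subset
  intro s hs
  exact ⟨⟨s, hS hs⟩, rfl⟩

theorem inf_bot_of_coprime [Finite G] {p : ℕ} [Fact p.Prime] (N P : Subgroup G)
    (hP : IsPGroup p P) (hcop : (Nat.card N).Coprime p) : ∀ y ∈ N, y ∈ P → y = 1 := by
  intro y hyN hyP
  obtain ⟨k, hk⟩ := IsPGroup.iff_card.1 hP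
  have h1 : (Nat.card N).Coprime (Nat.card P) := by rw [hk]; exact Nat.Coprime.pow_right k hcop
  have h2 := Subgroup.inf_eq_bot_of_coprime h1
  have : y ∈ N ⊓ P := ⟨hyN, hyP⟩
  rw [h2] at this
  exact Subgroup.mem_bot.1 this

/-- Sylow's theorem in `N ⊔ P` -/
theorem sylow_in_sup [Finite G] {p : ℕ} [Fact p.Prime] (N P R : Subgroup G)
    (hP : IsPGroup p P) (hcop : (Nat.card N).Coprime p)
    (hPN : P ≤ normalizer (N : Set G)) (hR : IsPGroup p R) (hRK : R ≤ N ⊔ P) :
    ∃ y ∈ N, ∀ r ∈ R, y⁻¹ * r * y ∈ P := by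
  obtain ⟨K, hK⟩ : ∃ K, K = N ⊔ P := ⟨_, rfl⟩
  rw [← hK] at hRK
  have hNK : N ≤ K := hK ▸ le_sup_left
  have hPK : P ≤ K := hK ▸ le_sup_right
  have hbot := inf_bot_of_coprime N P hP hcop
  have hdis : Disjoint (N.subgroupOf K) (P.subgroupOf K) := by
    rw [Subgroup.disjoint_def]
    intro x hx1 hx2
    rw [Subgroup.mem_subgroupOf] at hx1 hx2
    exact Subtype.ext (hbot _ hx1 hx2)
  have hmul : ((N.subgroupOf K : Subgroup K) : Set K) * ((P.subgroupOf K : Subgroup K) : Set K)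
      = Set.univ := by
    rw [Set.eq_univ_iff_forall]
    intro k
    obtain ⟨a, ha, b, hb, hab⟩ := Cfsg.Agent.Lib.Helper19.exists_mul_of_mem_sup N P hPN k.1
      (hK ▸ k.2)
    rw [Set.mem_mul]
    refine ⟨⟨a, hNK ha⟩, ?_, ⟨b, hPK hb⟩, ?_, ?_⟩
    · exact Subgroup.mem_subgroupOf.2 ha
    · exact Subgroup.mem_subgroupOf.2 hb
    · exact Subtype.ext hab.symm
  have hcompl := Subgroup.isComplement'_of_disjoint_and_mul_eq_univ hdis hmul
  have hidx : (P.subgroupOf K).index = Nat.card N := by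
    rw [hcompl.index_eq_card]
    exact Nat.card_congr (Subgroup.subgroupOfEquivOfLe hNK).toEquiv
  have hp : p.Prime := Fact.out
  have hnd : ¬ p ∣ (P.subgroupOf K).index := by
    rw [hidx]
    intro h
    exact hp.one_lt.ne' (Nat.Coprime.eq_one_of_dvd hcop.symm h)
  have hPK' : IsPGroup p (P.subgroupOf K) := hP.comap_subtype
  obtain ⟨g, hg⟩ := Cfsg.Agent.Lib.Helper12.SylowBasic.exists_conj_le_sylow (hPK'.toSylow hnd)
    (R.subgroupOf K) hR.comap_subtype
  obtain ⟨a, ha, b, hb, hab⟩ := Cfsg.Agent.Lib.Helper19.exists_mul_of_mem_sup N P hPN (g⁻¹).1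
    (hK ▸ (g⁻¹).2)
  refine ⟨a, ha, fun r hr => ?_⟩
  have h1 := hg ⟨r, hRK hr⟩ (Subgroup.mem_subgroupOf.2 hr)
  rw [IsPGroup.toSylow_coe, Subgroup.mem_subgroupOf] at h1
  have h2 : (g : G) = b⁻¹ * a⁻¹ := by
    have : ((g⁻¹ : K) : G) = (g : G)⁻¹ := rfl
    rw [this] at hab
    rw [← inv_inv (g : G), hab]; group
  have h3 : ((g * ⟨r, hRK hr⟩ * g⁻¹ : K) : G) = b⁻¹ * (a⁻¹ * r * a) * b := by
    have : ((g * ⟨r, hRK hr⟩ * g⁻¹ : K) : G) = (g : G) * r * (g : G)⁻¹ := rfl
    rw [this, h2]; group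
  rw [h3] at h1
  have h4 : a⁻¹ * r * a = b * (b⁻¹ * (a⁻¹ * r * a) * b) * b⁻¹ := by group
  rw [h4]
  exact P.mul_mem (P.mul_mem hb h1) (P.inv_mem hb)

/-- the factorisation `N = C_N(d) C_N(c)` -/
theorem factor [Finite G] {p : ℕ} [Fact p.Prime] (N P : Subgroup G) (C D : Set G)
    (hP : IsPGroup p P) (hcop : (Nat.card N).Coprime p)
    (hPN : P ≤ normalizer (N : Set G)) (hC : closure C = P) (hD : closure D = P)
    (hH : ∀ x ∈ N, ∀ c ∈ C, ∀ d ∈ D, IsPGroup p ↥(closure ({x * c * x⁻¹, d} : Set G))) :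
    ∀ x ∈ N, ∀ c ∈ C, ∀ d ∈ D, ∃ y ∈ N, y * d = d * y ∧ (y⁻¹ * x) * c = c * (y⁻¹ * x) := by
  intro x hx c hc d hd
  have hcP : c ∈ P := hC ▸ subset_closure hc
  have hdP : d ∈ P := hD ▸ subset_closure hd
  have hbot := inf_bot_of_coprime N P hP hcop
  have hRK : closure ({x * c * x⁻¹, d} : Set G) ≤ N ⊔ P := by
    rw [closure_le]
    intro z hz
    rcases hz with rfl | rfl
    · exact mul_mem (mul_mem (mem_sup_left hx) (mem_sup_right hcP)) (inv_mem (mem_sup_left hx))
    · exact mem_sup_right hdP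
  obtain ⟨y, hyN, hy⟩ := sylow_in_sup N P _ hP hcop hPN (hH x hx c hc d hd) hRK
  have h1 : y⁻¹ * d * y ∈ P := hy d (subset_closure (by simp))
  have h2 : y⁻¹ * (x * c * x⁻¹) * y ∈ P := hy _ (subset_closure (by simp))
  refine ⟨y, hyN, ?_, ?_⟩
  · have e1 : y⁻¹ * d * y * d⁻¹ ∈ P := P.mul_mem h1 (P.inv_mem hdP)
    have e2 : y⁻¹ * d * y * d⁻¹ ∈ N := by
      have : y⁻¹ * d * y * d⁻¹ = y⁻¹ * (d * y * d⁻¹) := by group
      rw [this]
      exact N.mul_mem (N.inv_mem hyN) ((mem_normalizer_iff.1 (hPN hdP) y).1 hyN)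
    have e3 := hbot _ e2 e1
    calc y * d = y * (y⁻¹ * d * y * d⁻¹) * d := by rw [e3]; group
      _ = d * y := by group
  · have hw : y⁻¹ * x ∈ N := N.mul_mem (N.inv_mem hyN) hx
    have e1 : (y⁻¹ * x) * c * (y⁻¹ * x)⁻¹ * c⁻¹ ∈ P := by
      have : (y⁻¹ * x) * c * (y⁻¹ * x)⁻¹ = y⁻¹ * (x * c * x⁻¹) * y := by group
      rw [this]
      exact P.mul_mem h2 (P.inv_mem hcP)
    have e2 : (y⁻¹ * x) * c * (y⁻¹ * x)⁻¹ * c⁻¹ ∈ N := by
      have : (y⁻¹ * x) * c * (y⁻¹ * x)⁻¹ * c⁻¹ = (y⁻¹ * x) * (c * (y⁻¹ * x)⁻¹ * c⁻¹) := by group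
      rw [this]
      exact N.mul_mem hw ((mem_normalizer_iff.1 (hPN hcP) _).1 (N.inv_mem hw))
    have e3 := hbot _ e2 e1
    calc (y⁻¹ * x) * c = ((y⁻¹ * x) * c * (y⁻¹ * x)⁻¹ * c⁻¹) * c * (y⁻¹ * x) := by group
      _ = c * (y⁻¹ * x) := by rw [e3]; group

/-- the coprime action lemma: `[N,P] ≤ M ≤ C(P)` forces `[N,P] = 1` -/
theorem coprime_step [Finite G] {p : ℕ} [Fact p.Prime] (N P M : Subgroup G)
    (hP : IsPGroup p P) (hcop : (Nat.card N).Coprime p)
    (hcen : ∀ g ∈ P, ∀ m ∈ M, g * m = m * g)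
    (hcomm : ∀ g ∈ P, ∀ x ∈ N, g * x * g⁻¹ * x⁻¹ ∈ M) (hMN : M ≤ N)
    (hNM : N ≤ normalizer (M : Set G)) : ∀ g ∈ P, ∀ x ∈ N, g * x = x * g := by
  intro g hg x hx
  obtain ⟨l, hl⟩ : ∃ l, l = x⁻¹ * (g * x * g⁻¹) := ⟨_, rfl⟩
  have hlM : l ∈ M := by
    have h1 := (mem_normalizer_iff.1 (hNM (N.inv_mem hx)) _).1 (hcomm g hg x hx)
    have : x⁻¹ * (g * x * g⁻¹ * x⁻¹) * x⁻¹⁻¹ = l := by rw [hl]; group
    rw [this] at h1
    exact h1
  have hgl : g * l = l * g := hcen g hg l hlM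
  have hgx : g * x * g⁻¹ = x * l := by rw [hl]; group
  have hglk : ∀ k : ℕ, g * l ^ k * g⁻¹ = l ^ k := by
    intro k
    have : Commute g (l ^ k) := (show Commute g l from hgl).pow_right k
    rw [this.eq]; group
  have key : ∀ k : ℕ, g ^ k * x * (g ^ k)⁻¹ = x * l ^ k := by
    intro k
    induction k with
    | zero => simp
    | succ k ih =>
      have e1 : g ^ (k + 1) * x * (g ^ (k + 1))⁻¹ = g * (g ^ k * x * (g ^ k)⁻¹) * g⁻¹ := by
        rw [pow_succ']; group
      rw [e1, ih]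
      have e2 : g * (x * l ^ k) * g⁻¹ = (g * x * g⁻¹) * (g * l ^ k * g⁻¹) := by group
      rw [e2, hgx, hglk, pow_succ']
      group
  obtain ⟨a, ha⟩ := hP ⟨g, hg⟩
  have hga : g ^ (p ^ a) = 1 := by
    have e := congrArg (fun z : P => (z : G)) ha
    simp only [SubmonoidClass.coe_pow, OneMemClass.coe_one] at e
    exact e
  have h1 := key (p ^ a)
  rw [hga] at h1
  have h2 : l ^ (p ^ a) = 1 := by
    have : x * l ^ (p ^ a) = x * 1 := by rw [← h1]; group
    exact mul_left_cancel this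
  have h3 : l ^ Nat.card N = 1 := by
    have h3' : (⟨l, hMN hlM⟩ : N) ^ Nat.card N = 1 := pow_card_eq_one'
    have e := congrArg (fun z : N => (z : G)) h3'
    simp only [SubmonoidClass.coe_pow, OneMemClass.coe_one] at e
    exact e
  have h4 := (pow_gcd_eq_one (n := Nat.card N) (m := p ^ a) (a := l)).2 ⟨h2, h3⟩
  rw [Nat.Coprime.gcd_eq_one (Nat.Coprime.pow_left a hcop.symm), pow_one] at h4
  rw [h4, mul_one] at hgx
  calc g * x = (g * x * g⁻¹) * g := by group
    _ = x * g := by rw [hgx]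

/-- the quotient step -/
theorem quot_step [Finite G] {p : ℕ} [Fact p.Prime] (N P M : Subgroup G) (C D : Set G)
    (hP : IsPGroup p P) (hcop : (Nat.card N).Coprime p)
    (hPN : P ≤ normalizer (N : Set G)) (hC : closure C = P) (hD : closure D = P)
    (hH : ∀ x ∈ N, ∀ c ∈ C, ∀ d ∈ D, IsPGroup p ↥(closure ({x * c * x⁻¹, d} : Set G)))
    (hM1 : M ≠ ⊥) (hMN : M ≤ N) (hNM : N ≤ normalizer (M : Set G))
    (hPM : P ≤ normalizer (M : Set G))
    (IH : ∀ (G' : Type u) [Group G'] [Finite G'] (N' P' : Subgroup G') (C' D' : Set G'),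
      Nat.card N' < Nat.card N → IsPGroup p P' → (Nat.card N').Coprime p →
      P' ≤ normalizer (N' : Set G') → closure C' = P' → closure D' = P' →
      (∀ x ∈ N', ∀ c ∈ C', ∀ d ∈ D', IsPGroup p ↥(closure ({x * c * x⁻¹, d} : Set G'))) →
      ∀ g ∈ P', ∀ x ∈ N', g * x = x * g) :
    ∀ g ∈ P, ∀ x ∈ N, g * x * g⁻¹ * x⁻¹ ∈ M := by
  obtain ⟨K, hK⟩ : ∃ K : Subgroup G, K = normalizer (M : Set G) := ⟨_, rfl⟩
  rw [← hK] at hNM hPM
  haveI hMKn : (M.subgroupOf K).Normal := by
    rw [hK]; exact Subgroup.normal_in_normalizer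
  obtain ⟨π, hπ⟩ : ∃ π : K →* K ⧸ M.subgroupOf K, π = QuotientGroup.mk' (M.subgroupOf K) :=
    ⟨_, rfl⟩
  have hCP : C ⊆ P := hC ▸ subset_closure
  have hDP : D ⊆ P := hD ▸ subset_closure
  have hCK : C ⊆ K := fun c hc => hPM (hCP hc)
  have hDK : D ⊆ K := fun c hc => hPM (hDP hc)
  have hclo : ∀ S : Set G, S ⊆ K → closure S = P →
      closure (π '' (K.subtype ⁻¹' S)) = (P.subgroupOf K).map π := by
    intro S hS hSP
    rw [← MonoidHom.map_closure, closure_preimage K S hS, hSP]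
  have hcomm := IH (K ⧸ M.subgroupOf K) ((N.subgroupOf K).map π) ((P.subgroupOf K).map π)
    (π '' (K.subtype ⁻¹' C)) (π '' (K.subtype ⁻¹' D)) ?_ ?_ ?_ ?_ (hclo C hCK hC) (hclo D hDK hD) ?_
  · intro g hg x hx
    have h1 := hcomm (π ⟨g, hPM hg⟩) (Subgroup.mem_map_of_mem π (Subgroup.mem_subgroupOf.2 hg))
      (π ⟨x, hNM hx⟩) (Subgroup.mem_map_of_mem π (Subgroup.mem_subgroupOf.2 hx))
    have h2 : π (⟨g, hPM hg⟩ * ⟨x, hNM hx⟩ * ⟨g, hPM hg⟩⁻¹ * ⟨x, hNM hx⟩⁻¹) = 1 := by
      rw [map_mul, map_mul, map_mul, map_inv, map_inv, h1]; group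
    rw [hπ, QuotientGroup.mk'_apply, QuotientGroup.eq_one_iff, Subgroup.mem_subgroupOf] at h2
    exact h2
  · -- cardinality
    have hNK : Nat.card (N.subgroupOf K) = Nat.card N :=
      Nat.card_congr (Subgroup.subgroupOfEquivOfLe hNM).toEquiv
    rw [← hNK]
    have hs := π.subgroupMap_surjective (N.subgroupOf K)
    have hni : ¬ Function.Injective (π.subgroupMap (N.subgroupOf K)) := by
      intro hinj
      obtain ⟨⟨m, hmM⟩, hm1'⟩ := (Subgroup.ne_bot_iff_exists_ne_one (H := M)).1 hM1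
      have hm1 : m ≠ 1 := fun h => hm1' (Subtype.ext h)
      have hmK : m ∈ K := hNM (hMN hmM)
      have e1 : π.subgroupMap (N.subgroupOf K) ⟨⟨m, hmK⟩, Subgroup.mem_subgroupOf.2 (hMN hmM)⟩
          = π.subgroupMap (N.subgroupOf K) 1 := by
        apply Subtype.ext
        rw [map_one]
        change π ⟨m, hmK⟩ = 1
        rw [hπ, QuotientGroup.mk'_apply, QuotientGroup.eq_one_iff, Subgroup.mem_subgroupOf]
        exact hmM
      have e2 := hinj e1
      have e3 := congrArg (fun z : N.subgroupOf K => ((z : K) : G)) e2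
      exact hm1 e3
    have := Fintype.ofFinite ↥(N.subgroupOf K)
    have := Fintype.ofFinite ↥((N.subgroupOf K).map π)
    have h := Fintype.card_lt_of_surjective_not_injective _ hs hni
    rw [← Nat.card_eq_fintype_card, ← Nat.card_eq_fintype_card] at h
    exact h
  · exact hP.comap_subtype.map π
  · have hNK : Nat.card (N.subgroupOf K) = Nat.card N :=
      Nat.card_congr (Subgroup.subgroupOfEquivOfLe hNM).toEquiv
    have hd := Subgroup.card_dvd_of_surjective _ (π.subgroupMap_surjective (N.subgroupOf K))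
    rw [hNK] at hd
    exact Nat.Coprime.coprime_dvd_left hd hcop
  · refine le_trans (Subgroup.map_mono ?_) (Subgroup.le_normalizer_map π)
    intro g hg
    rw [Subgroup.mem_subgroupOf] at hg
    rw [mem_normalizer_iff]
    intro h
    rw [Subgroup.mem_subgroupOf, Subgroup.mem_subgroupOf]
    exact mem_normalizer_iff.1 (hPN hg) h.1
  · rintro x' hx' c' ⟨ck, hck, rfl⟩ d' ⟨dk, hdk, rfl⟩
    obtain ⟨xk, hxk, rfl⟩ := Subgroup.mem_map.1 hx'
    rw [Subgroup.mem_subgroupOf] at hxk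
    have hp1 := hH xk.1 hxk ck.1 hck dk.1 hdk
    have e1 : ({π xk * π ck * (π xk)⁻¹, π dk} : Set (K ⧸ M.subgroupOf K))
        = π '' ({xk * ck * xk⁻¹, dk} : Set K) := by
      rw [Set.image_pair, map_mul, map_mul, map_inv]
    rw [e1, ← MonoidHom.map_closure]
    apply IsPGroup.map
    apply (hp1.comap_subtype (K := K)).to_le
    rw [closure_le]
    intro z hz
    rcases hz with rfl | rfl
    · exact subset_closure (by simp)
    · exact subset_closure (by simp)

theorem main (p : ℕ) [Fact p.Prime] (hp3 : 3 ≤ p) : ∀ (n : ℕ) (G : Type u) [Group G] [Finite G]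
    (N P : Subgroup G) (C D : Set G), Nat.card N = n → IsPGroup p P → (Nat.card N).Coprime p →
    P ≤ normalizer (N : Set G) → closure C = P → closure D = P →
    (∀ x ∈ N, ∀ c ∈ C, ∀ d ∈ D, IsPGroup p ↥(closure ({x * c * x⁻¹, d} : Set G))) →
    ∀ g ∈ P, ∀ x ∈ N, g * x = x * g := by
  intro n
  induction n using Nat.strong_induction_on with
  | _ n ih =>
  intro G _ _ N P C D hn hP hcop hPN hC hD hH
  have IH : ∀ (G' : Type u) [Group G'] [Finite G'] (N' P' : Subgroup G') (C' D' : Set G'),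
      Nat.card N' < Nat.card N → IsPGroup p P' → (Nat.card N').Coprime p →
      P' ≤ normalizer (N' : Set G') → closure C' = P' → closure D' = P' →
      (∀ x ∈ N', ∀ c ∈ C', ∀ d ∈ D', IsPGroup p ↥(closure ({x * c * x⁻¹, d} : Set G'))) →
      ∀ g ∈ P', ∀ x ∈ N', g * x = x * g := by
    intro G' _ _ N' P' C' D' hlt
    exact ih (Nat.card N') (hn ▸ hlt) G' N' P' C' D' rfl
  have IHa : ∀ Q : Subgroup G, Q ≤ N → Q ≠ N → P ≤ normalizer (Q : Set G) →
      ∀ g ∈ P, ∀ x ∈ Q, g * x = x * g := by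
    intro Q hQN hQne hPQ
    exact IH G Q P C D (Cfsg.Agent.Lib.Helper9.card_lt_of_le_of_ne hQN hQne) hP
      (Nat.Coprime.coprime_dvd_left (Subgroup.card_dvd_of_le hQN) hcop) hPQ hC hD
      (fun x hx => hH x (hQN hx))
  have RR : ∀ M : Subgroup G, M ≠ ⊥ → M ≤ N → N ≤ normalizer (M : Set G) →
      P ≤ normalizer (M : Set G) → (∀ g ∈ P, ∀ m ∈ M, g * m = m * g) →
      ∀ g ∈ P, ∀ x ∈ N, g * x = x * g := by
    intro M h1 h2 h3 h4 h5
    exact coprime_step N P M hP hcop h5
      (quot_step N P M C D hP hcop hPN hC hD hH h1 h2 h3 h4 IH) h2 h3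
  by_contra hcon
  -- N is a q-group
  have hq : ∃ q : ℕ, q.Prime ∧ IsPGroup q N := by
    by_contra hno
    apply hcon
    have hZ : ∀ q : ℕ, q.Prime → q ^ (Nat.card N).factorization q ∣
        Nat.card (N ⊓ centralizer (P : Set G) : Subgroup G) := by
      intro q hq
      haveI : Fact q.Prime := ⟨hq⟩
      obtain ⟨Q, hQ⟩ := Cfsg.Agent.Lib.Helper16.Generation.exists_invariant_sylow (p := p) q
        hcop hP hPN
      have hQN : (Q : Subgroup N).map N.subtype ≤ N := Subgroup.map_subtype_le _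
      have hQne : (Q : Subgroup N).map N.subtype ≠ N := by
        intro h
        apply hno
        refine ⟨q, hq, ?_⟩
        have ht : (Q : Subgroup N) = ⊤ := by
          apply Subgroup.map_injective N.subtype_injective
          rw [h, ← MonoidHom.range_eq_map, Subgroup.range_subtype]
        have := Q.isPGroup'
        rw [ht] at this
        exact IsPGroup.of_equiv this Subgroup.topEquiv
      have hcen := IHa _ hQN hQne hQ
      have hle : (Q : Subgroup N).map N.subtype ≤ N ⊓ centralizer (P : Set G) := by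
        refine le_inf hQN (fun x hx => ?_)
        rw [mem_centralizer_iff]
        intro g hg
        exact hcen g hg x hx
      have hc : Nat.card ((Q : Subgroup N).map N.subtype) = q ^ (Nat.card N).factorization q := by
        rw [Subgroup.card_map_of_injective N.subtype_injective]
        exact Q.card_eq_multiplicity
      rw [← hc]
      exact Subgroup.card_dvd_of_le hle
    have hdiv : Nat.card N ∣ Nat.card (N ⊓ centralizer (P : Set G) : Subgroup G) := by
      rw [← Nat.factorization_le_iff_dvd Nat.card_pos.ne' Nat.card_pos.ne']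
      intro q
      by_cases hq : q.Prime
      · exact (hq.pow_dvd_iff_le_factorization Nat.card_pos.ne').1 (hZ q hq)
      · rw [Nat.factorization_eq_zero_of_not_prime _ hq]; exact Nat.zero_le _
    have heq : N ⊓ centralizer (P : Set G) = N :=
      Subgroup.eq_of_le_of_card_ge inf_le_left (Nat.le_of_dvd Nat.card_pos hdiv)
    intro g hg x hx
    have : x ∈ N ⊓ centralizer (P : Set G) := by rw [heq]; exact hx
    exact mem_centralizer_iff.1 this.2 g hg
  obtain ⟨q, hqp, hNq⟩ := hq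
  have hN1 : N ≠ ⊥ := by
    rintro rfl
    apply hcon
    intro g hg x hx
    rw [Subgroup.mem_bot.1 hx]; simp
  haveI hNnt : Nontrivial N := (Subgroup.nontrivial_iff_ne_bot N).2 hN1
  -- N is abelian
  have hNab : ∀ x ∈ N, ∀ y ∈ N, x * y = y * x := by
    by_contra hnab
    obtain ⟨M, hM⟩ : ∃ M, M = N ⊓ centralizer (N : Set G) := ⟨_, rfl⟩
    have hMmem : ∀ m, m ∈ M ↔ m ∈ N ∧ ∀ h ∈ N, h * m = m * h := by
      intro m
      rw [hM, Subgroup.mem_inf, mem_centralizer_iff]; rfl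
    have hM1 : M ≠ ⊥ := by
      haveI : Fact q.Prime := ⟨hqp⟩
      haveI := IsPGroup.center_nontrivial hNq
      obtain ⟨⟨z, hz⟩, hz1⟩ := exists_ne (1 : Subgroup.center N)
      intro hbot
      have : (z : G) ∈ M := by
        rw [hMmem]
        refine ⟨z.2, fun h hh => ?_⟩
        have := Subgroup.mem_center_iff.1 hz ⟨h, hh⟩
        exact congrArg Subtype.val this
      rw [hbot, Subgroup.mem_bot] at this
      exact hz1 (Subtype.ext (Subtype.ext this))
    have hMN : M ≤ N := hM ▸ inf_le_left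
    have hMne : M ≠ N := by
      intro h
      apply hnab
      intro x hx y hy
      have : x ∈ M := h ▸ hx
      exact (((hMmem x).1 this).2 y hy).symm
    have hNM : N ≤ normalizer (M : Set G) := by
      intro n hn'
      rw [mem_normalizer_iff]
      intro m
      constructor
      · intro hm
        have := ((hMmem m).1 hm).2 n hn'
        have e : n * m * n⁻¹ = m := by rw [this]; group
        rw [e]; exact hm
      · intro hm
        have := ((hMmem _).1 hm).2 n hn'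
        have e : n * m * n⁻¹ = m := by
          have e1 : n * m * n⁻¹ = n⁻¹ * (n * (n * m * n⁻¹)) := by group
          rw [e1, this]; group
        rw [← e]; exact hm
    have hPMaux : ∀ g ∈ P, ∀ m ∈ M, g * m * g⁻¹ ∈ M := by
      intro g hg m hm
      rw [hMmem] at hm ⊢
      refine ⟨(mem_normalizer_iff.1 (hPN hg) m).1 hm.1, fun h hh => ?_⟩
      have h1 : g⁻¹ * h * g⁻¹⁻¹ ∈ N := (mem_normalizer_iff.1 (hPN (P.inv_mem hg)) h).1 hh
      have h2 := hm.2 _ h1
      calc h * (g * m * g⁻¹) = g * ((g⁻¹ * h * g⁻¹⁻¹) * m) * g⁻¹ := by group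
        _ = g * (m * (g⁻¹ * h * g⁻¹⁻¹)) * g⁻¹ := by rw [h2]
        _ = g * m * g⁻¹ * h := by group
    have hPM : P ≤ normalizer (M : Set G) := by
      intro g hg
      rw [mem_normalizer_iff]
      intro m
      constructor
      · exact hPMaux g hg m
      · intro hm
        have := hPMaux g⁻¹ (P.inv_mem hg) _ hm
        have e : g⁻¹ * (g * m * g⁻¹) * g⁻¹⁻¹ = m := by group
        rw [e] at this
        exact this
    exact hcon (RR M hM1 hMN hNM hPM (IHa M hMN hMne hPM))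
  -- C_N(P) = 1
  have hCNP : ∀ x ∈ N, (∀ g ∈ P, g * x = x * g) → x = 1 := by
    by_contra hex
    obtain ⟨M, hM⟩ : ∃ M, M = N ⊓ centralizer (P : Set G) := ⟨_, rfl⟩
    have hMmem : ∀ m, m ∈ M ↔ m ∈ N ∧ ∀ h ∈ P, h * m = m * h := by
      intro m
      rw [hM, Subgroup.mem_inf, mem_centralizer_iff]; rfl
    have hM1 : M ≠ ⊥ := by
      intro hbot
      apply hex
      intro x hx hxP
      have : x ∈ M := (hMmem x).2 ⟨hx, hxP⟩
      rw [hbot] at this
      exact Subgroup.mem_bot.1 this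
    have hMN : M ≤ N := hM ▸ inf_le_left
    have hNM : N ≤ normalizer (M : Set G) := by
      intro n hn'
      rw [mem_normalizer_iff]
      intro m
      constructor
      · intro hm
        have := hNab n hn' m (hMN hm)
        have e : n * m * n⁻¹ = m := by rw [this]; group
        rw [e]; exact hm
      · intro hm
        have := hNab n hn' _ (hMN hm)
        have e : n * m * n⁻¹ = m := by
          have e1 : n * m * n⁻¹ = n⁻¹ * (n * (n * m * n⁻¹)) := by group
          rw [e1, this]; group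
        rw [← e]; exact hm
    have hcen : ∀ g ∈ P, ∀ m ∈ M, g * m = m * g := fun g hg m hm => ((hMmem m).1 hm).2 g hg
    have hPM : P ≤ normalizer (M : Set G) := by
      intro g hg
      rw [mem_normalizer_iff]
      intro m
      constructor
      · intro hm
        have := hcen g hg m hm
        have e : g * m * g⁻¹ = m := by rw [this]; group
        rw [e]; exact hm
      · intro hm
        have := hcen g hg _ hm
        have e : g * m * g⁻¹ = m := by
          have e1 : g * m * g⁻¹ = g⁻¹ * (g * (g * m * g⁻¹)) := by group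
          rw [e1, this]; group
        rw [← e]; exact hm
    exact hcon (RR M hM1 hMN hNM hPM hcen)
  -- the final configuration
  letI : CommGroup ↥N :=
    { (inferInstance : Group ↥N) with
      mul_comm := fun a b => Subtype.ext (hNab a.1 a.2 b.1 b.2) }
  obtain ⟨ρ, hρ⟩ : ∃ ρ : ↥P →* MulAut ↥N, ρ = N.normalizerMonoidHom.comp (Subgroup.inclusion hPN) :=
    ⟨_, rfl⟩
  have hρa : ∀ (g : ↥P) (x : ↥N), ((ρ g x : ↥N) : G) = (g : G) * (x : G) * (g : G)⁻¹ := by
    intro g x
    rw [hρ]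
    rfl
  have hirr : ∀ W : Subgroup ↥N, (∀ g : ↥P, ∀ v ∈ W, ρ g v ∈ W) → W = ⊥ ∨ W = ⊤ := by
    intro W hW
    have hQN : W.map N.subtype ≤ N := Subgroup.map_subtype_le _
    have hPQaux : ∀ g ∈ P, ∀ h ∈ W.map N.subtype, g * h * g⁻¹ ∈ W.map N.subtype := by
      intro g hg h hh
      obtain ⟨v, hv, rfl⟩ := Subgroup.mem_map.1 hh
      refine Subgroup.mem_map.2 ⟨ρ ⟨g, hg⟩ v, hW ⟨g, hg⟩ v hv, ?_⟩
      exact hρa ⟨g, hg⟩ v
    have hPQ : P ≤ normalizer ((W.map N.subtype : Subgroup G) : Set G) := by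
      intro g hg
      rw [mem_normalizer_iff]
      intro h
      constructor
      · exact hPQaux g hg h
      · intro hh
        have := hPQaux g⁻¹ (P.inv_mem hg) _ hh
        have e : g⁻¹ * (g * h * g⁻¹) * g⁻¹⁻¹ = h := by group
        rw [e] at this
        exact this
    by_cases hQ : W.map N.subtype = N
    · right
      rw [eq_top_iff]
      intro w _
      have : (w : G) ∈ W.map N.subtype := by rw [hQ]; exact w.2
      obtain ⟨v, hv, hvw⟩ := Subgroup.mem_map.1 this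
      have : v = w := Subtype.ext hvw
      rw [← this]; exact hv
    · left
      rw [Subgroup.eq_bot_iff_forall]
      intro v hv
      have h1 := IHa _ hQN hQ hPQ
      have h2 := hCNP v.1 v.2 (fun g hg => h1 g hg v.1 (Subgroup.mem_map_of_mem N.subtype hv))
      exact Subtype.ext h2
  have hfix : ∀ v : ↥N, (∀ g, ρ g v = v) → v = 1 := by
    intro v hv
    apply Subtype.ext
    apply hCNP v.1 v.2
    intro g hg
    have h1 := congrArg Subtype.val (hv ⟨g, hg⟩)
    rw [hρa] at h1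
    calc g * v.1 = (g * v.1 * g⁻¹) * g := by group
      _ = v.1 * g := by rw [h1]
  have hCP : C ⊆ P := hC ▸ subset_closure
  have hDP : D ⊆ P := hD ▸ subset_closure
  have hC' : closure (P.subtype ⁻¹' C) = ⊤ := by
    rw [closure_preimage P C hCP, hC, Subgroup.subgroupOf_self]
  have hD' : closure (P.subtype ⁻¹' D) = ⊤ := by
    rw [closure_preimage P D hDP, hD, Subgroup.subgroupOf_self]
  have hfac := factor N P C D hP hcop hPN hC hD hH
  have hF : ∀ c ∈ P.subtype ⁻¹' C, ∀ d ∈ P.subtype ⁻¹' D, ∀ x : ↥N,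
      ∃ y : ↥N, ρ d y = y ∧ ρ c (y⁻¹ * x) = y⁻¹ * x := by
    intro c hc d hd x
    obtain ⟨y, hyN, hy1, hy2⟩ := hfac x.1 x.2 c.1 hc d.1 hd
    refine ⟨⟨y, hyN⟩, ?_, ?_⟩
    · apply Subtype.ext
      rw [hρa]
      change (d : G) * y * (d : G)⁻¹ = y
      rw [← hy1]; group
    · apply Subtype.ext
      rw [hρa]
      change (c : G) * (y⁻¹ * (x : G)) * (c : G)⁻¹ = y⁻¹ * (x : G)
      rw [← hy2]; group
  exact Cfsg.Agent.Lib.Helper17.BS1.final p hp3 hP hcop ρ hirr hfix _ _ hC' hD' hF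

end Cfsg.Agent.Lib.Helper17.BS2
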