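import Mathlib
import Cfsg.Prelude.Def_BaumannBlocks
import Cfsg.Agent.Lib.Helper17.CD

set_option autoImplicit false
open scoped Pointwise

namespace Cfsg.Agent.Lib.Helper17.CL

open Cfsg.Agent.Lib.Helper17.CD

variable {G : Type*} [Group G]

theorem map_center_eq (R : Subgroup G) :
    (Subgroup.center ↥R).map R.subtype = R ⊓ Subgroup.centralizer (R : Set G) := by
  ext x
  simp only [Subgroup.mem_map, Subgroup.mem_center_iff, Subgroup.mem_inf, Subgroup.mem_centralizer_iff,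
    SetLike.mem_coe, Subgroup.subtype_apply]
  constructor
  · rintro ⟨y, hy, rfl⟩
    refine ⟨y.2, fun h hh => ?_⟩
    have := hy ⟨h, hh⟩
    exact congrArg Subtype.val this
  · rintro ⟨hx, hc⟩
    refine ⟨⟨x, hx⟩, fun g => ?_, rfl⟩
    apply Subtype.ext
    exact hc g g.2

theorem card_center_eq (R : Subgroup G) :
    Nat.card (Subgroup.center ↥R) = Nat.card ↥(R ⊓ Subgroup.centralizer (R : Set G)) := by
  rw [← map_center_eq, Subgroup.card_map_of_injective R.subtype_injective]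

noncomputable def cmeas (R : Subgroup G) : ℕ :=
  Nat.card R * Nat.card ↥(R ⊓ Subgroup.centralizer (R : Set G))

theorem cmeas_eq (R : Subgroup G) : cmeas R = Nat.card ↥R * Nat.card ↥(Subgroup.center ↥R) := by
  unfold cmeas; rw [card_center_eq]

theorem isCentrallyLarge_iff (R : Subgroup G) :
    Cfsg.IsCentrallyLarge R ↔ cmeas R = Cfsg.maxCentralProduct G := by
  unfold Cfsg.IsCentrallyLarge; rw [cmeas_eq]

theorem cmeas_le_meas [Finite G] (R : Subgroup G) : cmeas R ≤ meas R := by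
  unfold cmeas meas
  exact Nat.mul_le_mul le_rfl (Subgroup.card_le_of_le inf_le_right)

theorem bddAbove_cmeas [Finite G] :
    BddAbove {k : ℕ | ∃ R : Subgroup G, Nat.card ↥R * Nat.card ↥(Subgroup.center ↥R) = k} := by
  refine ⟨Nat.card G * Nat.card G, ?_⟩
  rintro k ⟨R, rfl⟩
  rw [card_center_eq]
  exact Nat.mul_le_mul (Subgroup.card_le_card_group R) (Subgroup.card_le_card_group _)

theorem cmeas_le_max [Finite G] (R : Subgroup G) : cmeas R ≤ Cfsg.maxCentralProduct G :=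
  le_csSup bddAbove_cmeas ⟨R, (cmeas_eq R).symm⟩

theorem exists_cmeas_eq_max [Finite G] : ∃ R : Subgroup G, cmeas R = Cfsg.maxCentralProduct G := by
  have h : sSup {k : ℕ | ∃ R : Subgroup G, Nat.card ↥R * Nat.card ↥(Subgroup.center ↥R) = k} ∈
      {k : ℕ | ∃ R : Subgroup G, Nat.card ↥R * Nat.card ↥(Subgroup.center ↥R) = k} :=
    Nat.sSup_mem ⟨_, ⊥, rfl⟩ bddAbove_cmeas
  obtain ⟨R, hR⟩ := h
  exact ⟨R, (cmeas_eq R).trans hR⟩

theorem exists_cl [Finite G] : ∃ R : Subgroup G, Cfsg.IsCentrallyLarge R := by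
  obtain ⟨R, hR⟩ := exists_cmeas_eq_max (G := G)
  exact ⟨R, (isCentrallyLarge_iff R).2 hR⟩

theorem max_eq [Finite G] : Cfsg.maxCentralProduct G = Cfsg.maxCentralizerProduct G := by
  apply le_antisymm
  · obtain ⟨R, hR⟩ := exists_cmeas_eq_max (G := G)
    rw [← hR]
    exact (cmeas_le_meas R).trans (meas_le_max R)
  · obtain ⟨Q, hQ⟩ := exists_meas_eq_max (G := G)
    have hQ' : Cfsg.IsCentralizerLarge Q := hQ
    obtain ⟨hC, hCC⟩ := large_centralizer hQ'
    obtain ⟨hX, -⟩ := large_sup_inf hQ' hC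
    have hcx : Subgroup.centralizer ((Q ⊔ Subgroup.centralizer (Q : Set G) : Subgroup G) : Set G) =
        Subgroup.centralizer (Q : Set G) ⊓ Q := by
      rw [centralizer_sup, ← hCC]
    have hle : Subgroup.centralizer (Q : Set G) ⊓ Q ≤ Q ⊔ Subgroup.centralizer (Q : Set G) :=
      inf_le_right.trans le_sup_left
    have : cmeas (Q ⊔ Subgroup.centralizer (Q : Set G)) = meas (Q ⊔ Subgroup.centralizer (Q : Set G)) := by
      unfold cmeas meas
      rw [hcx, inf_eq_right.2 hle]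
    have hX' : meas (Q ⊔ Subgroup.centralizer (Q : Set G)) = Cfsg.maxCentralizerProduct G := hX
    rw [← hX', ← this]
    exact cmeas_le_max _

theorem cl_large [Finite G] {Q : Subgroup G} (hQ : Cfsg.IsCentrallyLarge Q) :
    Cfsg.IsCentralizerLarge Q ∧ Subgroup.centralizer (Q : Set G) = Q ⊓ Subgroup.centralizer (Q : Set G) := by
  rw [isCentrallyLarge_iff, max_eq] at hQ
  have h1 := cmeas_le_meas Q
  have h2 := meas_le_max Q
  have h3 : meas Q = Cfsg.maxCentralizerProduct G := by omega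
  refine ⟨h3, ?_⟩
  symm
  apply Subgroup.eq_of_le_of_card_ge inf_le_right
  have h4 : meas Q = cmeas Q := by omega
  unfold meas cmeas at h4
  have hpos : 0 < Nat.card Q := Nat.card_pos
  exact Nat.le_of_mul_le_mul_left h4.le hpos

theorem cl_iff [Finite G] {Q : Subgroup G} (hQ : Cfsg.IsCentralizerLarge Q) :
    Cfsg.IsCentrallyLarge Q ↔ Subgroup.centralizer (Q : Set G) ≤ Q := by
  constructor
  · intro h
    rw [(cl_large h).2]
    exact inf_le_left
  · intro h
    rw [isCentrallyLarge_iff, max_eq, ← (isCentralizerLarge_iff Q).1 hQ]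
    unfold cmeas meas
    rw [inf_eq_right.2 h]

theorem cl_sup [Finite G] {Q R : Subgroup G} (hQ : Cfsg.IsCentrallyLarge Q) (hR : Cfsg.IsCentrallyLarge R) :
    ((Q ⊔ R : Subgroup G) : Set G) = (Q : Set G) * (R : Set G) ∧ Cfsg.IsCentrallyLarge (Q ⊔ R) := by
  obtain ⟨hQl, hQc⟩ := cl_large hQ
  obtain ⟨hRl, hRc⟩ := cl_large hR
  obtain ⟨h1, h2, -⟩ := large_main hQl hRl
  refine ⟨h1, (cl_iff h2).2 ?_⟩
  rw [centralizer_sup]
  have : Subgroup.centralizer (Q : Set G) ≤ Q := by rw [hQc]; exact inf_le_left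
  exact inf_le_left.trans (this.trans le_sup_left)

theorem cl_sSup [Finite G] (s : Set (Subgroup G)) (hs : s.Nonempty)
    (h : ∀ R ∈ s, Cfsg.IsCentrallyLarge R) : Cfsg.IsCentrallyLarge (sSup s) := by
  have hfin : s.Finite := Set.toFinite s
  revert hs h
  refine Set.Finite.induction_on (motive := fun (s : Set (Subgroup G)) _ =>
    s.Nonempty → (∀ R ∈ s, Cfsg.IsCentrallyLarge R) → Cfsg.IsCentrallyLarge (sSup s)) s hfin ?_ ?_
  · intro h; exact absurd h Set.not_nonempty_empty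
  · intro a t _ _ ih _ h
    rw [sSup_insert]
    have ha := h a (Set.mem_insert a t)
    rcases t.eq_empty_or_nonempty with ht | ht
    · rw [ht, sSup_empty, sup_bot_eq]; exact ha
    · exact (cl_sup ha (ih ht (fun R hR => h R (Set.mem_insert_of_mem a hR)))).2

theorem exists_minimal_le [Finite G] {R : Subgroup G} (hR : Cfsg.IsCentrallyLarge R) :
    ∃ R₀ : Subgroup G, R₀ ≤ R ∧ Cfsg.IsMinimalCentrallyLarge R₀ := by
  classical
  have hex : ∃ n : ℕ, ∃ R' : Subgroup G, R' ≤ R ∧ Cfsg.IsCentrallyLarge R' ∧ Nat.card R' = n :=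
    ⟨_, R, le_rfl, hR, rfl⟩
  obtain ⟨R₀, hle, hcl, hcard⟩ := Nat.find_spec hex
  refine ⟨R₀, hle, hcl, fun R' hR' hcl' => ?_⟩
  apply Subgroup.eq_of_le_of_card_ge hR'
  rw [hcard]
  exact Nat.find_min' hex ⟨R', hR'.trans hle, hcl', rfl⟩

theorem cl_join [Finite G] : Cfsg.IsCentrallyLarge (Cfsg.centrallyLargeJoin G) := by
  obtain ⟨R, hR⟩ := exists_cl (G := G)
  exact cl_sSup _ ⟨R, hR⟩ (fun _ h => h)

theorem mcl_join [Finite G] : Cfsg.IsCentrallyLarge (Cfsg.minimalCentrallyLargeJoin G) := by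
  obtain ⟨R, hR⟩ := exists_cl (G := G)
  obtain ⟨R₀, -, hR₀⟩ := exists_minimal_le hR
  exact cl_sSup _ ⟨R₀, hR₀⟩ (fun _ h => h.1)

end Cfsg.Agent.Lib.Helper17.CL
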