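import Mathlib
import Cfsg.Prelude.Def_BaumannBlocks
import Cfsg.Agent.Lib.Helper17.CD
import Cfsg.Agent.Lib.Helper17.CL

set_option autoImplicit false
open scoped Pointwise

namespace Cfsg.Agent.Lib.Helper17.CL2

open Cfsg.Agent.Lib.Helper17.CD Cfsg.Agent.Lib.Helper17.CL

variable {G : Type*} [Group G]

theorem isMulComm_iff (A : Subgroup G) :
    IsMulCommutative ↥A ↔ A ≤ Subgroup.centralizer (A : Set G) := by
  constructor
  · intro h x hx
    rw [Subgroup.mem_centralizer_iff]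
    intro y hy
    exact setLike_mul_comm hy hx
  · intro h
    exact IsMulCommutative.of_setLike_mul_comm fun a ha b hb =>
      (Subgroup.mem_centralizer_iff.1 (h hb)) a ha

theorem isMulComm_of_le {A B : Subgroup G} (hB : IsMulCommutative ↥B) (h : A ≤ B) :
    IsMulCommutative ↥A := by
  rw [isMulComm_iff] at *
  exact h.trans (hB.trans (Subgroup.centralizer_le (SetLike.coe_subset_coe.2 h)))

theorem isMulComm_sup {A B : Subgroup G} (hA : IsMulCommutative ↥A) (hB : IsMulCommutative ↥B)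
    (hAB : A ≤ Subgroup.centralizer (B : Set G)) : IsMulCommutative ↥(A ⊔ B) := by
  rw [isMulComm_iff] at *
  rw [centralizer_sup]
  exact sup_le (le_inf hA hAB) (le_inf (Subgroup.le_centralizer_iff.1 hAB) hB)

theorem maxAb_centralizer [Finite G] {A : Subgroup G} (hA : A ∈ Cfsg.maxAbelianSubgroups G) :
    Subgroup.centralizer (A : Set G) = A := by
  apply le_antisymm
  · intro x hx
    have hz : IsMulCommutative ↥(Subgroup.zpowers x) := inferInstance
    have hAz : A ≤ Subgroup.centralizer (Subgroup.zpowers x : Set G) :=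
      Subgroup.le_centralizer_iff.1 ((Subgroup.zpowers_le).2 hx)
    have hB := isMulComm_sup hA.1 hz hAz
    have hcard := hA.2 _ hB
    have hEq : A = A ⊔ Subgroup.zpowers x := Subgroup.eq_of_le_of_card_ge le_sup_left hcard
    rw [hEq]
    exact Subgroup.mem_sup_right (Subgroup.mem_zpowers x)
  · exact (isMulComm_iff A).1 hA.1

theorem exists_maxAb [Finite G] : ∃ A : Subgroup G, A ∈ Cfsg.maxAbelianSubgroups G := by
  have hbot : IsMulCommutative ↥(⊥ : Subgroup G) := by
    rw [isMulComm_iff]; exact bot_le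
  have : Nonempty {A : Subgroup G // IsMulCommutative ↥A} := ⟨⟨⊥, hbot⟩⟩
  obtain ⟨A, hA⟩ := Finite.exists_max (fun A : {A : Subgroup G // IsMulCommutative ↥A} => Nat.card ↥A.1)
  exact ⟨A.1, A.2, fun B hB => hA ⟨B, hB⟩⟩

theorem maxAb_of_card [Finite G] {A B : Subgroup G} (hA : A ∈ Cfsg.maxAbelianSubgroups G)
    (hB : IsMulCommutative ↥B) (h : Nat.card A ≤ Nat.card B) : B ∈ Cfsg.maxAbelianSubgroups G :=
  ⟨hB, fun B' hB' => (hA.2 B' hB').trans h⟩

theorem nat_chain {x z' i q a b z m : ℕ} (h1 : x * z' ≤ m) (h2 : q * a ≤ x * i) (h3 : b ≤ a)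
    (h4 : b * z' = i * z) (h5 : q * z = m) (hz' : 0 < z') (hi : 0 < i) (hq : 0 < q) :
    x * z' = m ∧ x * i = q * a ∧ a = b := by
  have e1 : q * a * z' ≤ x * i * z' := Nat.mul_le_mul_right _ h2
  have e2 : x * i * z' ≤ i * (q * z) := by
    calc x * i * z' = i * (x * z') := by ring
      _ ≤ i * (q * z) := Nat.mul_le_mul_left _ (h1.trans_eq h5.symm)
  have e3 : i * (q * z) = q * b * z' := by
    rw [show q * b * z' = q * (b * z') by ring, h4]; ring
  have e4 : q * b * z' ≤ q * a * z' := Nat.mul_le_mul_right _ (Nat.mul_le_mul_left _ h3)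
  have e5 : q * a * z' = x * i * z' := le_antisymm e1 (e2.trans (e3.le.trans e4))
  have e6 : x * i * z' = i * (q * z) := le_antisymm e2 (e3.le.trans (e4.trans e1))
  have e7 : q * b * z' = q * a * z' := le_antisymm e4 (e1.trans (e2.trans e3.le))
  refine ⟨?_, ?_, ?_⟩
  · have : i * (x * z') = i * (q * z) := by rw [← e6]; ring
    rw [← h5]
    exact Nat.eq_of_mul_eq_mul_left hi this
  · exact (Nat.eq_of_mul_eq_mul_right hz' e5).symm
  · have : q * b = q * a := Nat.eq_of_mul_eq_mul_right hz' e7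
    exact (Nat.eq_of_mul_eq_mul_left hq this).symm

theorem cl_sup_maxAb_aux [Finite G] {Q A Z : Subgroup G} (hQ : Cfsg.IsCentrallyLarge Q)
    (hA : A ∈ Cfsg.maxAbelianSubgroups G) (hZ : Subgroup.centralizer (Q : Set G) = Z) (hZQ : Z ≤ Q) :
    ((Q ⊔ A : Subgroup G) : Set G) = (Q : Set G) * (A : Set G) ∧ Cfsg.IsCentrallyLarge (Q ⊔ A) ∧
    ((Q ⊓ A) ⊔ Z) ∈ Cfsg.maxAbelianSubgroups G ∧
    (((Q ⊓ A) ⊔ Z : Subgroup G) : Set G) = ((Q ⊓ A : Subgroup G) : Set G) * (Z : Set G) := by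
  have hQl : Cfsg.IsCentralizerLarge Q := (cl_large hQ).1
  have hCA : Subgroup.centralizer (A : Set G) = A := maxAb_centralizer hA
  have hZc : Z ≤ Subgroup.centralizer ((Q ⊓ A : Subgroup G) : Set G) := by
    rw [← hZ]; exact Subgroup.centralizer_le (SetLike.coe_subset_coe.2 inf_le_left)
  have hcomm : Q ⊓ A ≤ Subgroup.centralizer (Z : Set G) := Subgroup.le_centralizer_iff.1 hZc
  have hZab : IsMulCommutative ↥Z := by
    rw [isMulComm_iff]
    calc Z = Subgroup.centralizer (Q : Set G) := hZ.symm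
      _ ≤ Subgroup.centralizer (Z : Set G) := Subgroup.centralizer_le (SetLike.coe_subset_coe.2 hZQ)
  have hBab : IsMulCommutative ↥((Q ⊓ A) ⊔ Z) :=
    isMulComm_sup (isMulComm_of_le hA.1 inf_le_right) hZab hcomm
  have hBA := hA.2 _ hBab
  have hBset : (((Q ⊓ A) ⊔ Z : Subgroup G) : Set G) = ((Q ⊓ A : Subgroup G) : Set G) * (Z : Set G) :=
    Subgroup.coe_mul_of_left_le_normalizer_right (Q ⊓ A) Z
      (hcomm.trans (Subgroup.centralizer_le_normalizer _))
  have hBcard : Nat.card ↥((Q ⊓ A) ⊔ Z : Subgroup G) * Nat.card ↥(Z ⊓ A : Subgroup G) =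
      Nat.card ↥(Q ⊓ A : Subgroup G) * Nat.card ↥Z := by
    have h := card_mulSet_mul_card_inf (Q ⊓ A) Z
    rw [← hBset] at h
    have e : (Q ⊓ A) ⊓ Z = Z ⊓ A :=
      le_antisymm (le_inf inf_le_right (inf_le_left.trans inf_le_right))
        (le_inf (le_inf (inf_le_left.trans hZQ) inf_le_right) inf_le_left)
    rw [e] at h
    exact h
  have hCX : Subgroup.centralizer ((Q ⊔ A : Subgroup G) : Set G) = Z ⊓ A := by
    rw [centralizer_sup, hCA, hZ]
  have h1 : Nat.card ↥(Q ⊔ A : Subgroup G) * Nat.card ↥(Z ⊓ A : Subgroup G) ≤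
      Cfsg.maxCentralizerProduct G := by
    have := meas_le_max (Q ⊔ A)
    unfold meas at this
    rw [hCX] at this
    exact this
  have h2 := card_mul_card_le Q A
  have h5 : Nat.card ↥Q * Nat.card ↥Z = Cfsg.maxCentralizerProduct G := by
    have : meas Q = Cfsg.maxCentralizerProduct G := hQl
    unfold meas at this
    rw [hZ] at this
    exact this
  obtain ⟨k1, k2, k3⟩ := nat_chain h1 h2 hBA hBcard h5 Nat.card_pos Nat.card_pos Nat.card_pos
  refine ⟨coe_sup_eq_mul_of_card Q A k2.le, ?_, maxAb_of_card hA hBab k3.le, hBset⟩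
  have hXl : Cfsg.IsCentralizerLarge (Q ⊔ A) := by
    rw [isCentralizerLarge_iff]
    unfold meas
    rw [hCX]
    exact k1
  rw [cl_iff hXl, hCX]
  exact inf_le_right.trans le_sup_right

theorem cl_sup_maxAb_aux2 [Finite G] {Q A Z : Subgroup G} (hQ : Cfsg.IsCentrallyLarge Q)
    (hA : A ∈ Cfsg.maxAbelianSubgroups G) (hZ : Subgroup.centralizer (Q : Set G) = Z) (hZQ : Z ≤ Q) :
    (Q ⊔ A) ⊓ Subgroup.centralizer ((Q ⊓ A : Subgroup G) : Set G) = Z ⊔ A ∧
    ((Z ⊔ A : Subgroup G) : Set G) = (Z : Set G) * (A : Set G) := by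
  obtain ⟨hset, -, hB, hBset⟩ := cl_sup_maxAb_aux hQ hA hZ hZQ
  have hCA : Subgroup.centralizer (A : Set G) = A := maxAb_centralizer hA
  have hCB := maxAb_centralizer hB
  have hAc : A ≤ Subgroup.centralizer ((Q ⊓ A : Subgroup G) : Set G) := by
    calc A = Subgroup.centralizer (A : Set G) := hCA.symm
      _ ≤ _ := Subgroup.centralizer_le (SetLike.coe_subset_coe.2 inf_le_right)
  have hZc : Z ≤ Subgroup.centralizer ((Q ⊓ A : Subgroup G) : Set G) := by
    rw [← hZ]; exact Subgroup.centralizer_le (SetLike.coe_subset_coe.2 inf_le_left)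
  have hQZ : Q ≤ Subgroup.centralizer (Z : Set G) := by
    rw [Subgroup.le_centralizer_iff, hZ]
  have key : ∀ x ∈ (Q ⊔ A) ⊓ Subgroup.centralizer ((Q ⊓ A : Subgroup G) : Set G),
      x ∈ (Z : Set G) * (A : Set G) := by
    intro x hx
    have hx1 : x ∈ ((Q ⊔ A : Subgroup G) : Set G) := hx.1
    rw [hset] at hx1
    obtain ⟨q, hq, a, ha, rfl⟩ := Set.mem_mul.1 hx1
    have hq' : q ∈ Subgroup.centralizer ((Q ⊓ A : Subgroup G) : Set G) := by
      have := Subgroup.mul_mem _ hx.2 (Subgroup.inv_mem _ (hAc ha))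
      simpa using this
    have hqB : q ∈ Subgroup.centralizer (((Q ⊓ A) ⊔ Z : Subgroup G) : Set G) := by
      rw [centralizer_sup]
      exact ⟨hq', hQZ hq⟩
    rw [hCB] at hqB
    have hqB' : q ∈ (((Q ⊓ A) ⊔ Z : Subgroup G) : Set G) := hqB
    rw [hBset] at hqB'
    obtain ⟨b, hb, z, hz, rfl⟩ := Set.mem_mul.1 hqB'
    have hbz : z * b = b * z := by
      have hz' : z ∈ Subgroup.centralizer (Q : Set G) := by rw [hZ]; exact hz
      exact ((Subgroup.mem_centralizer_iff.1 hz') b hb.1).symm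
    refine Set.mem_mul.2 ⟨z, hz, b * a, A.mul_mem hb.2 ha, ?_⟩
    rw [← mul_assoc, hbz]
  have hle : Z ⊔ A ≤ (Q ⊔ A) ⊓ Subgroup.centralizer ((Q ⊓ A : Subgroup G) : Set G) :=
    sup_le (le_inf (hZQ.trans le_sup_left) hZc) (le_inf le_sup_right hAc)
  have hge : (Q ⊔ A) ⊓ Subgroup.centralizer ((Q ⊓ A : Subgroup G) : Set G) ≤ Z ⊔ A :=
    fun x hx => mulSet_subset_sup Z A (key x hx)
  refine ⟨le_antisymm hge hle, ?_⟩
  apply Set.Subset.antisymm
  · intro x hx
    exact key x (hle hx)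
  · exact mulSet_subset_sup Z A

theorem cl_sup_maxAb [Finite G] {Q A : Subgroup G} (hQ : Cfsg.IsCentrallyLarge Q)
    (hA : A ∈ Cfsg.maxAbelianSubgroups G) :
    ((Q ⊔ A : Subgroup G) : Set G) = (Q : Set G) * (A : Set G) ∧ Cfsg.IsCentrallyLarge (Q ⊔ A) ∧
    (Q ⊔ A) ⊓ Subgroup.centralizer ((Q ⊓ A : Subgroup G) : Set G) =
      (Q ⊓ Subgroup.centralizer (Q : Set G)) ⊔ A ∧
    (((Q ⊓ Subgroup.centralizer (Q : Set G)) ⊔ A : Subgroup G) : Set G) =
      ((Q ⊓ Subgroup.centralizer (Q : Set G) : Subgroup G) : Set G) * (A : Set G) := by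
  have hZ := (cl_large hQ).2
  obtain ⟨h1, h2, -, -⟩ := cl_sup_maxAb_aux hQ hA hZ inf_le_left
  obtain ⟨h3, h4⟩ := cl_sup_maxAb_aux2 hQ hA hZ inf_le_left
  exact ⟨h1, h2, h3, h4⟩

theorem maxAb_le_join [Finite G] {A : Subgroup G} (hA : A ∈ Cfsg.maxAbelianSubgroups G) :
    A ≤ Cfsg.centrallyLargeJoin G := by
  have h := (cl_sup_maxAb (cl_join (G := G)) hA).2.1
  have : Cfsg.centrallyLargeJoin G ⊔ A ≤ Cfsg.centrallyLargeJoin G := le_sSup h
  exact le_sup_right.trans this

theorem thompsonA_le_join [Finite G] : Cfsg.thompsonSubgroupA G ≤ Cfsg.centrallyLargeJoin G :=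
  sSup_le fun _ hA => maxAb_le_join hA

theorem centralizer_center_thompsonA_le [Finite G] :
    Subgroup.centralizer ((Cfsg.thompsonSubgroupA G ⊓
      Subgroup.centralizer (Cfsg.thompsonSubgroupA G : Set G) : Subgroup G) : Set G) ≤
      Cfsg.centrallyLargeJoin G := by
  have hcl := cl_join (G := G)
  have hl := (cl_large hcl).1
  have hcc := (large_centralizer hl).2
  obtain ⟨A, hA⟩ := exists_maxAb (G := G)
  have hAJ : A ≤ Cfsg.thompsonSubgroupA G := le_sSup hA
  have hJ := thompsonA_le_join (G := G)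
  have h1 : Subgroup.centralizer (Cfsg.centrallyLargeJoin G : Set G) ≤
      Cfsg.thompsonSubgroupA G ⊓ Subgroup.centralizer (Cfsg.thompsonSubgroupA G : Set G) := by
    apply le_inf
    · calc Subgroup.centralizer (Cfsg.centrallyLargeJoin G : Set G)
          ≤ Subgroup.centralizer (A : Set G) :=
            Subgroup.centralizer_le (SetLike.coe_subset_coe.2 (hAJ.trans hJ))
        _ = A := maxAb_centralizer hA
        _ ≤ _ := hAJ
    · exact Subgroup.centralizer_le (SetLike.coe_subset_coe.2 hJ)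
  calc Subgroup.centralizer ((Cfsg.thompsonSubgroupA G ⊓
      Subgroup.centralizer (Cfsg.thompsonSubgroupA G : Set G) : Subgroup G) : Set G)
      ≤ Subgroup.centralizer ((Subgroup.centralizer (Cfsg.centrallyLargeJoin G : Set G) : Subgroup G) : Set G) :=
        Subgroup.centralizer_le (SetLike.coe_subset_coe.2 h1)
    _ = Cfsg.centrallyLargeJoin G := hcc.symm

end Cfsg.Agent.Lib.Helper17.CL2
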