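import Mathlib
import Cfsg.Prelude.Def_PLocal
import Cfsg.Agent.Lib.Helper17.CharP4
import Cfsg.Agent.Lib.Helper12.SylowBasic
import Cfsg.Agent.S0542
import Cfsg.Agent.S2896

set_option autoImplicit false

/-! Parabolic characteristic `p` passes to subnormal subgroups whose Sylow centre is controlled. -/

namespace Cfsg.Agent.Lib.Helper17.CharP5

open Cfsg
open Cfsg.Agent.Lib.Helper17.CharP4

universe u

variable {G : Type u} [Group G] [Finite G] {p : ℕ} [Fact p.Prime]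

omit [Finite G] [Fact p.Prime] in
theorem omegaOne_le (H : Subgroup G) : omegaOne p H ≤ H := by
  unfold omegaOne
  rw [Subgroup.closure_le]
  intro x hx
  exact hx.1

omit [Finite G] [Fact p.Prime] in
theorem mem_omegaOne {H : Subgroup G} {x : G} (hx : x ∈ H) (hxp : x ^ p = 1) : x ∈ omegaOne p H :=
  Subgroup.subset_closure ⟨hx, hxp⟩

omit [Finite G] [Fact p.Prime] in
theorem centralizer_singleton_subtype (G₁ : Subgroup G) (w : ↥G₁) :
    Subgroup.centralizer ({w} : Set ↥G₁) =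
      (Subgroup.centralizer ({(w : G)} : Set G) ⊓ G₁).subgroupOf G₁ := by
  ext x
  rw [Subgroup.mem_centralizer_iff, Subgroup.mem_subgroupOf, Subgroup.mem_inf,
    Subgroup.mem_centralizer_iff]
  simp only [Set.mem_singleton_iff, forall_eq]
  constructor
  · intro h
    exact ⟨congrArg Subtype.val h, x.2⟩
  · intro h
    exact Subtype.ext h.1

/-- Let `G` have parabolic characteristic `p`, `S` a Sylow `p`-subgroup and `G₁` a subnormal
subgroup such that every element of order `p` of `Z(S ∩ G₁)` is central in `S`.  Then `G₁` has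
parabolic characteristic `p`. -/
theorem parabolic_of_subnormal (hG : IsOfParabolicCharacteristic p G) (S : Sylow p G)
    (G₁ : Subgroup G) (hsn : G₁.IsSubnormal)
    (hz : ∀ z : G, z ∈ (S : Subgroup G) ⊓ G₁ → (∀ s ∈ (S : Subgroup G) ⊓ G₁, s * z = z * s) →
      orderOf z = p → ∀ s ∈ (S : Subgroup G), s * z = z * s) :
    IsOfParabolicCharacteristic p ↥G₁ := by
  intro R₁ hR₁ hR₁ne ⟨T₁, hT₁⟩
  rw [← gf_iff]
  obtain ⟨S₁, hS₁⟩ := Cfsg.Agent.S0542.exists_sylow_eq p G₁ hsn S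
  obtain ⟨h, hh⟩ := MulAction.exists_smul_eq ↥G₁ T₁ S₁
  have hRT : R₁ ≤ (T₁ : Subgroup ↥G₁) := by
    have h1 : IsPGroup p (R₁ ⊔ (T₁ : Subgroup ↥G₁) : Subgroup ↥G₁) :=
      IsPGroup.to_sup_of_normal_left' hR₁ T₁.isPGroup' hT₁
    have h2 := T₁.is_maximal' h1 le_sup_right
    rw [← h2]; exact le_sup_left
  apply Cfsg.Agent.S2896.gf_normalizer_of_central T₁.isPGroup' hRT hT₁ hR₁ne
  intro z₁ hz₁R hz₁o hz₁c
  have hmem : ∀ s : ↥G₁, s ∈ (S₁ : Subgroup ↥G₁) ↔ h⁻¹ * s * h ∈ (T₁ : Subgroup ↥G₁) := by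
    intro s; rw [← hh]; exact Cfsg.Agent.Lib.Helper12.SylowBasic.mem_smul_sylow_iff T₁ h s
  have hwS₁ : h * z₁ * h⁻¹ ∈ (S₁ : Subgroup ↥G₁) := by
    rw [hmem]
    have e : h⁻¹ * (h * z₁ * h⁻¹) * h = z₁ := by group
    rw [e]; exact hRT hz₁R
  have hwc : ∀ s ∈ (S₁ : Subgroup ↥G₁), s * (h * z₁ * h⁻¹) = (h * z₁ * h⁻¹) * s := by
    intro s hs
    have h3 := Subgroup.mem_centralizer_iff.1 (hz₁c ((hmem s).1 hs)) z₁ rfl
    calc s * (h * z₁ * h⁻¹) = h * ((h⁻¹ * s * h) * z₁) * h⁻¹ := by group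
      _ = h * (z₁ * (h⁻¹ * s * h)) * h⁻¹ := by rw [h3]
      _ = _ := by group
  have hwo : orderOf (h * z₁ * h⁻¹) = p := by
    rw [← hz₁o]; exact MulEquiv.orderOf_eq (MulAut.conj h) z₁
  have hwo' : orderOf ((h * z₁ * h⁻¹ : ↥G₁) : G) = p := by
    rw [Subgroup.orderOf_coe]; exact hwo
  have hw1 : ((h * z₁ * h⁻¹ : ↥G₁) : G) ≠ 1 := by
    intro h0
    rw [h0, orderOf_one] at hwo'
    exact (Fact.out : p.Prime).ne_one hwo'.symm
  have hwS : ((h * z₁ * h⁻¹ : ↥G₁) : G) ∈ (S : Subgroup G) := by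
    rw [hS₁] at hwS₁
    exact Subgroup.mem_subgroupOf.1 hwS₁
  have hwc' : ∀ s ∈ (S : Subgroup G) ⊓ G₁, s * ((h * z₁ * h⁻¹ : ↥G₁) : G) =
      ((h * z₁ * h⁻¹ : ↥G₁) : G) * s := by
    intro s hs
    have hs' := Subgroup.mem_inf.1 hs
    have h1 : (⟨s, hs'.2⟩ : ↥G₁) ∈ (S₁ : Subgroup ↥G₁) := by
      rw [hS₁, Subgroup.mem_subgroupOf]; exact hs'.1
    exact congrArg Subtype.val (hwc _ h1)
  have hwcS := hz _ (Subgroup.mem_inf.2 ⟨hwS, (h * z₁ * h⁻¹ : ↥G₁).2⟩) hwc' hwo'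
  have hgf := gf_centralizer_of_parabolic hG S hw1 hwS hwcS
  have hK : generalizedFittingSubgroup
      ↥(Subgroup.centralizer ({((h * z₁ * h⁻¹ : ↥G₁) : G)} : Set G) ⊓ G₁) =
      pCore p ↥(Subgroup.centralizer ({((h * z₁ * h⁻¹ : ↥G₁) : G)} : Set G) ⊓ G₁) := by
    apply gf_of_subnormal hgf inf_le_left
    rw [Subgroup.inf_subgroupOf_left]
    exact hsn.subgroupOf
  have e : ↥(Subgroup.centralizer ({h * z₁ * h⁻¹} : Set ↥G₁)) ≃*
      ↥(Subgroup.centralizer ({((h * z₁ * h⁻¹ : ↥G₁) : G)} : Set G) ⊓ G₁) :=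
    (MulEquiv.subgroupCongr (centralizer_singleton_subtype G₁ (h * z₁ * h⁻¹))).trans
      (Subgroup.subgroupOfEquivOfLe inf_le_right)
  have hgf₁ := Cfsg.Agent.Lib.Helper9.gfitting_eq_pCore_of_equiv e.symm p hK
  have h4 := gf_centralizer_conj (p := p) (h * z₁ * h⁻¹) h⁻¹ hgf₁
  have e2 : h⁻¹ * (h * z₁ * h⁻¹) * h⁻¹⁻¹ = z₁ := by group
  rwa [e2] at h4

end Cfsg.Agent.Lib.Helper17.CharP5
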