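import Mathlib
import Cfsg.Prelude.Def_Transfer
import Cfsg.Agent.Lib.Helper9.Signalizer
import Cfsg.Agent.Lib.Helper17.Syl

/-!
Cyclic Sylow `p`-subgroup and abelian `p'`-subgroups: basic lemmas
(power maps on cyclic `p`-groups, `p`-part / `p'`-part, transfer of hypotheses).
-/

set_option autoImplicit false

namespace Cfsg.Agent.Lib.Helper17.CycSyl

open Subgroup

universe u

/-- hypothesis: `p`-subgroups cyclic, `p'`-subgroups abelian -/
def Hyp (p : ℕ) (G : Type u) [Group G] : Prop :=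
  (∀ H : Subgroup G, IsPGroup p H → IsCyclic H) ∧
  (∀ H : Subgroup G, ¬ p ∣ Nat.card H → ∀ x ∈ H, ∀ y ∈ H, x * y = y * x)

/-- conclusion: normal `p`-complement or normal Sylow `p`-subgroup -/
def Concl (p : ℕ) (G : Type u) [Group G] : Prop :=
  (∃ M : Subgroup G, M.Normal ∧ ¬ p ∣ Nat.card M ∧ ∀ x : G, ∃ j : ℕ, x ^ (p ^ j) ∈ M) ∨
  (∃ S : Subgroup G, S.Normal ∧ IsPGroup p S ∧ ∀ x : G, (∃ j : ℕ, x ^ (p ^ j) = 1) → x ∈ S)

section basic

variable {G : Type u} [Group G] [Finite G] {p : ℕ} [hp : Fact p.Prime]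

theorem pp_decomp (p : ℕ) [Fact p.Prime] (x : G) :
    ∃ a b : ℕ, x = x ^ a * x ^ b ∧ (∃ j : ℕ, (x ^ a) ^ (p ^ j) = 1) ∧
      (orderOf (x ^ b)).Coprime p := by
  have hp1 : p.Prime := Fact.out
  obtain ⟨e, n', hn', ho⟩ := Nat.exists_eq_pow_mul_and_not_dvd (orderOf_pos x).ne' p hp1.ne_one
  have hco : (p ^ e).Coprime n' :=
    Nat.Coprime.pow_left e ((Nat.Prime.coprime_iff_not_dvd hp1).2 hn')
  obtain ⟨a, ha1, ha2⟩ := Nat.chineseRemainder hco 1 0
  obtain ⟨b, hb1, hb2⟩ := Nat.chineseRemainder hco 0 1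
  refine ⟨a, b, ?_, ⟨e, ?_⟩, ?_⟩
  · have h1 : a + b ≡ 1 [MOD p ^ e * n'] := by
      rw [← Nat.modEq_and_modEq_iff_modEq_mul hco]
      exact ⟨by simpa using ha1.add hb1, by simpa using ha2.add hb2⟩
    rw [← ho] at h1
    rw [← pow_add]
    conv_lhs => rw [← pow_one x]
    exact (pow_eq_pow_iff_modEq.2 h1).symm
  · rw [← pow_mul]
    apply orderOf_dvd_iff_pow_eq_one.1
    rw [ho, mul_comm a]
    exact Nat.mul_dvd_mul_left _ ((Nat.modEq_zero_iff_dvd).1 ha2)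
  · have h2 : (x ^ b) ^ n' = 1 := by
      rw [← pow_mul]
      apply orderOf_dvd_iff_pow_eq_one.1
      rw [ho]
      exact Nat.mul_dvd_mul ((Nat.modEq_zero_iff_dvd).1 hb1) dvd_rfl
    have h3 : orderOf (x ^ b) ∣ n' := orderOf_dvd_of_pow_eq_one h2
    exact Nat.Coprime.coprime_dvd_left h3 ((Nat.Prime.coprime_iff_not_dvd hp1).2 hn').symm

theorem isPGroup_zpowers {x : G} (hj : ∃ j : ℕ, x ^ (p ^ j) = 1) :
    IsPGroup p (Subgroup.zpowers x) := by
  obtain ⟨j, hj⟩ := hj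
  rintro ⟨g, hg⟩
  obtain ⟨n, rfl⟩ := Subgroup.mem_zpowers_iff.1 hg
  refine ⟨j, Subtype.ext ?_⟩
  simp only [Subgroup.coe_pow, Subgroup.coe_one]
  rw [← zpow_natCast, ← zpow_mul, mul_comm, zpow_mul, zpow_natCast, hj, one_zpow]

theorem pow_of_isPGroup {H : Subgroup G} (hH : IsPGroup p H) {x : G} (hx : x ∈ H) :
    ∃ j : ℕ, x ^ (p ^ j) = 1 := by
  obtain ⟨j, hj⟩ := hH ⟨x, hx⟩
  exact ⟨j, by simpa using congrArg Subtype.val hj⟩

theorem mem_sylow_of_pow (P : Sylow p G) {x : G} (hx : x ∈ normalizer ((P : Subgroup G) : Set G))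
    (hj : ∃ j : ℕ, x ^ (p ^ j) = 1) : x ∈ (P : Subgroup G) := by
  have hz := isPGroup_zpowers (p := p) hj
  have h1 := IsPGroup.to_sup_of_normal_right' hz P.2 (by rw [Subgroup.zpowers_le]; exact hx)
  have h2 := P.3 h1 le_sup_right
  have h3 : x ∈ Subgroup.zpowers x ⊔ (P : Subgroup G) :=
    (le_sup_left : Subgroup.zpowers x ≤ _) (Subgroup.mem_zpowers x)
  rw [h2] at h3
  exact h3

theorem coprime_of_mem {H : Subgroup G} (h : ¬ p ∣ Nat.card H) {x : G} (hx : x ∈ H) :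
    (orderOf x).Coprime p :=
  Nat.Coprime.coprime_dvd_left (Subgroup.orderOf_dvd_natCard H hx)
    ((Nat.Prime.coprime_iff_not_dvd hp.out).2 h).symm

theorem eq_one_of_pow_of_coprime {x : G} (hj : ∃ j : ℕ, x ^ (p ^ j) = 1)
    (hco : (orderOf x).Coprime p) : x = 1 := by
  obtain ⟨j, hj⟩ := hj
  rw [← orderOf_eq_one_iff]
  exact Nat.Coprime.eq_one_of_dvd (Nat.Coprime.pow_right j hco) (orderOf_dvd_of_pow_eq_one hj)

theorem mem_of_pow_mem {M : Subgroup G} {x : G} (hco : (orderOf x).Coprime p) {j : ℕ}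
    (h : x ^ (p ^ j) ∈ M) : x ∈ M := by
  obtain ⟨m, hm⟩ := exists_pow_eq_self_of_coprime (Nat.Coprime.pow_right j hco).symm
  rw [← hm]
  exact M.pow_mem h m

theorem cyc_pow_map {P : Subgroup G} (hc : IsCyclic P) {y : G}
    (hy : y ∈ normalizer (P : Set G)) :
    ∃ (g : G) (k : ℕ), g ∈ P ∧ (∀ x ∈ P, ∃ i : ℤ, x = g ^ i) ∧
      ∀ x ∈ P, y * x * y⁻¹ = x ^ k := by
  obtain ⟨⟨g, hg⟩, hgen⟩ := hc.exists_generator
  have hgen' : ∀ x ∈ P, ∃ i : ℤ, x = g ^ i := by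
    intro x hx
    obtain ⟨i, hi⟩ := Subgroup.mem_zpowers_iff.1 (hgen ⟨x, hx⟩)
    exact ⟨i, by simpa using (congrArg Subtype.val hi).symm⟩
  have h1 : y * g * y⁻¹ ∈ P := (Subgroup.mem_normalizer_iff.1 hy g).1 hg
  obtain ⟨n, hn⟩ := hgen' _ h1
  refine ⟨g, (n % (orderOf g : ℤ)).toNat, hg, hgen', ?_⟩
  have hk : g ^ (n % (orderOf g : ℤ)).toNat = g ^ n := by
    rw [← zpow_natCast, Int.toNat_of_nonneg
      (Int.emod_nonneg _ (by exact_mod_cast (orderOf_pos g).ne')), zpow_mod_orderOf]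
  intro x hx
  obtain ⟨i, rfl⟩ := hgen' x hx
  have e1 : (g ^ i) ^ (n % (orderOf g : ℤ)).toNat = (g ^ (n % (orderOf g : ℤ)).toNat) ^ i := by
    rw [← zpow_natCast, ← zpow_natCast, ← zpow_mul, ← zpow_mul, mul_comm]
  rw [e1, hk, ← hn, conj_zpow]

theorem cyc_core {P : Subgroup G} (hP : IsPGroup p P) {y : G} (hco : (orderOf y).Coprime p)
    {g : G} {k : ℕ} (hg : g ∈ P) (hgen : ∀ x ∈ P, ∃ i : ℤ, x = g ^ i)
    (hk : ∀ x ∈ P, y * x * y⁻¹ = x ^ k) (hk1 : k ≡ 1 [MOD p]) : ∀ x ∈ P, y * x = x * y := by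
  have hp1 : p.Prime := Fact.out
  obtain ⟨j, hj⟩ := pow_of_isPGroup hP hg
  obtain ⟨a, ha, hoa⟩ := (Nat.dvd_prime_pow hp1).1 (orderOf_dvd_of_pow_eq_one hj)
  have hit : ∀ i : ℕ, y ^ i * g * (y ^ i)⁻¹ = g ^ (k ^ i) := by
    intro i
    induction i with
    | zero => simp
    | succ i ih =>
      have : y ^ (i + 1) * g * (y ^ (i + 1))⁻¹ = y * (y ^ i * g * (y ^ i)⁻¹) * y⁻¹ := by
        rw [pow_succ']; group
      rw [this, ih, ← conj_pow, hk g hg, ← pow_mul, pow_succ']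
  have h1 : g ^ (k ^ orderOf y) = g ^ 1 := by
    rw [← hit, pow_orderOf_eq_one]; simp
  have h2 : k ^ orderOf y ≡ 1 [MOD p ^ a] := by
    rw [← hoa]; exact pow_eq_pow_iff_modEq.1 h1
  have hgk : g ^ k = g := by
    rcases Nat.eq_zero_or_pos a with ha0 | ha0
    · have : g = 1 := by rw [← orderOf_eq_one_iff, hoa, ha0, pow_zero]
      rw [this, one_pow]
    · have h3 : (k : ZMod (p ^ a)) ^ (p ^ (a - 1)) = 1 := by
        have hd : ((p : ℕ) : ℤ) ∣ (k : ℤ) - 1 := by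
          have := (Nat.modEq_iff_dvd.1 hk1.symm)
          simpa using this
        have hd2 := dvd_sub_pow_of_dvd_sub hd (a - 1)
        rw [Nat.sub_add_cancel ha0, one_pow] at hd2
        have h0 : (((k : ℤ) ^ p ^ (a - 1) - 1 : ℤ) : ZMod (p ^ a)) = 0 := by
          rw [ZMod.intCast_zmod_eq_zero_iff_dvd]
          push_cast
          exact hd2
        push_cast at h0
        exact sub_eq_zero.1 h0
      have h4 : (k : ZMod (p ^ a)) ^ orderOf y = 1 := by
        have := (ZMod.natCast_eq_natCast_iff _ _ _).2 h2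
        simpa using this
      have h5 : orderOf (k : ZMod (p ^ a)) ∣ Nat.gcd (orderOf y) (p ^ (a - 1)) :=
        Nat.dvd_gcd (orderOf_dvd_of_pow_eq_one h4) (orderOf_dvd_of_pow_eq_one h3)
      have h6 : Nat.gcd (orderOf y) (p ^ (a - 1)) = 1 := Nat.Coprime.pow_right _ hco
      rw [h6, Nat.dvd_one, orderOf_eq_one_iff] at h5
      have h7 : k ≡ 1 [MOD p ^ a] := by
        rw [← ZMod.natCast_eq_natCast_iff]; simpa using h5
      rw [← hoa] at h7
      have := pow_eq_pow_iff_modEq.2 h7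
      simpa using this
  intro x hx
  obtain ⟨i, rfl⟩ := hgen x hx
  have h8 : y * g * y⁻¹ = g := by rw [hk g hg, hgk]
  have h9 : y * g ^ i * y⁻¹ = g ^ i := by rw [← conj_zpow, h8]
  calc y * g ^ i = y * g ^ i * y⁻¹ * y := by group
    _ = g ^ i * y := by rw [h9]

/-- a `p'`-element normalizing the cyclic `p`-group `P` and centralizing some `c ≠ 1` of `P`
centralizes `P`. -/
theorem cyc_fix {P : Subgroup G} (hc : IsCyclic P) (hP : IsPGroup p P) {y : G}
    (hy : y ∈ normalizer (P : Set G)) (hco : (orderOf y).Coprime p) {c : G} (hcP : c ∈ P)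
    (hc1 : c ≠ 1) (hyc : y * c = c * y) : ∀ x ∈ P, y * x = x * y := by
  have hp1 : p.Prime := Fact.out
  obtain ⟨g, k, hg, hgen, hk⟩ := cyc_pow_map hc hy
  refine cyc_core hP hco hg hgen hk ?_
  have h1 : c ^ k = c ^ 1 := by
    rw [← hk c hcP, hyc]; group
  have h2 : k ≡ 1 [MOD orderOf c] := pow_eq_pow_iff_modEq.1 h1
  obtain ⟨j, hj⟩ := pow_of_isPGroup hP hcP
  obtain ⟨a, ha, hoa⟩ := (Nat.dvd_prime_pow hp1).1 (orderOf_dvd_of_pow_eq_one hj)
  have ha0 : a ≠ 0 := by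
    rintro rfl
    rw [pow_zero, orderOf_eq_one_iff] at hoa
    exact hc1 hoa
  exact h2.of_dvd (hoa ▸ dvd_pow_self p ha0)

/-- if `[P, y] ≤ P₁` and `y` does not centralize `P` then `P ≤ P₁`. -/
theorem cyc_comm {P P₁ : Subgroup G} (hc : IsCyclic P) (hP : IsPGroup p P) {y : G}
    (hy : y ∈ normalizer (P : Set G)) (hco : (orderOf y).Coprime p)
    (h1 : ∀ x ∈ P, y * x * y⁻¹ * x⁻¹ ∈ P₁) (hn : ¬ ∀ x ∈ P, y * x = x * y) : P ≤ P₁ := by
  have hp1 : p.Prime := Fact.out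
  obtain ⟨g, k, hg, hgen, hk⟩ := cyc_pow_map hc hy
  have hk1 : ¬ k ≡ 1 [MOD p] := fun h => hn (cyc_core hP hco hg hgen hk h)
  have h2 : g ^ ((k : ℤ) - 1) ∈ P₁ := by
    have := h1 g hg
    rw [hk g hg] at this
    rw [zpow_sub, zpow_natCast, zpow_one]
    exact this
  obtain ⟨j, hj⟩ := pow_of_isPGroup hP hg
  have hcop : IsCoprime ((k : ℤ) - 1) ((p : ℤ) ^ j) := by
    apply IsCoprime.pow_right
    have hpi : Prime (p : ℤ) := Nat.prime_iff_prime_int.1 hp1
    refine ((Prime.coprime_iff_not_dvd hpi).2 (fun hd => hk1 ?_)).symm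
    exact (Nat.modEq_iff_dvd.2 (by simpa using hd)).symm
  obtain ⟨u, v, huv⟩ := hcop
  have hg1 : g ∈ P₁ := by
    have e : g = (g ^ ((k : ℤ) - 1)) ^ u * (g ^ ((p : ℤ) ^ j)) ^ v := by
      rw [← zpow_mul, ← zpow_mul, ← zpow_add, mul_comm ((k : ℤ) - 1) u, mul_comm ((p : ℤ) ^ j) v,
        huv, zpow_one]
    rw [e]
    have e2 : g ^ ((p : ℤ) ^ j) = 1 := by
      have : ((p : ℤ) ^ j) = ((p ^ j : ℕ) : ℤ) := by push_cast; rfl
      rw [this, zpow_natCast, hj]
    rw [e2, one_zpow, mul_one]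
    exact P₁.zpow_mem h2 u
  intro x hx
  obtain ⟨i, rfl⟩ := hgen x hx
  exact P₁.zpow_mem hg1 i

theorem cyc_char {P P₁ : Subgroup G} (hc : IsCyclic P) (h1 : P₁ ≤ P) {y : G}
    (hy : y ∈ normalizer (P : Set G)) : y ∈ normalizer (P₁ : Set G) := by
  obtain ⟨g, k, hg, hgen, hk⟩ := cyc_pow_map hc hy
  apply Cfsg.Agent.Lib.Helper17.Syl.mem_normalizer_of_conj_mem
  intro r hr
  rw [hk r (h1 hr)]
  exact P₁.pow_mem hr k

theorem hyp1_of_sylow (P : Sylow p G) (hc : IsCyclic (P : Subgroup G)) :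
    ∀ H : Subgroup G, IsPGroup p H → IsCyclic H := by
  intro H hH
  obtain ⟨Q, hQ⟩ := hH.exists_le_sylow
  obtain ⟨g, rfl⟩ := MulAction.exists_smul_eq G P Q
  haveI : IsCyclic (P : Subgroup G) := hc
  haveI : IsCyclic ((g • P : Sylow p G) : Subgroup G) :=
    isCyclic_of_surjective (Sylow.equivSMul P g) (Sylow.equivSMul P g).surjective
  exact isCyclic_of_surjective (Subgroup.subgroupOfEquivOfLe hQ)
    (Subgroup.subgroupOfEquivOfLe hQ).surjective

omit [Finite G] hp in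
theorem hyp_subgroup (H : Subgroup G) (h : Hyp p G) : Hyp p H := by
  refine ⟨fun L hL => ?_, fun L hL x hx y hy => ?_⟩
  · have h1 : IsPGroup p (L.map H.subtype) := hL.map _
    haveI := h.1 _ h1
    have e : L ≃* L.map H.subtype := L.equivMapOfInjective _ (Subgroup.subtype_injective H)
    exact isCyclic_of_surjective e.symm e.symm.surjective
  · have h1 : Nat.card (L.map H.subtype) = Nat.card L :=
      (Nat.card_congr (L.equivMapOfInjective _ (Subgroup.subtype_injective H)).toEquiv).symm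
    have h2 := h.2 (L.map H.subtype) (by rw [h1]; exact hL) x (Subgroup.mem_map_of_mem _ hx) y
      (Subgroup.mem_map_of_mem _ hy)
    exact Subtype.ext (by simpa using h2)

theorem hyp_quot (K : Subgroup G) [K.Normal] (hK : ¬ p ∣ Nat.card K) (P : Sylow p G)
    (h : Hyp p G) : Hyp p (G ⧸ K) := by
  refine ⟨?_, fun L hL x hx y hy => ?_⟩
  · have hs : Function.Surjective (QuotientGroup.mk' K) := QuotientGroup.mk'_surjective K
    have hc : IsCyclic ((P.mapSurjective hs : Sylow p (G ⧸ K)) : Subgroup (G ⧸ K)) := by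
      haveI := h.1 P P.2
      have : IsCyclic ((P : Subgroup G).map (QuotientGroup.mk' K)) :=
        isCyclic_of_surjective ((QuotientGroup.mk' K).subgroupMap P)
          ((QuotientGroup.mk' K).subgroupMap_surjective P)
      exact this
    exact hyp1_of_sylow _ hc
  · obtain ⟨x', rfl⟩ := QuotientGroup.mk_surjective x
    obtain ⟨y', rfl⟩ := QuotientGroup.mk_surjective y
    have hcard : ¬ p ∣ Nat.card (L.comap (QuotientGroup.mk' K)) := by
      intro hdvd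
      obtain ⟨⟨g, hg⟩, hgo⟩ := exists_prime_orderOf_dvd_card' p hdvd
      have hgo' : orderOf g = p := by simpa using hgo
      have h1 : (QuotientGroup.mk' K g) ∈ L := hg
      have h2 : (orderOf (QuotientGroup.mk' K g)).Coprime p := coprime_of_mem hL h1
      have h3 : orderOf (QuotientGroup.mk' K g) ∣ p := by
        rw [← hgo']; exact orderOf_map_dvd _ g
      have h4 : QuotientGroup.mk' K g = 1 := by
        rw [← orderOf_eq_one_iff]; exact Nat.Coprime.eq_one_of_dvd h2 h3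
      have h5 : g ∈ K := by rwa [QuotientGroup.mk'_apply, QuotientGroup.eq_one_iff] at h4
      exact hK (hgo' ▸ Subgroup.orderOf_dvd_natCard K h5)
    have := h.2 _ hcard x' (by exact hx) y' (by exact hy)
    show (QuotientGroup.mk x' : G ⧸ K) * QuotientGroup.mk y' =
      QuotientGroup.mk y' * QuotientGroup.mk x'
    rw [← QuotientGroup.mk_mul, ← QuotientGroup.mk_mul, this]

theorem concl_imp (P : Sylow p G) (h : Concl p G) :
    Cfsg.HasNormalPComplement p G ∨ (P : Subgroup G).Normal := by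
  have hp1 : p.Prime := Fact.out
  rcases h with ⟨M, hMn, hMp, hM⟩ | ⟨S, hSn, hSp, hS⟩
  · left
    refine ⟨P, M, hMn, ?_⟩
    haveI := hMn
    have hq : IsPGroup p (G ⧸ M) := by
      intro x
      induction x using QuotientGroup.induction_on with
      | H x =>
        obtain ⟨j, hj⟩ := hM x
        exact ⟨j, by rw [← QuotientGroup.mk_pow]; exact (QuotientGroup.eq_one_iff _).2 hj⟩
    obtain ⟨n, hn⟩ := IsPGroup.iff_card.1 hq
    have h1 : Nat.card G = p ^ n * Nat.card M := by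
      rw [← hn]; exact Subgroup.card_eq_card_quotient_mul_card_subgroup M
    obtain ⟨e, he⟩ := IsPGroup.iff_card.1 P.2
    have hcop : (Nat.card M).Coprime (Nat.card P) := by
      rw [he]
      exact Nat.Coprime.pow_right e ((Nat.Prime.coprime_iff_not_dvd hp1).2 hMp).symm
    have h2 : p ^ n ∣ Nat.card P := P.pow_dvd_card_of_pow_dvd_card (h1 ▸ Dvd.intro _ rfl)
    have h3 : Nat.card P ∣ p ^ n := by
      have : Nat.card P ∣ p ^ n * Nat.card M := h1 ▸ Subgroup.card_subgroup_dvd_card _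
      exact hcop.symm.dvd_of_dvd_mul_right this
    have h4 : Nat.card P = p ^ n := Nat.dvd_antisymm h3 h2
    exact Subgroup.isComplement'_of_coprime (by rw [h4, h1, mul_comm]) hcop
  · right
    have h1 : (P : Subgroup G) ≤ S := fun x hx => hS x (pow_of_isPGroup P.2 hx)
    have h2 := P.3 hSp h1
    rw [← h2]; exact hSn

theorem concl_of_burnside (P : Sylow p G)
    (h : normalizer ((P : Subgroup G) : Set G) ≤ centralizer ((P : Subgroup G) : Set G)) :
    Concl p G := by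
  left
  refine ⟨(MonoidHom.transferSylow P h).ker, inferInstance,
    MonoidHom.not_dvd_card_ker_transferSylow P h, fun x => ?_⟩
  obtain ⟨j, hj⟩ := P.2 (MonoidHom.transferSylow P h x)
  refine ⟨j, ?_⟩
  rw [MonoidHom.mem_ker, map_pow, hj]

omit hp in
theorem concl_sub (H : Subgroup G) (h : Concl p H) :
    (∃ M : Subgroup G, M ≤ H ∧ H ≤ normalizer (M : Set G) ∧ ¬ p ∣ Nat.card M ∧
      ∀ x ∈ H, ∃ j : ℕ, x ^ (p ^ j) ∈ M) ∨
    (∃ S : Subgroup G, S ≤ H ∧ H ≤ normalizer (S : Set G) ∧ IsPGroup p S ∧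
      ∀ x ∈ H, (∃ j : ℕ, x ^ (p ^ j) = 1) → x ∈ S) := by
  rcases h with ⟨M, hMn, hMp, hM⟩ | ⟨S, hSn, hSp, hS⟩
  · left
    refine ⟨M.map H.subtype, Subgroup.map_subtype_le M, ?_, ?_, ?_⟩
    · intro x hx
      apply Cfsg.Agent.Lib.Helper17.Syl.mem_normalizer_of_conj_mem
      rintro _ ⟨m, hm, rfl⟩
      exact ⟨⟨x, hx⟩ * m * ⟨x, hx⟩⁻¹, hMn.conj_mem m hm _, by simp⟩
    · rwa [← Nat.card_congr (M.equivMapOfInjective _ (Subgroup.subtype_injective H)).toEquiv]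
    · intro x hx
      obtain ⟨j, hj⟩ := hM ⟨x, hx⟩
      exact ⟨j, ⟨_, hj, by simp⟩⟩
  · right
    refine ⟨S.map H.subtype, Subgroup.map_subtype_le S, ?_, hSp.map _, ?_⟩
    · intro x hx
      apply Cfsg.Agent.Lib.Helper17.Syl.mem_normalizer_of_conj_mem
      rintro _ ⟨m, hm, rfl⟩
      exact ⟨⟨x, hx⟩ * m * ⟨x, hx⟩⁻¹, hSn.conj_mem m hm _, by simp⟩
    · intro x hx hj
      obtain ⟨j, hj⟩ := hj
      exact ⟨⟨x, hx⟩, hS ⟨x, hx⟩ ⟨j, Subtype.ext (by simpa using hj)⟩, rfl⟩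

end basic

end Cfsg.Agent.Lib.Helper17.CycSyl
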