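import Mathlib
import Cfsg.Agent.Lib.Helper17.CycSyl1
import Cfsg.Agent.Lib.Helper17.Syl2

/-!
Minimal counterexample analysis for: cyclic Sylow `p`, abelian `p'`-subgroups
⇒ normal `p`-complement or normal Sylow `p`.  Part 1: local structure.
-/

set_option autoImplicit false

namespace Cfsg.Agent.Lib.Helper17.CycSyl

open Subgroup

universe u

/-- a minimal counterexample -/
structure MC (p : ℕ) (G : Type u) [Group G] : Prop where
  hyp : Hyp p G
  ih : ∀ (H : Type u) [Group H] [Finite H], Nat.card H < Nat.card G → Hyp p H → Concl p H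
  not : ¬ Concl p G

/-- a minimal counterexample with a complement `K` of `P` in `N_G(P)` and a `y ∈ K` acting
nontrivially on `P` -/
structure Setup (p : ℕ) (G : Type u) [Group G] (P : Sylow p G) (K : Subgroup G) (y : G) :
    Prop where
  mc : MC p G
  hKN : K ≤ normalizer ((P : Subgroup G) : Set G)
  hKp : ¬ p ∣ Nat.card K
  hdec : ∀ g ∈ normalizer ((P : Subgroup G) : Set G), ∃ u ∈ (P : Subgroup G), ∃ k ∈ K, g = u * k
  hcard : Nat.card K * Nat.card (P : Subgroup G) =
    Nat.card (normalizer ((P : Subgroup G) : Set G))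
  hyK : y ∈ K
  hyC : ¬ ∀ x ∈ (P : Subgroup G), y * x = x * y

section

variable {G : Type u} [Group G] [Finite G] {p : ℕ} [hp : Fact p.Prime]

omit [Finite G] hp in
theorem comm_of_cyc {P : Subgroup G} (hc : IsCyclic P) {a b : G} (ha : a ∈ P) (hb : b ∈ P) :
    a * b = b * a := by
  obtain ⟨⟨g, hg⟩, hgen⟩ := hc.exists_generator
  obtain ⟨i, hi⟩ := Subgroup.mem_zpowers_iff.1 (hgen ⟨a, ha⟩)
  obtain ⟨j, hj⟩ := Subgroup.mem_zpowers_iff.1 (hgen ⟨b, hb⟩)
  have hi' : g ^ i = a := by simpa using congrArg Subtype.val hi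
  have hj' : g ^ j = b := by simpa using congrArg Subtype.val hj
  rw [← hi', ← hj']
  exact ((Commute.refl g).zpow_zpow i j).eq

omit [Finite G] hp in
theorem orderOf_conj' (g m : G) : orderOf (g * m * g⁻¹) = orderOf m := by
  have := orderOf_injective (MulAut.conj g).toMonoidHom (MulAut.conj g).injective m
  simpa using this

omit [Finite G] hp in
theorem pow_conj' {g x : G} (h : ∃ j : ℕ, x ^ (p ^ j) = 1) :
    ∃ j : ℕ, (g * x * g⁻¹) ^ (p ^ j) = 1 := by
  obtain ⟨j, hj⟩ := h
  exact ⟨j, by rw [conj_pow, hj]; simp⟩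

theorem not_dvd_comap (K : Subgroup G) [K.Normal] (hK : ¬ p ∣ Nat.card K)
    (L : Subgroup (G ⧸ K)) (hL : ¬ p ∣ Nat.card L) :
    ¬ p ∣ Nat.card (L.comap (QuotientGroup.mk' K)) := by
  intro hdvd
  obtain ⟨⟨g, hg⟩, hgo⟩ := exists_prime_orderOf_dvd_card' p hdvd
  have hgo' : orderOf g = p := by simpa using hgo
  have h1 : (QuotientGroup.mk' K g) ∈ L := hg
  have h2 : (orderOf (QuotientGroup.mk' K g)).Coprime p := coprime_of_mem hL h1
  have h3 : orderOf (QuotientGroup.mk' K g) ∣ p := by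
    rw [← hgo']; exact orderOf_map_dvd _ g
  have h4 : QuotientGroup.mk' K g = 1 := by
    rw [← orderOf_eq_one_iff]; exact Nat.Coprime.eq_one_of_dvd h2 h3
  have h5 : g ∈ K := by rwa [QuotientGroup.mk'_apply, QuotientGroup.eq_one_iff] at h4
  exact hK (hgo' ▸ Subgroup.orderOf_dvd_natCard K h5)

theorem MC.exists_setup (h : MC p G) (P : Sylow p G) :
    ∃ (K : Subgroup G) (y : G), Setup p G P K y := by
  have hcyc : IsCyclic (P : Subgroup G) := h.hyp.1 P P.2
  have hNC : ¬ normalizer ((P : Subgroup G) : Set G) ≤ centralizer ((P : Subgroup G) : Set G) :=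
    fun hle => h.not (concl_of_burnside P hle)
  have hPN : (P : Subgroup G) ≤ normalizer ((P : Subgroup G) : Set G) := le_normalizer
  haveI : ((P : Subgroup G).subgroupOf (normalizer ((P : Subgroup G) : Set G))).Normal :=
    Subgroup.normal_in_normalizer
  have hcardP' : Nat.card ((P : Subgroup G).subgroupOf (normalizer ((P : Subgroup G) : Set G)))
      = Nat.card (P : Subgroup G) :=
    Nat.card_congr (Subgroup.subgroupOfEquivOfLe hPN).toEquiv
  have hidx : ¬ p ∣ ((P : Subgroup G).subgroupOf (normalizer ((P : Subgroup G) : Set G))).index := by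
    intro hd
    have h1 : (P : Subgroup G).relIndex (normalizer ((P : Subgroup G) : Set G)) ∣
        (P : Subgroup G).index := Subgroup.relIndex_dvd_index_of_le hPN
    exact P.not_dvd_index (hd.trans h1)
  have hco : (Nat.card ((P : Subgroup G).subgroupOf
      (normalizer ((P : Subgroup G) : Set G)))).Coprime
      ((P : Subgroup G).subgroupOf (normalizer ((P : Subgroup G) : Set G))).index := by
    rw [hcardP']
    obtain ⟨e, he⟩ := IsPGroup.iff_card.1 P.2
    rw [he]
    exact Nat.Coprime.pow_left e ((Nat.Prime.coprime_iff_not_dvd hp.out).2 hidx)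
  obtain ⟨H, hH⟩ := Subgroup.exists_right_complement'_of_coprime hco
  have hKcard : Nat.card (H.map (normalizer ((P : Subgroup G) : Set G)).subtype) = Nat.card H :=
    (Nat.card_congr (H.equivMapOfInjective _ (Subgroup.subtype_injective _)).toEquiv).symm
  have hHidx : ((P : Subgroup G).subgroupOf (normalizer ((P : Subgroup G) : Set G))).index
      = Nat.card H := hH.symm.index_eq_card
  have hKp : ¬ p ∣ Nat.card (H.map (normalizer ((P : Subgroup G) : Set G)).subtype) := by
    rw [hKcard, ← hHidx]; exact hidx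
  have hdec : ∀ g ∈ normalizer ((P : Subgroup G) : Set G), ∃ u ∈ (P : Subgroup G),
      ∃ k ∈ H.map (normalizer ((P : Subgroup G) : Set G)).subtype, g = u * k := by
    intro g hg
    obtain ⟨⟨u, k⟩, huk⟩ := hH.2 ⟨g, hg⟩
    refine ⟨((u : normalizer ((P : Subgroup G) : Set G)) : G), Subgroup.mem_subgroupOf.1 u.2,
      ((k : normalizer ((P : Subgroup G) : Set G)) : G), Subgroup.mem_map_of_mem _ k.2, ?_⟩
    have := congrArg Subtype.val huk
    simpa using this.symm
  have hcard : Nat.card (H.map (normalizer ((P : Subgroup G) : Set G)).subtype) *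
      Nat.card (P : Subgroup G) = Nat.card (normalizer ((P : Subgroup G) : Set G)) := by
    rw [hKcard, ← hcardP', mul_comm]; exact hH.card_mul_card
  have hKN : H.map (normalizer ((P : Subgroup G) : Set G)).subtype ≤
      normalizer ((P : Subgroup G) : Set G) := Subgroup.map_subtype_le H
  have : ∃ y ∈ H.map (normalizer ((P : Subgroup G) : Set G)).subtype,
      ¬ ∀ x ∈ (P : Subgroup G), y * x = x * y := by
    by_contra hall
    push Not at hall
    apply hNC
    intro g hg
    obtain ⟨u, hu, k, hk, rfl⟩ := hdec g hg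
    rw [Subgroup.mem_centralizer_iff]
    intro x hx
    have h1 := comm_of_cyc hcyc hx hu
    have h2 := hall k hk x hx
    calc x * (u * k) = u * x * k := by rw [← mul_assoc, h1]
      _ = u * k * x := by rw [mul_assoc, ← h2, mul_assoc]
  obtain ⟨y, hyK, hyC⟩ := this
  exact ⟨_, y, ⟨h, hKN, hKp, hdec, hcard, hyK, hyC⟩⟩

namespace Setup

variable {P : Sylow p G} {K : Subgroup G} {y : G} (s : Setup p G P K y)
include s

omit [Finite G] hp in
theorem cyc : IsCyclic (P : Subgroup G) := s.mc.hyp.1 P P.2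

omit [Finite G] hp in
theorem yN : y ∈ normalizer ((P : Subgroup G) : Set G) := s.hKN s.hyK

theorem yco : (orderOf y).Coprime p := coprime_of_mem s.hKp s.hyK

omit [Finite G] hp in
theorem Kcomm {a b : G} (ha : a ∈ K) (hb : b ∈ K) : a * b = b * a :=
  s.mc.hyp.2 K s.hKp a ha b hb

omit [Finite G] hp in
theorem Pcomm {a b : G} (ha : a ∈ (P : Subgroup G)) (hb : b ∈ (P : Subgroup G)) :
    a * b = b * a := comm_of_cyc s.cyc ha hb

theorem not_normal : ¬ (P : Subgroup G).Normal := by
  intro hn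
  apply s.mc.not
  right
  refine ⟨P, hn, P.2, fun x hx => mem_sylow_of_pow P ?_ hx⟩
  rw [Subgroup.normalizer_eq_top_iff.2 hn]; exact Subgroup.mem_top x

theorem hmax {H : Subgroup G} (hH : H ≠ ⊤) (hPH : (P : Subgroup G) ≤ H) (hyH : y ∈ H) :
    H ≤ normalizer ((P : Subgroup G) : Set G) := by
  have hlt : Nat.card H < Nat.card G :=
    Cfsg.Agent.Lib.Helper9.card_lt_of_lt_top (lt_top_iff_ne_top.2 hH)
  have hc := s.mc.ih H hlt (hyp_subgroup H s.mc.hyp)
  rcases concl_sub H hc with ⟨M, hMH, hHM, hMp, hM⟩ | ⟨S, hSH, hHS, hSp, hS⟩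
  · exfalso
    apply s.hyC
    obtain ⟨j, hj⟩ := hM y hyH
    have hyM : y ∈ M := mem_of_pow_mem s.yco hj
    intro x hx
    have hw1 : y * x * y⁻¹ * x⁻¹ ∈ (P : Subgroup G) :=
      mul_mem ((Subgroup.mem_normalizer_iff.1 s.yN x).1 hx) (inv_mem hx)
    have hw2 : y * x * y⁻¹ * x⁻¹ ∈ M := by
      have h1 : x * y⁻¹ * x⁻¹ ∈ M :=
        (Subgroup.mem_normalizer_iff.1 (hHM (hPH hx)) y⁻¹).1 (inv_mem hyM)
      have : y * x * y⁻¹ * x⁻¹ = y * (x * y⁻¹ * x⁻¹) := by group
      rw [this]; exact mul_mem hyM h1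
    have hw : y * x * y⁻¹ * x⁻¹ = 1 :=
      eq_one_of_pow_of_coprime (pow_of_isPGroup P.2 hw1) (coprime_of_mem hMp hw2)
    calc y * x = y * x * y⁻¹ * x⁻¹ * x * y := by group
      _ = x * y := by rw [hw, one_mul]
  · have hPS : (P : Subgroup G) ≤ S := fun x hx => hS x (hPH hx) (pow_of_isPGroup P.2 hx)
    have hSP := P.3 hSp hPS
    rw [← hSP]; exact hHS

theorem lemmaK (M : Subgroup G) (hMn : M.Normal) (hMp : ¬ p ∣ Nat.card M) :
    M ≤ normalizer ((P : Subgroup G) : Set G) := by
  haveI := hMn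
  have hsup : ¬ p ∣ Nat.card (Subgroup.zpowers y ⊔ M : Subgroup G) := by
    intro hd
    have h1 := Cfsg.Agent.Lib.Helper9.card_sup_dvd (Subgroup.zpowers y) M
    rcases (Nat.Prime.dvd_mul hp.out).1 (hd.trans h1) with h2 | h2
    · rw [Nat.card_zpowers] at h2
      exact (Nat.Prime.coprime_iff_not_dvd hp.out).1 s.yco.symm h2
    · exact hMp h2
  have hyM : ∀ m ∈ M, y * m = m * y := fun m hm =>
    s.mc.hyp.2 _ hsup y ((le_sup_left : Subgroup.zpowers y ≤ _) (Subgroup.mem_zpowers y)) m
      ((le_sup_right : M ≤ _) hm)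
  have hyc : y ∈ centralizer (M : Set G) := by
    rw [Subgroup.mem_centralizer_iff]; intro m hm; exact (hyM m hm).symm
  have hPle : (P : Subgroup G) ≤ (P : Subgroup G) ⊓ centralizer (M : Set G) := by
    apply cyc_comm s.cyc P.2 s.yN s.yco _ s.hyC
    intro x hx
    refine Subgroup.mem_inf.2 ⟨Subgroup.mul_mem _ ((Subgroup.mem_normalizer_iff.1 s.yN x).1 hx)
      (Subgroup.inv_mem _ hx), ?_⟩
    have h1 : x * y⁻¹ * x⁻¹ ∈ centralizer (M : Set G) :=
      (inferInstance : (Subgroup.centralizer (M : Set G)).Normal).conj_mem _ (Subgroup.inv_mem _ hyc) x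
    have : y * x * y⁻¹ * x⁻¹ = y * (x * y⁻¹ * x⁻¹) := by group
    rw [this]; exact mul_mem hyc h1
  intro m hm
  apply centralizer_le_normalizer
  rw [Subgroup.mem_centralizer_iff]
  intro x hx
  have := Subgroup.mem_centralizer_iff.1 (hPle hx).2 m hm
  exact this.symm

theorem nop' (M : Subgroup G) (hMn : M.Normal) (hMp : ¬ p ∣ Nat.card M) : M = ⊥ := by
  by_contra hMbot
  haveI := hMn
  have hlt : Nat.card (G ⧸ M) < Nat.card G := by
    have h1 := Subgroup.card_eq_card_quotient_mul_card_subgroup M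
    have h2 : 1 < Nat.card M := (Subgroup.one_lt_card_iff_ne_bot M).2 hMbot
    have h3 : 0 < Nat.card (G ⧸ M) := Nat.card_pos
    nlinarith
  have hc := s.mc.ih (G ⧸ M) hlt (hyp_quot M hMp P s.mc.hyp)
  apply s.mc.not
  rcases hc with ⟨M', hM'n, hM'p, hM'⟩ | ⟨S, hSn, hSp, hS⟩
  · left
    refine ⟨M'.comap (QuotientGroup.mk' M), hM'n.comap _, not_dvd_comap M hMp M' hM'p,
      fun x => ?_⟩
    obtain ⟨j, hj⟩ := hM' (QuotientGroup.mk x)
    exact ⟨j, by rw [Subgroup.mem_comap]; simpa using hj⟩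
  · exfalso
    have hs : Function.Surjective (QuotientGroup.mk' M) := QuotientGroup.mk'_surjective M
    have h1 : (P : Subgroup G).map (QuotientGroup.mk' M) ≤ S := by
      rintro _ ⟨x, hx, rfl⟩
      apply hS
      obtain ⟨j, hj⟩ := pow_of_isPGroup P.2 hx
      exact ⟨j, by rw [← map_pow, hj, map_one]⟩
    have h2 : S = (P : Subgroup G).map (QuotientGroup.mk' M) := (P.mapSurjective hs).3 hSp h1
    have h3 : S.comap (QuotientGroup.mk' M) = (P : Subgroup G) ⊔ M := by
      rw [h2, Subgroup.comap_map_eq, QuotientGroup.ker_mk']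
    haveI : ((P : Subgroup G) ⊔ M).Normal := h3 ▸ hSn.comap _
    have h4 : normalizer ((P : Subgroup G) : Set G) ⊔ ((P : Subgroup G) ⊔ M) = ⊤ :=
      Sylow.normalizer_sup_eq_top' P le_sup_left
    have h5 : normalizer ((P : Subgroup G) : Set G) ⊔ M = ⊤ := by
      rw [← h4, ← sup_assoc, sup_eq_left.2 (le_normalizer : (P : Subgroup G) ≤ _)]
    have h6 : M ≤ normalizer ((P : Subgroup G) : Set G) := s.lemmaK M hMn hMp
    rw [sup_eq_left.2 h6] at h5
    exact s.not_normal (Subgroup.normalizer_eq_top_iff.1 h5)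

theorem ns (C : Subgroup G) (hCn : C.Normal) (hC : C ≠ ⊤) (hPC : (P : Subgroup G) ≤ C) :
    False := by
  have hlt : Nat.card C < Nat.card G :=
    Cfsg.Agent.Lib.Helper9.card_lt_of_lt_top (lt_top_iff_ne_top.2 hC)
  have hc := s.mc.ih C hlt (hyp_subgroup C s.mc.hyp)
  rcases concl_sub C hc with ⟨M, hMC, hCM, hMp, hM⟩ | ⟨S, hSC, hCS, hSp, hS⟩
  · have hMn : M.Normal := by
      constructor
      intro m hm g
      have h1 : g * m * g⁻¹ ∈ C := hCn.conj_mem m (hMC hm) g
      obtain ⟨j, hj⟩ := hM _ h1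
      refine mem_of_pow_mem ?_ hj
      rw [orderOf_conj']; exact coprime_of_mem hMp hm
    have hbot := s.nop' M hMn hMp
    have hCp : IsPGroup p C := by
      rintro ⟨x, hx⟩
      obtain ⟨j, hj⟩ := hM x hx
      rw [hbot, Subgroup.mem_bot] at hj
      exact ⟨j, Subtype.ext (by simpa using hj)⟩
    have hCP := P.3 hCp hPC
    exact s.not_normal (hCP ▸ hCn)
  · have hPS : (P : Subgroup G) ≤ S := fun x hx => hS x (hPC hx) (pow_of_isPGroup P.2 hx)
    have hSP := P.3 hSp hPS
    apply s.not_normal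
    rw [← Subgroup.normalizer_eq_top_iff, eq_top_iff]
    intro g _
    apply Cfsg.Agent.Lib.Helper17.Syl.mem_normalizer_of_conj_mem
    intro x hx
    have h1 : g * x * g⁻¹ ∈ C := hCn.conj_mem x (hPC hx) g
    have h2 := hS _ h1 (pow_conj' (pow_of_isPGroup P.2 hx))
    rw [hSP] at h2; exact h2

theorem nop (P₁ : Subgroup G) (h1 : P₁ ≤ (P : Subgroup G)) (hn : P₁.Normal) : P₁ = ⊥ := by
  by_contra hb
  obtain ⟨⟨c, hc⟩, hc1⟩ := (Subgroup.ne_bot_iff_exists_ne_one).1 hb
  have hc1' : c ≠ 1 := fun h => hc1 (Subtype.ext h)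
  haveI := hn
  have hCn : (centralizer (P₁ : Set G)).Normal := inferInstance
  have hPC : (P : Subgroup G) ≤ centralizer (P₁ : Set G) := by
    intro x hx
    rw [Subgroup.mem_centralizer_iff]
    intro a ha
    exact s.Pcomm (h1 ha) hx
  by_cases hC : centralizer (P₁ : Set G) = ⊤
  · apply s.hyC
    have hy : y ∈ centralizer (P₁ : Set G) := hC ▸ Subgroup.mem_top y
    have := Subgroup.mem_centralizer_iff.1 hy c hc
    exact cyc_fix s.cyc P.2 s.yN s.yco (h1 hc) hc1' this.symm
  · exact s.ns (centralizer (P₁ : Set G)) hCn hC hPC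

theorem norm_eq (P₁ : Subgroup G) (h1 : P₁ ≤ (P : Subgroup G)) (hb : P₁ ≠ ⊥) :
    normalizer (P₁ : Set G) = normalizer ((P : Subgroup G) : Set G) := by
  have hle : normalizer ((P : Subgroup G) : Set G) ≤ normalizer (P₁ : Set G) :=
    fun g hg => cyc_char s.cyc h1 hg
  apply le_antisymm _ hle
  apply s.hmax
  · intro htop
    exact hb (s.nop P₁ h1 (Subgroup.normalizer_eq_top_iff.1 htop))
  · exact le_normalizer.trans hle
  · exact hle s.yN

theorem ti {g x : G} (hx : x ∈ (P : Subgroup G)) (hx1 : x ≠ 1)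
    (hgx : g * x * g⁻¹ ∈ (P : Subgroup G)) : g ∈ normalizer ((P : Subgroup G) : Set G) := by
  have hz : Subgroup.zpowers x ≤ (P : Subgroup G) := by rw [Subgroup.zpowers_le]; exact hx
  have hzb : Subgroup.zpowers x ≠ ⊥ := by
    rw [Ne, Subgroup.zpowers_eq_bot]; exact hx1
  have hN := s.norm_eq _ hz hzb
  have key : g⁻¹ ∈ normalizer ((P : Subgroup G) : Set G) := by
    apply Cfsg.Agent.Lib.Helper17.Syl.mem_normalizer_of_conj_mem
    intro u hu
    apply mem_sylow_of_pow P _ (pow_conj' (pow_of_isPGroup P.2 hu))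
    rw [← hN]
    apply Cfsg.Agent.Lib.Helper17.Syl2.centralizer_singleton_le_normalizer_zpowers
    rw [Subgroup.mem_centralizer_iff]
    intro a ha
    rw [Set.mem_singleton_iff] at ha
    rw [ha]
    have h1 := s.Pcomm hu hgx
    have : x * (g⁻¹ * u * g⁻¹⁻¹) = g⁻¹ * ((g * x * g⁻¹) * u) * g := by group
    rw [this, ← h1]; group
  simpa using inv_mem key

theorem cent {x g : G} (hx : x ∈ (P : Subgroup G)) (hx1 : x ≠ 1) (hg : g * x = x * g) :
    g ∈ centralizer ((P : Subgroup G) : Set G) := by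
  have hgN : g ∈ normalizer ((P : Subgroup G) : Set G) := by
    apply s.ti hx hx1
    have : g * x * g⁻¹ = x := by rw [hg]; group
    rw [this]; exact hx
  obtain ⟨u, hu, k, hk, rfl⟩ := s.hdec g hgN
  have hkx : k * x = x * k := by
    have h1 := s.Pcomm hu hx
    have : k * x = u⁻¹ * ((u * k) * x) := by group
    rw [this, hg, ← mul_assoc, ← mul_assoc]
    have h2 : u⁻¹ * x * u = x := by rw [mul_assoc, ← h1]; group
    rw [h2]
  have hkc := cyc_fix s.cyc P.2 (s.hKN hk) (coprime_of_mem s.hKp hk) hx hx1 hkx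
  rw [Subgroup.mem_centralizer_iff]
  intro a ha
  rw [← mul_assoc, s.Pcomm ha hu, mul_assoc, ← hkc a ha, mul_assoc]

theorem mem_K {a : G} (ha : a ∈ centralizer ((P : Subgroup G) : Set G))
    (hco : (orderOf a).Coprime p) : a ∈ K := by
  obtain ⟨u, hu, k, hk, rfl⟩ := s.hdec a (centralizer_le_normalizer _ ha)
  have hku : u * k = k * u := by
    have h1 := Subgroup.mem_centralizer_iff.1 ha u hu
    have : k * u = u⁻¹ * (u * k * u) := by group
    rw [this, ← h1]; group
  have hcomm : Commute u k := hku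
  have hpow : (u * k) ^ orderOf (u * k) = 1 := pow_orderOf_eq_one _
  rw [hcomm.mul_pow] at hpow
  have hun : u ^ orderOf (u * k) = (k ^ orderOf (u * k))⁻¹ := eq_inv_of_mul_eq_one_left hpow
  have h2 : u ^ orderOf (u * k) = 1 := by
    apply eq_one_of_pow_of_coprime (p := p) (pow_of_isPGroup P.2 (pow_mem hu _))
    rw [hun]
    exact coprime_of_mem s.hKp (inv_mem (pow_mem hk _))
  have h3 : u = 1 := by
    apply eq_one_of_pow_of_coprime (p := p) (pow_of_isPGroup P.2 hu)
    exact Nat.Coprime.coprime_dvd_left (orderOf_dvd_of_pow_eq_one h2) hco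
  rw [h3, one_mul]; exact hk

theorem cz {z : G} (hzK : z ∈ K) (hzC : z ∈ centralizer ((P : Subgroup G) : Set G))
    (hz1 : z ≠ 1) : centralizer ({z} : Set G) = normalizer ((P : Subgroup G) : Set G) := by
  apply le_antisymm
  · apply s.hmax
    · intro htop
      have hzn : (Subgroup.zpowers z).Normal := by
        constructor
        intro a ha g
        have hg : g ∈ centralizer ({z} : Set G) := htop ▸ Subgroup.mem_top g
        have hgz : z * g = g * z := Subgroup.mem_centralizer_iff.1 hg z rfl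
        obtain ⟨i, rfl⟩ := Subgroup.mem_zpowers_iff.1 ha
        have : g * z ^ i * g⁻¹ = z ^ i := by
          rw [← conj_zpow]; congr 1; rw [← hgz]; group
        rw [this]; exact Subgroup.zpow_mem_zpowers z i
      have := s.nop' _ hzn (by
        rw [Nat.card_zpowers]
        exact fun hd => (Nat.Prime.coprime_iff_not_dvd hp.out).1
          (coprime_of_mem s.hKp hzK).symm hd)
      rw [Subgroup.zpowers_eq_bot] at this
      exact hz1 this
    · intro x hx
      rw [Subgroup.mem_centralizer_iff]; intro a ha; rw [Set.mem_singleton_iff] at ha; rw [ha]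
      exact (Subgroup.mem_centralizer_iff.1 hzC x hx).symm
    · rw [Subgroup.mem_centralizer_iff]; intro a ha; rw [Set.mem_singleton_iff] at ha; rw [ha]
      exact s.Kcomm hzK s.hyK
  · intro g hg
    obtain ⟨u, hu, k, hk, rfl⟩ := s.hdec g hg
    rw [Subgroup.mem_centralizer_iff]; intro a ha; rw [Set.mem_singleton_iff] at ha; rw [ha]
    have h1 := Subgroup.mem_centralizer_iff.1 hzC u hu
    rw [← mul_assoc, ← h1, mul_assoc, s.Kcomm hzK hk, mul_assoc]

theorem exists_pelt {r : ℕ} [hr : Fact r.Prime] (hrp : r ≠ p) (R : Sylow r G)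
    (hR : (R : Subgroup G) ≠ ⊥) :
    ∃ c : G, (∃ j : ℕ, c ^ (p ^ j) = 1) ∧ c ∈ normalizer ((R : Subgroup G) : Set G) ∧
      c ∉ centralizer ((R : Subgroup G) : Set G) := by
  by_contra hcon
  push Not at hcon
  have hRp : ¬ p ∣ Nat.card (R : Subgroup G) := by
    obtain ⟨e, he⟩ := IsPGroup.iff_card.1 R.2
    rw [he]; intro hd
    exact hrp ((Nat.prime_dvd_prime_iff_eq hp.out hr.out).1 (hp.out.dvd_of_dvd_pow hd)).symm
  have hle : normalizer ((R : Subgroup G) : Set G) ≤ centralizer ((R : Subgroup G) : Set G) := by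
    intro g hg
    obtain ⟨a, b, hab, ha, hb⟩ := pp_decomp p g
    rw [hab]
    refine mul_mem (hcon _ ha (pow_mem hg a)) ?_
    have hgb : g ^ b ∈ normalizer ((R : Subgroup G) : Set G) := pow_mem hg b
    have hsup : ¬ p ∣ Nat.card ((R : Subgroup G) ⊔ Subgroup.zpowers (g ^ b) : Subgroup G) := by
      intro hd
      have h1 := Cfsg.Agent.Lib.Helper9.card_sup_dvd_of_le_normalizer (X := (R : Subgroup G))
        (Y := Subgroup.zpowers (g ^ b)) (by rw [Subgroup.zpowers_le]; exact hgb)
      rcases (Nat.Prime.dvd_mul hp.out).1 (hd.trans h1) with h2 | h2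
      · exact hRp h2
      · rw [Nat.card_zpowers] at h2
        exact (Nat.Prime.coprime_iff_not_dvd hp.out).1 hb.symm h2
    rw [Subgroup.mem_centralizer_iff]
    intro x hx
    exact s.mc.hyp.2 _ hsup x ((le_sup_left : (R : Subgroup G) ≤ _) hx) (g ^ b)
      ((le_sup_right : Subgroup.zpowers (g ^ b) ≤ _) (Subgroup.mem_zpowers _))
  have hcomp := MonoidHom.ker_transferSylow_isComplement' R hle
  have hMtop : (MonoidHom.transferSylow R hle).ker ≠ ⊤ := by
    intro htop
    have h1 := hcomp.card_mul_card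
    rw [htop, Subgroup.card_top] at h1
    have : Nat.card (R : Subgroup G) = 1 := by
      have hpos : 0 < Nat.card G := Nat.card_pos
      exact Nat.eq_of_mul_eq_mul_left hpos (by rw [h1, mul_one])
    exact hR (Subgroup.card_eq_one.1 this)
  have hPM : (P : Subgroup G) ≤ (MonoidHom.transferSylow R hle).ker := by
    intro x hx
    rw [MonoidHom.mem_ker]
    have h1 : orderOf (MonoidHom.transferSylow R hle x) ∣ orderOf x := orderOf_map_dvd _ x
    obtain ⟨j, hj⟩ := pow_of_isPGroup P.2 hx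
    have h2 : orderOf (MonoidHom.transferSylow R hle x) ∣ p ^ j :=
      h1.trans (orderOf_dvd_of_pow_eq_one hj)
    have h3 : orderOf (MonoidHom.transferSylow R hle x) ∣ Nat.card (R : Subgroup G) :=
      orderOf_dvd_natCard _
    have h4 : (Nat.card (R : Subgroup G)).Coprime (p ^ j) :=
      Nat.Coprime.pow_right j ((Nat.Prime.coprime_iff_not_dvd hp.out).2 hRp).symm
    rw [← orderOf_eq_one_iff]
    exact Nat.eq_one_of_dvd_coprimes h4 h3 h2
  exact s.ns _ inferInstance hMtop hPM

end Setup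

end

end Cfsg.Agent.Lib.Helper17.CycSyl
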