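import Mathlib
import Cfsg.Agent.Lib.Helper17.CycSyl2

/-!
Minimal counterexample analysis, part 2: counting lemmas and the case `C_K(P) = 1`.
-/

set_option autoImplicit false

namespace Cfsg.Agent.Lib.Helper17.CycSyl

open Subgroup
open scoped Pointwise

universe u

section

variable {G : Type u} [Group G] [Finite G] {p : ℕ} [hp : Fact p.Prime]

theorem exists_conj_mem (P : Sylow p G) {c : G} (hc : ∃ j : ℕ, c ^ (p ^ j) = 1) :
    ∃ g : G, g⁻¹ * c * g ∈ (P : Subgroup G) := by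
  obtain ⟨Q, hQ⟩ := (isPGroup_zpowers (p := p) hc).exists_le_sylow
  obtain ⟨g, hg⟩ := MulAction.exists_smul_eq G P Q
  refine ⟨g, ?_⟩
  have hy : c ∈ (Q : Subgroup G) := hQ (Subgroup.mem_zpowers c)
  rw [← hg] at hy
  have h2 : c ∈ (MulAut.conj g • (P : Subgroup G) : Subgroup G) := hy
  rw [Subgroup.mem_pointwise_smul_iff_inv_smul_mem] at h2
  have h3 : (MulAut.conj g)⁻¹ • c = g⁻¹ * c * g := by
    rw [← map_inv, MulAut.smul_def, MulAut.conj_apply, inv_inv]
  rwa [h3] at h2

theorem card_modEq_one_of_fpf {Q : Subgroup G} {c : G} (hc : ∃ j : ℕ, c ^ (p ^ j) = 1)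
    (hcN : c ∈ normalizer (Q : Set G)) (hfix : ∀ a ∈ Q, c * a = a * c → a = 1) :
    Nat.card Q ≡ 1 [MOD p] := by
  have hZ : IsPGroup p (Subgroup.zpowers c) := isPGroup_zpowers hc
  have hle : Subgroup.zpowers c ≤ normalizer (Q : Set G) := by
    rw [Subgroup.zpowers_le]; exact hcN
  letI act : MulAction (Subgroup.zpowers c) Q :=
    { smul := fun z q => ⟨(z : G) * q * (z : G)⁻¹,
        (Subgroup.mem_normalizer_iff.1 (hle z.2) q).1 q.2⟩
      one_smul := fun q => Subtype.ext (by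
        show ((1 : Subgroup.zpowers c) : G) * q * ((1 : Subgroup.zpowers c) : G)⁻¹ = q
        simp)
      mul_smul := fun a b q => Subtype.ext (by
        show ((a * b : Subgroup.zpowers c) : G) * q * ((a * b : Subgroup.zpowers c) : G)⁻¹
          = (a : G) * ((b : G) * q * (b : G)⁻¹) * (a : G)⁻¹
        simp [mul_assoc]) }
  have h1 := hZ.card_modEq_card_fixedPoints Q
  have h2 : Nat.card (MulAction.fixedPoints (Subgroup.zpowers c) Q) = 1 := by
    rw [Nat.card_eq_one_iff_exists]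
    refine ⟨⟨1, ?_⟩, ?_⟩
    · intro z
      apply Subtype.ext
      show (z : G) * ((1 : Q) : G) * (z : G)⁻¹ = ((1 : Q) : G)
      simp
    · rintro ⟨a, ha⟩
      apply Subtype.ext
      apply Subtype.ext
      have h3 := ha ⟨c, Subgroup.mem_zpowers c⟩
      have h4 : c * (a : G) * c⁻¹ = (a : G) := congrArg Subtype.val h3
      apply hfix a a.2
      calc c * (a : G) = (c * (a : G) * c⁻¹) * c := by group
        _ = (a : G) * c := by rw [h4]
  rw [h2] at h1
  exact h1

theorem index_modEq_one (P : Sylow p G)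
    (h : ∀ (q : ℕ) [Fact q.Prime], q ≠ p → ∀ Q : Sylow q G,
      Nat.card (Q : Subgroup G) ≡ 1 [MOD p]) :
    (P : Subgroup G).index ≡ 1 [MOD p] := by
  have hn0 : (P : Subgroup G).index ≠ 0 := Subgroup.index_ne_zero_of_finite
  have hpn : ¬ p ∣ (P : Subgroup G).index := P.not_dvd_index
  have hfac := Nat.prod_factorization_pow_eq_self hn0
  rw [← hfac, Finsupp.prod]
  apply Finset.prod_induction _ (fun m => m ≡ 1 [MOD p])
  · intro a b ha hb; simpa using ha.mul hb
  · exact Nat.ModEq.refl 1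
  · intro q hq
    rw [Nat.support_factorization] at hq
    have hqp : q.Prime := Nat.prime_of_mem_primeFactors hq
    haveI : Fact q.Prime := ⟨hqp⟩
    have hqn : q ∣ (P : Subgroup G).index := Nat.dvd_of_mem_primeFactors hq
    have hqne : q ≠ p := by rintro rfl; exact hpn hqn
    obtain ⟨Q⟩ : Nonempty (Sylow q G) := inferInstance
    have h1 := h q hqne Q
    rw [Sylow.card_eq_multiplicity] at h1
    obtain ⟨k, hk⟩ := IsPGroup.iff_card.1 P.2
    have hcard : Nat.card G = p ^ k * (P : Subgroup G).index := by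
      rw [← hk]; exact (Subgroup.card_mul_index _).symm
    have hq0 : (p ^ k).factorization q = 0 := by
      apply Nat.factorization_eq_zero_of_not_dvd
      intro hd
      exact hqne ((Nat.prime_dvd_prime_iff_eq hqp hp.out).1 (hqp.dvd_of_dvd_pow hd))
    have h2 : (Nat.card G).factorization q = ((P : Subgroup G).index).factorization q := by
      rw [hcard, Nat.factorization_mul (pow_ne_zero k hp.out.ne_zero) hn0, Finsupp.add_apply,
        hq0, zero_add]
    rw [h2] at h1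
    exact h1

namespace Setup

variable {P : Sylow p G} {K : Subgroup G} {y : G} (s : Setup p G P K y)
include s

theorem caseA_pelt (hA : ∀ a ∈ K, a ∈ centralizer ((P : Subgroup G) : Set G) → a = 1)
    {c a : G} (hc : ∃ j : ℕ, c ^ (p ^ j) = 1) (hc1 : c ≠ 1) (hca : c * a = a * c) :
    ∃ j : ℕ, a ^ (p ^ j) = 1 := by
  obtain ⟨g, hg⟩ := exists_conj_mem P hc
  have hc1' : g⁻¹ * c * g ≠ 1 := by
    intro h
    apply hc1
    have : c = g * (g⁻¹ * c * g) * g⁻¹ := by group
    rw [this, h]; group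
  have hcomm : (g⁻¹ * a * g) * (g⁻¹ * c * g) = (g⁻¹ * c * g) * (g⁻¹ * a * g) := by
    have h1 : (g⁻¹ * a * g) * (g⁻¹ * c * g) = g⁻¹ * (a * c) * g := by group
    have h2 : (g⁻¹ * c * g) * (g⁻¹ * a * g) = g⁻¹ * (c * a) * g := by group
    rw [h1, h2, hca]
  have hcen := s.cent hg hc1' hcomm
  obtain ⟨m, n, hmn, hm, hn⟩ := pp_decomp p (g⁻¹ * a * g)
  have hn1 : (g⁻¹ * a * g) ^ n = 1 := hA _ (s.mem_K (pow_mem hcen n) hn) (pow_mem hcen n)
  rw [hn1, mul_one] at hmn
  have h3 : ∃ j : ℕ, (g⁻¹ * a * g) ^ (p ^ j) = 1 := by rw [hmn]; exact hm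
  have h4 := pow_conj' (g := g) h3
  have : g * (g⁻¹ * a * g) * g⁻¹ = a := by group
  rwa [this] at h4

theorem caseA_sylow (hA : ∀ a ∈ K, a ∈ centralizer ((P : Subgroup G) : Set G) → a = 1)
    {q : ℕ} [hq : Fact q.Prime] (hqp : q ≠ p) (Q : Sylow q G) :
    Nat.card (Q : Subgroup G) ≡ 1 [MOD p] := by
  by_cases hQ : (Q : Subgroup G) = ⊥
  · rw [hQ, Subgroup.card_bot]
  · obtain ⟨c, hc, hcN, hcC⟩ := s.exists_pelt hqp Q hQ
    have hc1 : c ≠ 1 := by rintro rfl; exact hcC (Subgroup.one_mem _)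
    apply card_modEq_one_of_fpf hc hcN
    intro a ha hca
    have h1 := s.caseA_pelt hA hc hc1 hca
    apply eq_one_of_pow_of_coprime (p := p) h1
    obtain ⟨j, hj⟩ := pow_of_isPGroup Q.2 ha
    have h2 : orderOf a ∣ q ^ j := orderOf_dvd_of_pow_eq_one hj
    have h3 : (q ^ j).Coprime p :=
      Nat.Coprime.pow_left j ((Nat.coprime_primes hq.out hp.out).2 hqp)
    exact Nat.Coprime.coprime_dvd_left h2 h3

theorem caseA (hA : ∀ a ∈ K, a ∈ centralizer ((P : Subgroup G) : Set G) → a = 1) : False := by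
  have hp1 : p.Prime := hp.out
  have hPN : (P : Subgroup G) ≤ normalizer ((P : Subgroup G) : Set G) := le_normalizer
  have h1 : (P : Subgroup G).index ≡ 1 [MOD p] :=
    index_modEq_one P (fun q _ hqp Q => s.caseA_sylow hA hqp Q)
  have h2 : (normalizer ((P : Subgroup G) : Set G)).index ≡ 1 [MOD p] := by
    have h := card_sylow_modEq_one p G
    rw [Sylow.card_eq_index_normalizer P] at h
    exact h
  have h3 := Subgroup.relIndex_mul_index hPN
  have h4 : (P : Subgroup G).relIndex (normalizer ((P : Subgroup G) : Set G)) = Nat.card K := by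
    have h5 := Subgroup.index_mul_card
      ((P : Subgroup G).subgroupOf (normalizer ((P : Subgroup G) : Set G)))
    have h6 : Nat.card ((P : Subgroup G).subgroupOf (normalizer ((P : Subgroup G) : Set G)))
      = Nat.card (P : Subgroup G) := Nat.card_congr (Subgroup.subgroupOfEquivOfLe hPN).toEquiv
    rw [h6, ← s.hcard] at h5
    have hpos : 0 < Nat.card (P : Subgroup G) := Nat.card_pos
    exact Nat.eq_of_mul_eq_mul_right hpos h5
  have h7 : Nat.card K ≡ 1 [MOD p] := by
    rw [h4] at h3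
    have h8 : Nat.card K * (normalizer ((P : Subgroup G) : Set G)).index
        ≡ Nat.card K * 1 [MOD p] := Nat.ModEq.mul_left _ h2
    rw [h3, mul_one] at h8
    exact h8.symm.trans h1
  have hy1 : y ≠ 1 := by
    intro h
    apply s.hyC
    intro x hx
    rw [h]; simp
  have hK2 : 1 < Nat.card K := (Subgroup.one_lt_card_iff_ne_bot K).2 (fun hb => hy1 (by
    have := s.hyK; rw [hb, Subgroup.mem_bot] at this; exact this))
  have hPne : p ∣ Nat.card (P : Subgroup G) := by
    obtain ⟨k, hk⟩ := IsPGroup.iff_card.1 P.2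
    rcases Nat.eq_zero_or_pos k with hk0 | hkpos
    · exfalso; apply s.hyC; intro x hx
      have : (P : Subgroup G) = ⊥ := Subgroup.card_eq_one.1 (by rw [hk, hk0, pow_zero])
      rw [this, Subgroup.mem_bot] at hx; rw [hx]; simp
    · rw [hk]; exact dvd_pow_self p hkpos.ne'
  obtain ⟨⟨c₁, hc₁P⟩, hc₁o⟩ := exists_prime_orderOf_dvd_card' p hPne
  have hc₁o' : orderOf c₁ = p := by simpa using hc₁o
  have hc₁1 : c₁ ≠ 1 := by
    rintro rfl; rw [orderOf_one] at hc₁o'; exact hp1.ne_one hc₁o'.symm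
  have hKz : ∀ k ∈ K, k * c₁ * k⁻¹ ∈ Subgroup.zpowers c₁ := by
    intro k hk
    have hkN : k ∈ normalizer ((Subgroup.zpowers c₁ : Subgroup G) : Set G) :=
      cyc_char s.cyc (by rw [Subgroup.zpowers_le]; exact hc₁P) (s.hKN hk)
    exact (Subgroup.mem_normalizer_iff.1 hkN c₁).1 (Subgroup.mem_zpowers c₁)
  let f : K → Subgroup.zpowers c₁ := fun k => ⟨(k : G) * c₁ * (k : G)⁻¹, hKz k k.2⟩
  have hf : Function.Injective f := by
    intro a b hab
    have h9 : (a : G) * c₁ * (a : G)⁻¹ = (b : G) * c₁ * (b : G)⁻¹ := congrArg Subtype.val hab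
    have h10 : ((b : G)⁻¹ * a) * c₁ = c₁ * ((b : G)⁻¹ * a) := by
      have : (b : G)⁻¹ * a * c₁ = (b : G)⁻¹ * ((a : G) * c₁ * (a : G)⁻¹) * a := by group
      rw [this, h9]; group
    have hbaK : (b : G)⁻¹ * a ∈ K := K.mul_mem (K.inv_mem b.2) a.2
    have h11 := cyc_fix s.cyc P.2 (s.hKN hbaK) (coprime_of_mem s.hKp hbaK) hc₁P hc₁1 h10
    have h12 : (b : G)⁻¹ * a = 1 := hA _ hbaK (by
      rw [Subgroup.mem_centralizer_iff]; intro x hx; exact (h11 x hx).symm)
    apply Subtype.ext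
    have : (a : G) = b * ((b : G)⁻¹ * a) := by group
    rw [this, h12, mul_one]
  have hnot : (1 : Subgroup.zpowers c₁) ∉ Set.range f := by
    rintro ⟨k, hk⟩
    have h9 : (k : G) * c₁ * (k : G)⁻¹ = 1 := congrArg Subtype.val hk
    apply hc₁1
    have : c₁ = (k : G)⁻¹ * ((k : G) * c₁ * (k : G)⁻¹) * k := by group
    rw [this, h9]; group
  have hlt : Nat.card K < Nat.card (Subgroup.zpowers c₁) := by
    haveI := Fintype.ofFinite K
    haveI := Fintype.ofFinite (Subgroup.zpowers c₁)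
    rw [Nat.card_eq_fintype_card, Nat.card_eq_fintype_card]
    exact Fintype.card_lt_of_injective_of_notMem f hf hnot
  rw [Nat.card_zpowers, hc₁o'] at hlt
  have h13 : Nat.card K % p = 1 % p := h7
  rw [Nat.mod_eq_of_lt hlt, Nat.mod_eq_of_lt hp1.one_lt] at h13
  omega

theorem exists_c₁ : ∃ c₁ ∈ (P : Subgroup G), orderOf c₁ = p := by
  have hPne : p ∣ Nat.card (P : Subgroup G) := by
    obtain ⟨k, hk⟩ := IsPGroup.iff_card.1 P.2
    rcases Nat.eq_zero_or_pos k with hk0 | hkpos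
    · exfalso; apply s.hyC; intro x hx
      have : (P : Subgroup G) = ⊥ := Subgroup.card_eq_one.1 (by rw [hk, hk0, pow_zero])
      rw [this, Subgroup.mem_bot] at hx; rw [hx]; simp
    · rw [hk]; exact dvd_pow_self p hkpos.ne'
  obtain ⟨⟨c₁, hc₁P⟩, hc₁o⟩ := exists_prime_orderOf_dvd_card' p hPne
  have hc₁o' : orderOf c₁ = p := by simpa using hc₁o
  exact ⟨c₁, hc₁P, hc₁o'⟩

end Setup

end

/-- the final configuration: `p = 3`, `z` an involution with `C(z) = N(P)`, one class of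
involutions -/
structure SetupC (p : ℕ) (G : Type u) [Group G] (P : Sylow p G) (K : Subgroup G) (y z : G) :
    Prop where
  s : Setup p G P K y
  hp3 : p = 3
  hzK : z ∈ K
  hzC : z ∈ centralizer ((P : Subgroup G) : Set G)
  hz2 : z ^ 2 = 1
  hz1 : z ≠ 1
  F2 : ∀ u ∈ centralizer ((P : Subgroup G) : Set G), u ^ 2 = 1 → u = 1 ∨ u = z
  F4 : ∀ u : G, u ^ 2 = 1 → u ≠ 1 → ∃ g : G, u = g * z * g⁻¹

end Cfsg.Agent.Lib.Helper17.CycSyl
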