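import Mathlib
import Cfsg.Agent.Lib.Helper17.CycSyl3

/-!
Minimal counterexample analysis, part 3: the case `C_K(P) ≠ 1` reduces to the final
configuration `SetupC` (`p = 3`, one class of involutions).
-/

set_option autoImplicit false

namespace Cfsg.Agent.Lib.Helper17.CycSyl

open Subgroup

universe u

/-- case B data -/
structure SetupB (p : ℕ) (G : Type u) [Group G] (P : Sylow p G) (K : Subgroup G) (y : G)
    (r : ℕ) [Fact r.Prime] (R : Sylow r G) (z c : G) : Prop where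
  s : Setup p G P K y
  hzK : z ∈ K
  hzC : z ∈ centralizer ((P : Subgroup G) : Set G)
  hzo : orderOf z = r
  hzR : z ∈ (R : Subgroup G)
  hc : ∃ j : ℕ, c ^ (p ^ j) = 1
  hcN : c ∈ normalizer ((R : Subgroup G) : Set G)
  hcC : c ∉ centralizer ((R : Subgroup G) : Set G)

section

variable {G : Type u} [Group G] [Finite G] {p : ℕ} [hp : Fact p.Prime]

/-- the elements of exponent `r` in an abelian subgroup -/
def omegaSub (A : Subgroup G) (hA : ∀ a ∈ A, ∀ b ∈ A, a * b = b * a) (r : ℕ) : Subgroup G where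
  carrier := {a | a ∈ A ∧ a ^ r = 1}
  mul_mem' := by
    rintro a b ⟨ha, ha'⟩ ⟨hb, hb'⟩
    exact ⟨A.mul_mem ha hb, by
      rw [(show Commute a b from hA a ha b hb).mul_pow, ha', hb', one_mul]⟩
  one_mem' := ⟨A.one_mem, one_pow r⟩
  inv_mem' := by
    rintro a ⟨ha, ha'⟩
    exact ⟨A.inv_mem ha, by rw [inv_pow, ha', inv_one]⟩

omit [Finite G] in
theorem conj_ne_one₄ {g w : G} (h : w ≠ 1) : g⁻¹ * w * g ≠ 1 := by
  intro h'
  apply h
  have : w = g * (g⁻¹ * w * g) * g⁻¹ := by group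
  rw [this, h']; group

omit [Finite G] in
theorem conj_pow₄ {g w : G} {n : ℕ} (h : w ^ n = 1) : (g⁻¹ * w * g) ^ n = 1 := by
  have := conj_pow (a := g⁻¹) (b := w) (i := n)
  rw [inv_inv] at this
  rw [this, h]; group

omit [Finite G] in
theorem conj_iter {e x : G} {k : ℕ} (h : e * x * e⁻¹ = x ^ k) (i : ℕ) :
    e ^ i * x * (e ^ i)⁻¹ = x ^ (k ^ i) := by
  induction i with
  | zero => simp
  | succ i ih =>
    calc e ^ (i + 1) * x * (e ^ (i + 1))⁻¹ = e * (e ^ i * x * (e ^ i)⁻¹) * e⁻¹ := by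
          rw [pow_succ']; group
      _ = e * x ^ (k ^ i) * e⁻¹ := by rw [ih]
      _ = (e * x * e⁻¹) ^ (k ^ i) := by rw [conj_pow]
      _ = x ^ (k ^ (i + 1)) := by rw [h, ← pow_mul, ← pow_succ']

omit [Finite G] in
theorem exists_T {c₁ : G} (hc₁o : orderOf c₁ = p) (r : ℕ) (hr : 0 < r) :
    ∃ T : Finset G, T.card ≤ r ∧ T.card ≤ p - 1 ∧
      ∀ (e : G) (k : ℕ), e * c₁ * e⁻¹ = c₁ ^ k → e ^ r = 1 → e * c₁ * e⁻¹ ∈ T := by
  classical
  have hp1 : p.Prime := hp.out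
  haveI : NeZero p := ⟨hp1.ne_zero⟩
  obtain ⟨S, hS⟩ : ∃ S : Finset (ZMod p), S = Finset.univ.filter (fun κ : ZMod p => κ ^ r = 1) :=
    ⟨_, rfl⟩
  refine ⟨S.image (fun κ => c₁ ^ κ.val), ?_, ?_, ?_⟩
  · refine Finset.card_image_le.trans ?_
    have h1 : S ⊆ (Polynomial.nthRoots r (1 : ZMod p)).toFinset := by
      intro κ hκ
      rw [hS] at hκ
      rw [Multiset.mem_toFinset, Polynomial.mem_nthRoots hr]
      exact (Finset.mem_filter.1 hκ).2
    exact (Finset.card_le_card h1).trans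
      ((Multiset.toFinset_card_le _).trans (Polynomial.card_nthRoots r 1))
  · refine Finset.card_image_le.trans ?_
    have h1 : S ⊆ Finset.univ.erase (0 : ZMod p) := by
      intro κ hκ
      rw [hS] at hκ
      rw [Finset.mem_erase]
      refine ⟨?_, Finset.mem_univ _⟩
      rintro rfl
      have := (Finset.mem_filter.1 hκ).2
      rw [zero_pow hr.ne'] at this
      exact zero_ne_one this
    refine (Finset.card_le_card h1).trans ?_
    rw [Finset.card_erase_of_mem (Finset.mem_univ _), Finset.card_univ, ZMod.card]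
  · intro e k hk her
    rw [Finset.mem_image]
    refine ⟨(k : ZMod p), ?_, ?_⟩
    · rw [hS, Finset.mem_filter]
      refine ⟨Finset.mem_univ _, ?_⟩
      have h1 := conj_iter hk r
      rw [her] at h1
      have h2 : c₁ ^ (k ^ r) = c₁ ^ 1 := by rw [← h1]; simp
      rw [pow_eq_pow_iff_modEq, hc₁o] at h2
      have h3 := (ZMod.natCast_eq_natCast_iff _ _ _).2 h2
      push_cast at h3
      exact h3
    · show c₁ ^ ((k : ZMod p)).val = e * c₁ * e⁻¹
      rw [hk, ZMod.val_natCast, ← hc₁o, pow_mod_orderOf]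

theorem card_le_of_fiber {E E₀ : Subgroup G} (f : G → G) (T : Finset G)
    (hT : ∀ e ∈ E, f e ∈ T) (hfib : ∀ a ∈ E, ∀ b ∈ E, f a = f b → a⁻¹ * b ∈ E₀) :
    Nat.card E ≤ Nat.card E₀ * T.card := by
  classical
  haveI := Fintype.ofFinite E
  haveI := Fintype.ofFinite E₀
  have h1 : (Finset.univ : Finset E).card ≤
      Nat.card E₀ * (Finset.univ.image (fun e : E => f e)).card := by
    apply Finset.card_le_mul_card_image
    intro b hb
    obtain ⟨e₀, -, rfl⟩ := Finset.mem_image.1 hb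
    rw [Nat.card_eq_fintype_card, ← Finset.card_univ]
    refine Finset.card_le_card_of_injOn
      (fun e : E => if h : f e = f e₀ then
        (⟨(e₀ : G)⁻¹ * e, hfib e₀ e₀.2 e e.2 h.symm⟩ : E₀) else 1)
      (fun _ _ => Finset.mem_coe.2 (Finset.mem_univ _)) ?_
    intro a ha b hb hab
    have ha' : f a = f e₀ := (Finset.mem_filter.1 (Finset.mem_coe.1 ha)).2
    have hb' : f b = f e₀ := (Finset.mem_filter.1 (Finset.mem_coe.1 hb)).2
    simp only [dif_pos ha', dif_pos hb'] at hab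
    have h2 := congrArg Subtype.val hab
    simp only [mul_right_inj] at h2
    exact Subtype.ext h2
  rw [Finset.card_univ, ← Nat.card_eq_fintype_card] at h1
  refine h1.trans (Nat.mul_le_mul_left _ (Finset.card_le_card ?_))
  intro x hx
  obtain ⟨e, -, rfl⟩ := Finset.mem_image.1 hx
  exact hT e e.2

omit [Finite G] in
theorem conj_mem_centralizer {R : Subgroup G} {d a : G} (hd : d ∈ normalizer (R : Set G))
    (ha : a ∈ centralizer (R : Set G)) : d * a * d⁻¹ ∈ centralizer (R : Set G) := by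
  rw [Subgroup.mem_centralizer_iff] at ha ⊢
  intro x hx
  have hx' : d⁻¹ * x * d ∈ R := by
    have := (Subgroup.mem_normalizer_iff.1 (Subgroup.inv_mem _ hd) x).1 hx
    rwa [inv_inv] at this
  have h1 := ha _ hx'
  calc x * (d * a * d⁻¹) = d * ((d⁻¹ * x * d) * a) * d⁻¹ := by group
    _ = d * (a * (d⁻¹ * x * d)) * d⁻¹ := by rw [h1]
    _ = d * a * d⁻¹ * x := by group

omit [Finite G] hp in
theorem arith {p r e e₀ t m : ℕ} (hp : p.Prime) (hr : r.Prime) (h1 : e ≤ e₀ * t) (h2 : e₀ ≤ t)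
    (h3 : r ≤ e₀) (h4 : t ≤ r) (h5 : t ≤ p - 1) (h6 : e = r ^ m) (h7 : e ≡ 1 [MOD p])
    (h8 : e₀ ≤ e) : p = 3 ∧ r = 2 ∧ e = 4 ∧ e₀ = 2 := by
  have he₀ : e₀ = r := le_antisymm (h2.trans h4) h3
  have ht : t = r := le_antisymm h4 (h3.trans h2)
  have hr2 : 2 ≤ r := hr.two_le
  have hp2 : 2 ≤ p := hp.two_le
  have hrp : r < p := by omega
  have h1' : e ≤ r * r := by rw [he₀, ht] at h1; exact h1
  have h8' : r ≤ e := by rw [he₀] at h8; exact h8
  have hm0 : m ≠ 0 := by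
    rintro rfl
    rw [pow_zero] at h6; omega
  have hm2 : m ≤ 2 := by
    have : r ^ m ≤ r ^ 2 := by rw [← h6, pow_two]; exact h1'
    exact (Nat.pow_le_pow_iff_right hr.one_lt).1 this
  have hm : m = 1 ∨ m = 2 := by omega
  rcases hm with rfl | rfl
  · exfalso
    rw [pow_one] at h6
    have h9 : e % p = 1 % p := h7
    rw [h6, Nat.mod_eq_of_lt hrp, Nat.mod_eq_of_lt hp.one_lt] at h9
    omega
  · rw [h6] at h7
    have h9 : p ∣ r ^ 2 - 1 :=
      (Nat.modEq_iff_dvd' (Nat.one_le_pow _ _ (by omega))).1 h7.symm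
    obtain ⟨r', hr'⟩ : ∃ r', r = r' + 1 := ⟨r - 1, by omega⟩
    have h10 : r ^ 2 - 1 = r' * (r' + 2) := by
      have : r ^ 2 = r' * (r' + 2) + 1 := by rw [hr']; ring
      rw [this, Nat.add_sub_cancel]
    rw [h10] at h9
    rcases (Nat.Prime.dvd_mul hp).1 h9 with h11 | h11
    · exfalso
      have := Nat.le_of_dvd (by omega) h11
      omega
    · have h12 := Nat.le_of_dvd (by omega) h11
      have hpr : p = r + 1 := by omega
      rcases hr.eq_two_or_odd with h13 | h13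
      · refine ⟨by omega, h13, ?_, by omega⟩
        rw [h6, h13]; norm_num
      · exfalso
        have h14 : 2 ∣ p := by omega
        have h15 := (Nat.prime_dvd_prime_iff_eq Nat.prime_two hp).1 h14
        omega

namespace SetupB

variable {P : Sylow p G} {K : Subgroup G} {y : G} {r : ℕ} [hr : Fact r.Prime] {R : Sylow r G}
  {z c : G} (b : SetupB p G P K y r R z c)
include b

theorem z1 : z ≠ 1 := by
  intro h
  have := b.hzo
  rw [h, orderOf_one] at this
  exact hr.out.ne_one this.symm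

theorem hrp : r ≠ p := by
  intro h
  have h1 : (orderOf z).Coprime p := coprime_of_mem b.s.hKp b.hzK
  rw [b.hzo, h] at h1
  exact hp.out.ne_one ((Nat.coprime_self p).1 h1)

theorem hN : centralizer ({z} : Set G) = normalizer ((P : Subgroup G) : Set G) :=
  b.s.cz b.hzK b.hzC b.z1

theorem Rp : ¬ p ∣ Nat.card (R : Subgroup G) := by
  obtain ⟨e, he⟩ := IsPGroup.iff_card.1 R.2
  rw [he]; intro hd
  exact b.hrp ((Nat.prime_dvd_prime_iff_eq hp.out hr.out).1 (hp.out.dvd_of_dvd_pow hd)).symm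

theorem Rcomm {a d : G} (ha : a ∈ (R : Subgroup G)) (hd : d ∈ (R : Subgroup G)) :
    a * d = d * a :=
  b.s.mc.hyp.2 _ b.Rp a ha d hd

theorem mem_N {a : G} (h : a * z = z * a) : a ∈ normalizer ((P : Subgroup G) : Set G) := by
  rw [← b.hN, Subgroup.mem_centralizer_iff]
  intro w hw; rw [Set.mem_singleton_iff] at hw; rw [hw]; exact h.symm

theorem c1 : c ≠ 1 := by
  intro h
  apply b.hcC
  rw [h]; exact Subgroup.one_mem _

theorem c_notN : c ∉ normalizer ((P : Subgroup G) : Set G) := by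
  intro hcNP
  have hcP : c ∈ (P : Subgroup G) := mem_sylow_of_pow P hcNP b.hc
  apply b.hcC
  rw [Subgroup.mem_centralizer_iff]
  intro a ha
  have haN : a ∈ normalizer ((P : Subgroup G) : Set G) := b.mem_N (b.Rcomm ha b.hzR)
  have h1 : c * a * c⁻¹ * a⁻¹ ∈ (R : Subgroup G) :=
    Subgroup.mul_mem _ ((Subgroup.mem_normalizer_iff.1 b.hcN a).1 ha) (Subgroup.inv_mem _ ha)
  have h2 : c * a * c⁻¹ * a⁻¹ ∈ (P : Subgroup G) := by
    have : c * a * c⁻¹ * a⁻¹ = c * (a * c⁻¹ * a⁻¹) := by group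
    rw [this]
    exact Subgroup.mul_mem _ hcP
      ((Subgroup.mem_normalizer_iff.1 haN c⁻¹).1 (Subgroup.inv_mem _ hcP))
  have h3 : c * a * c⁻¹ * a⁻¹ = 1 :=
    eq_one_of_pow_of_coprime (pow_of_isPGroup P.2 h2) (coprime_of_mem b.Rp h1)
  calc a * c = (c * a * c⁻¹ * a⁻¹)⁻¹ * (c * a) := by group
    _ = c * a := by rw [h3]; group

theorem A_p' : ¬ p ∣ Nat.card (centralizer ((R : Subgroup G) : Set G)) := by
  intro hd
  obtain ⟨⟨x, hxA⟩, hxo⟩ := exists_prime_orderOf_dvd_card' p hd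
  have hxo' : orderOf x = p := by simpa using hxo
  have hx1 : x ≠ 1 := by
    rintro rfl; rw [orderOf_one] at hxo'; exact hp.out.ne_one hxo'.symm
  have hxp : ∃ j : ℕ, x ^ (p ^ j) = 1 :=
    ⟨1, by rw [pow_one, ← hxo']; exact pow_orderOf_eq_one x⟩
  have hxz : x * z = z * x := (Subgroup.mem_centralizer_iff.1 hxA z b.hzR).symm
  have hxP : x ∈ (P : Subgroup G) := mem_sylow_of_pow P (b.mem_N hxz) hxp
  have hz₁R : c * z * c⁻¹ ∈ (R : Subgroup G) :=
    (Subgroup.mem_normalizer_iff.1 b.hcN z).1 b.hzR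
  have hxz₁ : (c * z * c⁻¹) * x = x * (c * z * c⁻¹) :=
    Subgroup.mem_centralizer_iff.1 hxA _ hz₁R
  have h1 : (c⁻¹ * x * c) * z = z * (c⁻¹ * x * c) := by
    calc (c⁻¹ * x * c) * z = c⁻¹ * (x * (c * z * c⁻¹)) * c := by group
      _ = c⁻¹ * ((c * z * c⁻¹) * x) * c := by rw [hxz₁]
      _ = z * (c⁻¹ * x * c) := by group
  have h2 : c⁻¹ * x * c ∈ (P : Subgroup G) := by
    apply mem_sylow_of_pow P (b.mem_N h1)
    have := pow_conj' (g := c⁻¹) hxp
    rwa [inv_inv] at this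
  have h3 : c⁻¹ ∈ normalizer ((P : Subgroup G) : Set G) := by
    apply b.s.ti hxP hx1
    rw [inv_inv]; exact h2
  exact b.c_notN (by have := Subgroup.inv_mem _ h3; rwa [inv_inv] at this)

theorem Acomm {a d : G} (ha : a ∈ centralizer ((R : Subgroup G) : Set G))
    (hd : d ∈ centralizer ((R : Subgroup G) : Set G)) : a * d = d * a :=
  b.s.mc.hyp.2 _ b.A_p' a ha d hd

theorem RA : (R : Subgroup G) ≤ centralizer ((R : Subgroup G) : Set G) := by
  intro a ha
  rw [Subgroup.mem_centralizer_iff]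
  intro x hx
  exact b.Rcomm hx ha

theorem A_N {a : G} (ha : a ∈ centralizer ((R : Subgroup G) : Set G)) :
    a ∈ normalizer ((P : Subgroup G) : Set G) :=
  b.mem_N (Subgroup.mem_centralizer_iff.1 ha z b.hzR).symm

theorem fpf {d a : G} (hd : d ∈ Subgroup.zpowers c) (hd1 : d ≠ 1)
    (ha : a ∈ centralizer ((R : Subgroup G) : Set G)) (hda : d * a = a * d) : a = 1 := by
  by_contra ha1
  have hdp : ∃ j : ℕ, d ^ (p ^ j) = 1 := pow_of_isPGroup (isPGroup_zpowers b.hc) hd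
  have hdN : d ∈ normalizer ((R : Subgroup G) : Set G) := by
    have : Subgroup.zpowers c ≤ normalizer ((R : Subgroup G) : Set G) := by
      rw [Subgroup.zpowers_le]; exact b.hcN
    exact this hd
  obtain ⟨g, hg⟩ := exists_conj_mem P hdp
  have hg1 : g⁻¹ * d * g ≠ 1 := conj_ne_one₄ hd1
  have hcomm : (g⁻¹ * a * g) * (g⁻¹ * d * g) = (g⁻¹ * d * g) * (g⁻¹ * a * g) := by
    have e1 : (g⁻¹ * a * g) * (g⁻¹ * d * g) = g⁻¹ * (a * d) * g := by group
    have e2 : (g⁻¹ * d * g) * (g⁻¹ * a * g) = g⁻¹ * (d * a) * g := by group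
    rw [e1, e2, hda]
  have haC := b.s.cent hg hg1 hcomm
  have hao : (orderOf (g⁻¹ * a * g)).Coprime p := by
    have := orderOf_conj' g⁻¹ a
    rw [inv_inv] at this
    rw [this]; exact coprime_of_mem b.A_p' ha
  have haK := b.s.mem_K haC hao
  have hCa := b.s.cz haK haC (conj_ne_one₄ ha1)
  have hza : z * a = a * z := Subgroup.mem_centralizer_iff.1 ha z b.hzR
  have hz'N : g⁻¹ * z * g ∈ normalizer ((P : Subgroup G) : Set G) := by
    rw [← hCa, Subgroup.mem_centralizer_iff]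
    intro w hw; rw [Set.mem_singleton_iff] at hw; rw [hw]
    have e1 : (g⁻¹ * a * g) * (g⁻¹ * z * g) = g⁻¹ * (a * z) * g := by group
    have e2 : (g⁻¹ * z * g) * (g⁻¹ * a * g) = g⁻¹ * (z * a) * g := by group
    rw [e1, e2, hza]
  have hwR : d * z * d⁻¹ * z⁻¹ ∈ (R : Subgroup G) :=
    Subgroup.mul_mem _ ((Subgroup.mem_normalizer_iff.1 hdN z).1 b.hzR)
      (Subgroup.inv_mem _ b.hzR)
  have hwP : g⁻¹ * (d * z * d⁻¹ * z⁻¹) * g ∈ (P : Subgroup G) := by
    have : g⁻¹ * (d * z * d⁻¹ * z⁻¹) * g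
        = (g⁻¹ * d * g) * ((g⁻¹ * z * g) * (g⁻¹ * d * g)⁻¹ * (g⁻¹ * z * g)⁻¹) := by group
    rw [this]
    exact Subgroup.mul_mem _ hg
      ((Subgroup.mem_normalizer_iff.1 hz'N _).1 (Subgroup.inv_mem _ hg))
  have hw1 : g⁻¹ * (d * z * d⁻¹ * z⁻¹) * g = 1 := by
    apply eq_one_of_pow_of_coprime (p := p) (pow_of_isPGroup P.2 hwP)
    have := orderOf_conj' g⁻¹ (d * z * d⁻¹ * z⁻¹)
    rw [inv_inv] at this
    rw [this]; exact coprime_of_mem b.Rp hwR
  have hw1' : d * z * d⁻¹ * z⁻¹ = 1 := by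
    by_contra h
    exact conj_ne_one₄ h hw1
  have hdz : d * z = z * d := by
    calc d * z = (d * z * d⁻¹ * z⁻¹) * (z * d) := by group
      _ = z * d := by rw [hw1', one_mul]
  have hdP : d ∈ (P : Subgroup G) := mem_sylow_of_pow P (b.mem_N hdz) hdp
  have hcd : c * d = d * c := by
    obtain ⟨i, rfl⟩ := Subgroup.mem_zpowers_iff.1 hd
    exact ((Commute.refl c).zpow_right i).eq
  have hcC := b.s.cent hdP hd1 hcd
  exact b.c_notN (centralizer_le_normalizer _ hcC)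

/-- `Ω₁(C(R))` -/
def E : Subgroup G :=
  omegaSub (centralizer ((R : Subgroup G) : Set G)) (fun _ ha _ hd => b.Acomm ha hd) r

theorem zE : z ∈ b.E :=
  ⟨b.RA b.hzR, by rw [← b.hzo]; exact pow_orderOf_eq_one z⟩

theorem cE {a : G} (ha : a ∈ b.E) : c * a * c⁻¹ ∈ b.E :=
  ⟨conj_mem_centralizer b.hcN ha.1, by rw [conj_pow, ha.2]; group⟩

theorem cE' {a : G} (ha : a ∈ b.E) : c⁻¹ * a * c ∈ b.E := by
  have h := conj_mem_centralizer (Subgroup.inv_mem _ b.hcN) ha.1
  rw [inv_inv] at h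
  exact ⟨h, conj_pow₄ ha.2⟩

theorem E_r : IsPGroup r b.E := by
  rintro ⟨a, ha⟩
  refine ⟨1, Subtype.ext ?_⟩
  show a ^ (r ^ 1) = 1
  rw [pow_one]; exact ha.2

theorem cNE : c ∈ normalizer ((b.E : Subgroup G) : Set G) :=
  Cfsg.Agent.Lib.Helper17.Syl.mem_normalizer_of_conj_mem (fun _ hx => b.cE hx)

theorem E_mod : Nat.card b.E ≡ 1 [MOD p] :=
  card_modEq_one_of_fpf b.hc b.cNE
    (fun a ha hca => b.fpf (Subgroup.mem_zpowers c) b.c1 ha.1 hca)

theorem conj_notC {e : G} (he : e ∈ centralizer ((R : Subgroup G) : Set G))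
    (heC : e ∈ centralizer ((P : Subgroup G) : Set G)) (he1 : e ≠ 1) :
    c * e * c⁻¹ ∉ centralizer ((P : Subgroup G) : Set G) := by
  intro h
  obtain ⟨c₁, hc₁P, hc₁o⟩ := b.s.exists_c₁
  have hc₁1 : c₁ ≠ 1 := by
    rintro rfl; rw [orderOf_one] at hc₁o; exact hp.out.ne_one hc₁o.symm
  have heo : (orderOf e).Coprime p := coprime_of_mem b.A_p' he
  have heK := b.s.mem_K heC heo
  have hCe := b.s.cz heK heC he1
  have h1 : c₁ * (c * e * c⁻¹) = (c * e * c⁻¹) * c₁ :=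
    Subgroup.mem_centralizer_iff.1 h c₁ hc₁P
  have h2 : c⁻¹ * c₁ * c ∈ normalizer ((P : Subgroup G) : Set G) := by
    rw [← hCe, Subgroup.mem_centralizer_iff]
    intro w hw; rw [Set.mem_singleton_iff] at hw; rw [hw]
    calc e * (c⁻¹ * c₁ * c) = c⁻¹ * ((c * e * c⁻¹) * c₁) * c := by group
      _ = c⁻¹ * (c₁ * (c * e * c⁻¹)) * c := by rw [h1]
      _ = (c⁻¹ * c₁ * c) * e := by group
  have hc₁p : ∃ j : ℕ, c₁ ^ (p ^ j) = 1 := pow_of_isPGroup P.2 hc₁P
  have h3 : c⁻¹ * c₁ * c ∈ (P : Subgroup G) := by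
    apply mem_sylow_of_pow P h2
    have := pow_conj' (g := c⁻¹) hc₁p
    rwa [inv_inv] at this
  have h4 : c⁻¹ ∈ normalizer ((P : Subgroup G) : Set G) := by
    apply b.s.ti hc₁P hc₁1
    rw [inv_inv]; exact h3
  exact b.c_notN (by have := Subgroup.inv_mem _ h4; rwa [inv_inv] at this)

theorem numerics : p = 3 ∧ r = 2 ∧ Nat.card b.E = 4 ∧
    Nat.card (b.E ⊓ centralizer ((P : Subgroup G) : Set G) : Subgroup G) = 2 := by
  have hp1 : p.Prime := hp.out
  have hr1 : r.Prime := hr.out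
  obtain ⟨c₁, hc₁P, hc₁o⟩ := b.s.exists_c₁
  have hc₁1 : c₁ ≠ 1 := by
    rintro rfl; rw [orderOf_one] at hc₁o; exact hp1.ne_one hc₁o.symm
  obtain ⟨T, hTr, hTp, hT⟩ := exists_T hc₁o r hr1.pos
  have hET : ∀ e ∈ b.E, e * c₁ * e⁻¹ ∈ T := by
    intro e he
    obtain ⟨g, k, hg, hgen, hk⟩ := cyc_pow_map b.s.cyc (b.A_N he.1)
    exact hT e k (hk c₁ hc₁P) he.2
  have hb1 : Nat.card b.E ≤
      Nat.card (b.E ⊓ centralizer ((P : Subgroup G) : Set G) : Subgroup G) * T.card := by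
    apply card_le_of_fiber (fun e => e * c₁ * e⁻¹) T hET
    intro a ha d hd hfd
    refine Subgroup.mem_inf.2 ⟨Subgroup.mul_mem _ (Subgroup.inv_mem _ ha) hd, ?_⟩
    apply b.s.cent hc₁P hc₁1
    have hfd' : a * c₁ * a⁻¹ = d * c₁ * d⁻¹ := hfd
    calc a⁻¹ * d * c₁ = a⁻¹ * (d * c₁ * d⁻¹) * d := by group
      _ = a⁻¹ * (a * c₁ * a⁻¹) * d := by rw [hfd']
      _ = c₁ * (a⁻¹ * d) := by group
  have hb2 : Nat.card (b.E ⊓ centralizer ((P : Subgroup G) : Set G) : Subgroup G) ≤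
      Nat.card (⊥ : Subgroup G) * T.card := by
    apply card_le_of_fiber (fun e => (c * e * c⁻¹) * c₁ * (c * e * c⁻¹)⁻¹) T
    · intro e he
      exact hET _ (b.cE (Subgroup.mem_inf.1 he).1)
    · intro a ha d hd hfd
      rw [Subgroup.mem_bot]
      by_contra hne
      have had : a⁻¹ * d ∈ (b.E ⊓ centralizer ((P : Subgroup G) : Set G) : Subgroup G) :=
        Subgroup.mul_mem _ (Subgroup.inv_mem _ ha) hd
      have h1 := Subgroup.mem_inf.1 had
      apply b.conj_notC h1.1.1 h1.2 hne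
      apply b.s.cent hc₁P hc₁1
      have hfd' : (c * a * c⁻¹) * c₁ * (c * a * c⁻¹)⁻¹ = (c * d * c⁻¹) * c₁ * (c * d * c⁻¹)⁻¹ :=
        hfd
      calc c * (a⁻¹ * d) * c⁻¹ * c₁
          = (c * a * c⁻¹)⁻¹ * ((c * d * c⁻¹) * c₁ * (c * d * c⁻¹)⁻¹) * (c * d * c⁻¹) := by group
        _ = (c * a * c⁻¹)⁻¹ * ((c * a * c⁻¹) * c₁ * (c * a * c⁻¹)⁻¹) * (c * d * c⁻¹) := by
            rw [hfd']
        _ = c₁ * (c * (a⁻¹ * d) * c⁻¹) := by group
  rw [Subgroup.card_bot, one_mul] at hb2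
  have hzE₀ : Subgroup.zpowers z ≤
      (b.E ⊓ centralizer ((P : Subgroup G) : Set G) : Subgroup G) := by
    rw [Subgroup.zpowers_le]; exact Subgroup.mem_inf.2 ⟨b.zE, b.hzC⟩
  have hb3 : r ≤ Nat.card (b.E ⊓ centralizer ((P : Subgroup G) : Set G) : Subgroup G) := by
    have := Subgroup.card_le_of_le hzE₀
    rwa [Nat.card_zpowers, b.hzo] at this
  obtain ⟨m, hm⟩ := IsPGroup.iff_card.1 b.E_r
  have hb4 : Nat.card (b.E ⊓ centralizer ((P : Subgroup G) : Set G) : Subgroup G) ≤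
      Nat.card b.E := Subgroup.card_le_of_le inf_le_left
  exact arith hp1 hr1 hb1 hb2 hb3 hTr hTp hm b.E_mod hb4

theorem E_elts (hE4 : Nat.card b.E = 4) (hp3 : p = 3) {e : G} (he : e ∈ b.E) :
    e = 1 ∨ e = z ∨ e = c * z * c⁻¹ ∨ e = c⁻¹ * z * c := by
  classical
  have hz1 := b.z1
  have hzA : z ∈ centralizer ((R : Subgroup G) : Set G) := b.RA b.hzR
  have n1 : c * z * c⁻¹ ≠ 1 := by
    intro h; apply hz1
    have : z = c⁻¹ * (c * z * c⁻¹) * c := by group
    rw [this, h]; group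
  have n2 : c⁻¹ * z * c ≠ 1 := conj_ne_one₄ hz1
  have n3 : c * z * c⁻¹ ≠ z := by
    intro h
    apply hz1
    apply b.fpf (Subgroup.mem_zpowers c) b.c1 hzA
    calc c * z = (c * z * c⁻¹) * c := by group
      _ = z * c := by rw [h]
  have n4 : c⁻¹ * z * c ≠ z := by
    intro h
    apply hz1
    apply b.fpf (Subgroup.mem_zpowers c) b.c1 hzA
    calc c * z = c * (c⁻¹ * z * c) := by rw [h]
      _ = z * c := by group
  have n5 : c * z * c⁻¹ ≠ c⁻¹ * z * c := by
    intro h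
    apply hz1
    have hc2 : c ^ 2 ≠ 1 := by
      intro h2
      apply b.c1
      apply eq_one_of_pow_of_coprime (p := p) b.hc
      rw [hp3]
      exact Nat.Coprime.coprime_dvd_left (orderOf_dvd_of_pow_eq_one h2) (by norm_num)
    apply b.fpf (Subgroup.pow_mem _ (Subgroup.mem_zpowers c) 2) hc2 hzA
    calc c ^ 2 * z = c * (c * z * c⁻¹) * c := by rw [pow_two]; group
      _ = c * (c⁻¹ * z * c) * c := by rw [h]
      _ = z * c ^ 2 := by rw [pow_two]; group
  have hm1 : (1 : G) ∉ ({z, c * z * c⁻¹, c⁻¹ * z * c} : Finset G) := by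
    simp only [Finset.mem_insert, Finset.mem_singleton, not_or]
    exact ⟨Ne.symm hz1, Ne.symm n1, Ne.symm n2⟩
  have hm2 : z ∉ ({c * z * c⁻¹, c⁻¹ * z * c} : Finset G) := by
    simp only [Finset.mem_insert, Finset.mem_singleton, not_or]
    exact ⟨Ne.symm n3, Ne.symm n4⟩
  have hm3 : c * z * c⁻¹ ∉ ({c⁻¹ * z * c} : Finset G) := by
    simp only [Finset.mem_singleton]; exact n5
  have hScard : ({1, z, c * z * c⁻¹, c⁻¹ * z * c} : Finset G).card = 4 := by
    rw [Finset.card_insert_of_notMem hm1, Finset.card_insert_of_notMem hm2,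
      Finset.card_insert_of_notMem hm3, Finset.card_singleton]
  have hsub : ((({1, z, c * z * c⁻¹, c⁻¹ * z * c} : Finset G)) : Set G) ⊆ (b.E : Set G) := by
    intro x hx
    simp only [Finset.coe_insert, Finset.coe_singleton, Set.mem_insert_iff,
      Set.mem_singleton_iff] at hx
    rcases hx with rfl | rfl | rfl | rfl
    · exact Subgroup.one_mem _
    · exact b.zE
    · exact b.cE b.zE
    · exact b.cE' b.zE
  have hEn : (b.E : Set G).ncard = 4 := (Nat.card_coe_set_eq _).symm.trans hE4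
  have hSE : ((({1, z, c * z * c⁻¹, c⁻¹ * z * c} : Finset G)) : Set G) = (b.E : Set G) :=
    Set.eq_of_subset_of_ncard_le hsub (by rw [Set.ncard_coe_finset, hScard, hEn])
      (Set.toFinite _)
  have h5 : e ∈ ((({1, z, c * z * c⁻¹, c⁻¹ * z * c} : Finset G)) : Set G) := by
    rw [hSE]; exact he
  simpa using h5

theorem toC : SetupC p G P K y z := by
  obtain ⟨hp3, hr2, hE4, hE₀2⟩ := b.numerics
  have hz2 : z ^ 2 = 1 := by rw [← hr2, ← b.hzo]; exact pow_orderOf_eq_one z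
  have hzo2 : orderOf z = 2 := by rw [b.hzo, hr2]
  have hzE₀ : Subgroup.zpowers z ≤
      (b.E ⊓ centralizer ((P : Subgroup G) : Set G) : Subgroup G) := by
    rw [Subgroup.zpowers_le]; exact Subgroup.mem_inf.2 ⟨b.zE, b.hzC⟩
  have hE₀ : Subgroup.zpowers z =
      (b.E ⊓ centralizer ((P : Subgroup G) : Set G) : Subgroup G) := by
    apply Subgroup.eq_of_le_of_card_ge hzE₀
    rw [hE₀2, Nat.card_zpowers, hzo2]
  have F2 : ∀ u ∈ centralizer ((P : Subgroup G) : Set G), u ^ 2 = 1 → u = 1 ∨ u = z := by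
    intro u huC hu2
    have huo : (orderOf u).Coprime p := by
      rw [hp3]
      exact Nat.Coprime.coprime_dvd_left (orderOf_dvd_of_pow_eq_one hu2) (by norm_num)
    have huK := b.s.mem_K huC huo
    have huA : u ∈ centralizer ((R : Subgroup G) : Set G) := by
      rw [Subgroup.mem_centralizer_iff]
      intro x hx
      obtain ⟨v, hv, k, hk, rfl⟩ := b.s.hdec x (b.A_N (b.RA hx))
      have h1 := Subgroup.mem_centralizer_iff.1 huC v hv
      have h2 := b.s.Kcomm hk huK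
      calc v * k * u = v * (k * u) := mul_assoc _ _ _
        _ = v * (u * k) := by rw [h2]
        _ = (v * u) * k := (mul_assoc _ _ _).symm
        _ = (u * v) * k := by rw [h1]
        _ = u * (v * k) := mul_assoc _ _ _
    have huE₀ : u ∈ (b.E ⊓ centralizer ((P : Subgroup G) : Set G) : Subgroup G) :=
      Subgroup.mem_inf.2 ⟨⟨huA, by rw [hr2]; exact hu2⟩, huC⟩
    rw [← hE₀] at huE₀
    obtain ⟨k, rfl⟩ := Subgroup.mem_zpowers_iff.1 huE₀
    have hk : z ^ k = z ^ (k % 2) := by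
      have := zpow_mod_orderOf z k
      rw [hzo2] at this
      exact_mod_cast this.symm
    rw [hk]
    rcases Int.emod_two_eq_zero_or_one k with h | h
    · left; rw [h, zpow_zero]
    · right; rw [h, zpow_one]
  have F4 : ∀ u : G, u ^ 2 = 1 → u ≠ 1 → ∃ g : G, u = g * z * g⁻¹ := by
    intro u hu2 hu1
    have hur : ∃ j : ℕ, u ^ (r ^ j) = 1 := ⟨1, by rw [pow_one, hr2]; exact hu2⟩
    obtain ⟨g, hg⟩ := exists_conj_mem R hur
    have huE : g⁻¹ * u * g ∈ b.E := ⟨b.RA hg, by rw [hr2]; exact conj_pow₄ hu2⟩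
    have hu' : u = g * (g⁻¹ * u * g) * g⁻¹ := by group
    rcases b.E_elts hE4 hp3 huE with h | h | h | h
    · exact absurd h (conj_ne_one₄ hu1)
    · exact ⟨g, by rw [hu', h]⟩
    · exact ⟨g * c, by rw [hu', h]; group⟩
    · exact ⟨g * c⁻¹, by rw [hu', h]; group⟩
  exact ⟨b.s, hp3, b.hzK, b.hzC, hz2, b.z1, F2, F4⟩

end SetupB

theorem Setup.caseB {P : Sylow p G} {K : Subgroup G} {y : G} (s : Setup p G P K y)
    (hB : ¬ ∀ a ∈ K, a ∈ centralizer ((P : Subgroup G) : Set G) → a = 1) :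
    ∃ z : G, SetupC p G P K y z := by
  push Not at hB
  obtain ⟨z₀, hz₀K, hz₀C, hz₀1⟩ := hB
  have ho : orderOf z₀ ≠ 1 := by rwa [Ne, orderOf_eq_one_iff]
  obtain ⟨r, hr, hrd⟩ := Nat.exists_prime_and_dvd ho
  haveI : Fact r.Prime := ⟨hr⟩
  have hzo : orderOf (z₀ ^ (orderOf z₀ / r)) = r :=
    orderOf_pow_orderOf_div (orderOf_pos z₀).ne' hrd
  obtain ⟨z, hz⟩ : ∃ z, z = z₀ ^ (orderOf z₀ / r) := ⟨_, rfl⟩
  rw [← hz] at hzo
  have hzK : z ∈ K := by rw [hz]; exact Subgroup.pow_mem _ hz₀K _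
  have hzC : z ∈ centralizer ((P : Subgroup G) : Set G) := by
    rw [hz]; exact Subgroup.pow_mem _ hz₀C _
  have hzr : ∃ j : ℕ, z ^ (r ^ j) = 1 :=
    ⟨1, by rw [pow_one, ← hzo]; exact pow_orderOf_eq_one z⟩
  obtain ⟨R, hR⟩ := (isPGroup_zpowers (p := r) hzr).exists_le_sylow
  have hzR : z ∈ (R : Subgroup G) := hR (Subgroup.mem_zpowers z)
  have hz1 : z ≠ 1 := by
    intro h; rw [h, orderOf_one] at hzo; exact hr.ne_one hzo.symm
  have hrp : r ≠ p := by
    intro h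
    have h1 : (orderOf z).Coprime p := coprime_of_mem s.hKp hzK
    rw [hzo, h] at h1
    exact hp.out.ne_one ((Nat.coprime_self p).1 h1)
  have hRb : (R : Subgroup G) ≠ ⊥ := by
    intro h; rw [h, Subgroup.mem_bot] at hzR; exact hz1 hzR
  obtain ⟨c, hc, hcN, hcC⟩ := s.exists_pelt hrp R hRb
  exact ⟨z, (SetupB.mk s hzK hzC hzo hzR hc hcN hcC : SetupB p G P K y r R z c).toC⟩

end

end Cfsg.Agent.Lib.Helper17.CycSyl
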