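import Mathlib
import Cfsg.Agent.Lib.Helper17.CycSyl3
import Cfsg.Agent.Lib.Helper17.Friend

/-!
Minimal counterexample analysis, part 4: the final configuration (`p = 3`, one class of
involutions) is impossible, by the friendship theorem applied to the commuting graph on
involutions.
-/

set_option autoImplicit false

namespace Cfsg.Agent.Lib.Helper17.CycSyl

open Subgroup

universe u

/-- the commuting graph on involutions -/
def invGraph (G : Type u) [Group G] : SimpleGraph {s : G // s ^ 2 = 1 ∧ s ≠ 1} where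
  Adj a b := a ≠ b ∧ (a : G) * b = b * a
  symm := ⟨fun _ _ h => ⟨h.1.symm, h.2.symm⟩⟩
  loopless := ⟨fun _ h => h.1 rfl⟩

section

variable {G : Type u} [Group G] [Finite G] {p : ℕ} [hp : Fact p.Prime]

omit [Finite G] in
theorem inv_of_sq {a : G} (h : a ^ 2 = 1) : a⁻¹ = a :=
  inv_eq_of_mul_eq_one_right (by rw [← pow_two]; exact h)

omit [Finite G] in
theorem conj_sq {g w : G} (h : w ^ 2 = 1) : (g⁻¹ * w * g) ^ 2 = 1 := by
  have := conj_pow (a := g⁻¹) (b := w) (i := 2)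
  rw [inv_inv] at this
  rw [this, h]; group

omit [Finite G] in
theorem conj_ne_one {g w : G} (h : w ≠ 1) : g⁻¹ * w * g ≠ 1 := by
  intro h'
  apply h
  have : w = g * (g⁻¹ * w * g) * g⁻¹ := by group
  rw [this, h']; group

namespace SetupC

variable {P : Sylow p G} {K : Subgroup G} {y z : G} (t : SetupC p G P K y z)
include t

theorem hN : centralizer ({z} : Set G) = normalizer ((P : Subgroup G) : Set G) :=
  t.s.cz t.hzK t.hzC t.hz1

omit [Finite G] hp in
theorem co2 {u : G} (hu2 : u ^ 2 = 1) : (orderOf u).Coprime p := by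
  have h1 : orderOf u ∣ 2 := orderOf_dvd_of_pow_eq_one hu2
  rw [t.hp3]
  exact Nat.Coprime.coprime_dvd_left h1 (by norm_num)

theorem exists_c₁ : ∃ c₁ ∈ (P : Subgroup G), orderOf c₁ = 3 := by
  obtain ⟨c₁, h1, h2⟩ := t.s.exists_c₁
  exact ⟨c₁, h1, by rw [h2, t.hp3]⟩

theorem inv_c₁ {c₁ : G} (hc₁P : c₁ ∈ (P : Subgroup G)) (hc₁o : orderOf c₁ = 3) {u : G}
    (huN : u ∈ normalizer ((P : Subgroup G) : Set G))
    (huC : u ∉ centralizer ((P : Subgroup G) : Set G)) (hu2 : u ^ 2 = 1) :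
    u * c₁ * u⁻¹ = c₁ ^ 2 := by
  have hc₁1 : c₁ ≠ 1 := by rintro rfl; rw [orderOf_one] at hc₁o; omega
  obtain ⟨g, k, hg, hgen, hk⟩ := cyc_pow_map t.s.cyc huN
  have h1 := hk c₁ hc₁P
  rw [← pow_mod_orderOf, hc₁o] at h1
  obtain h | h | h : k % 3 = 0 ∨ k % 3 = 1 ∨ k % 3 = 2 := by omega
  · exfalso; apply hc₁1
    rw [h, pow_zero] at h1
    have : c₁ = u⁻¹ * (u * c₁ * u⁻¹) * u := by group
    rw [this, h1]; group
  · exfalso; apply huC
    rw [h, pow_one] at h1
    have h2 : u * c₁ = c₁ * u := by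
      calc u * c₁ = (u * c₁ * u⁻¹) * u := by group
        _ = c₁ * u := by rw [h1]
    have h3 := cyc_fix t.s.cyc P.2 huN (t.co2 hu2) hc₁P hc₁1 h2
    rw [Subgroup.mem_centralizer_iff]; intro x hx; exact (h3 x hx).symm
  · rw [h] at h1; exact h1

theorem F3 {c₁ : G} (hc₁P : c₁ ∈ (P : Subgroup G)) (hc₁o : orderOf c₁ = 3) {a u : G}
    (haN : a ∈ normalizer ((P : Subgroup G) : Set G))
    (haC : a ∉ centralizer ((P : Subgroup G) : Set G)) (ha2 : a ^ 2 = 1)
    (huN : u ∈ normalizer ((P : Subgroup G) : Set G))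
    (huC : u ∉ centralizer ((P : Subgroup G) : Set G)) (hu2 : u ^ 2 = 1)
    (hau : a * u = u * a) : u = a ∨ u = a * z := by
  have h1 := t.inv_c₁ hc₁P hc₁o haN haC ha2
  have h2 := t.inv_c₁ hc₁P hc₁o huN huC hu2
  have hc₁1 : c₁ ≠ 1 := by rintro rfl; rw [orderOf_one] at hc₁o; omega
  have hc3 : c₁ ^ 3 = 1 := by rw [← hc₁o]; exact pow_orderOf_eq_one c₁
  have h3 : (a * u) * c₁ = c₁ * (a * u) := by
    have : (a * u) * c₁ * (a * u)⁻¹ = c₁ := by
      calc (a * u) * c₁ * (a * u)⁻¹ = a * (u * c₁ * u⁻¹) * a⁻¹ := by group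
        _ = a * c₁ ^ 2 * a⁻¹ := by rw [h2]
        _ = (a * c₁ * a⁻¹) ^ 2 := by rw [conj_pow]
        _ = (c₁ ^ 2) ^ 2 := by rw [h1]
        _ = c₁ ^ 3 * c₁ := by rw [← pow_mul, ← pow_succ]
        _ = c₁ := by rw [hc3, one_mul]
    calc (a * u) * c₁ = ((a * u) * c₁ * (a * u)⁻¹) * (a * u) := by group
      _ = c₁ * (a * u) := by rw [this]
  have h4 := t.s.cent hc₁P hc₁1 h3
  have h5 : (a * u) ^ 2 = 1 := by
    rw [(show Commute a u from hau).mul_pow, ha2, hu2, one_mul]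
  have ha' : a⁻¹ = a := inv_of_sq ha2
  rcases t.F2 _ h4 h5 with h6 | h6
  · left
    calc u = a⁻¹ * (a * u) := by group
      _ = a := by rw [h6, mul_one, ha']
  · right
    calc u = a⁻¹ * (a * u) := by group
      _ = a * z := by rw [h6, ha']

theorem klein {s₁ s₂ u : G} (h1 : s₁ ^ 2 = 1) (h11 : s₁ ≠ 1) (h2 : s₂ ^ 2 = 1) (h21 : s₂ ≠ 1)
    (hne : s₁ ≠ s₂) (h12 : s₁ * s₂ = s₂ * s₁) (hu2 : u ^ 2 = 1) (hu1 : u ≠ 1)
    (hu1' : u * s₁ = s₁ * u) (hu2' : u * s₂ = s₂ * u) : u = s₁ ∨ u = s₂ ∨ u = s₁ * s₂ := by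
  obtain ⟨c₁, hc₁P, hc₁o⟩ := t.exists_c₁
  obtain ⟨g, rfl⟩ := t.F4 s₁ h1 h11
  have key : ∀ w : G, w ^ 2 = 1 → w ≠ 1 → w * (g * z * g⁻¹) = (g * z * g⁻¹) * w →
      w ≠ g * z * g⁻¹ →
      g⁻¹ * w * g ∈ normalizer ((P : Subgroup G) : Set G) ∧
      g⁻¹ * w * g ∉ centralizer ((P : Subgroup G) : Set G) ∧ (g⁻¹ * w * g) ^ 2 = 1 := by
    intro w hw2 hw1 hwz hne
    have hsq : (g⁻¹ * w * g) ^ 2 = 1 := conj_sq hw2
    refine ⟨?_, ?_, hsq⟩
    · rw [← t.hN, Subgroup.mem_centralizer_iff]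
      intro x hx; rw [Set.mem_singleton_iff] at hx; rw [hx]
      have : z * (g⁻¹ * w * g) = g⁻¹ * ((g * z * g⁻¹) * w) * g := by group
      rw [this, ← hwz]; group
    · intro hC
      rcases t.F2 _ hC hsq with h | h
      · exact conj_ne_one hw1 h
      · apply hne
        have : w = g * (g⁻¹ * w * g) * g⁻¹ := by group
        rw [this, h]
  by_cases hus : u = g * z * g⁻¹
  · left; exact hus
  · right
    obtain ⟨hN2, hC2, hsq2⟩ := key s₂ h2 h21 h12.symm (Ne.symm hne)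
    obtain ⟨hNu, hCu, hsqu⟩ := key u hu2 hu1 hu1' hus
    have hcomm : (g⁻¹ * s₂ * g) * (g⁻¹ * u * g) = (g⁻¹ * u * g) * (g⁻¹ * s₂ * g) := by
      have e1 : (g⁻¹ * s₂ * g) * (g⁻¹ * u * g) = g⁻¹ * (s₂ * u) * g := by group
      have e2 : (g⁻¹ * u * g) * (g⁻¹ * s₂ * g) = g⁻¹ * (u * s₂) * g := by group
      rw [e1, e2, hu2']
    have hu' : u = g * (g⁻¹ * u * g) * g⁻¹ := by group
    rcases t.F3 hc₁P hc₁o hN2 hC2 hsq2 hNu hCu hsqu hcomm with h | h
    · left
      rw [hu', h]; group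
    · right
      rw [hu', h, h12]; group

theorem F6 {u x : G} (hx : x ∈ (P : Subgroup G)) (hx1 : x ≠ 1) (hu2 : u ^ 2 = 1) (hu1 : u ≠ 1)
    (hux : u * x = x * u) : u = z := by
  rcases t.F2 u (t.s.cent hx hx1 hux) hu2 with h | h
  · exact absurd h hu1
  · exact h

theorem friendship [Fintype {s : G // s ^ 2 = 1 ∧ s ≠ 1}] :
    Friend.Friendship (invGraph G) := by
  classical
  intro v w hvw
  rw [Fintype.card_eq_one_iff]
  obtain ⟨v, hv2, hv1⟩ := v
  obtain ⟨w, hw2, hw1⟩ := w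
  have hvw' : v ≠ w := fun h => hvw (Subtype.ext h)
  have hvi : v⁻¹ = v := inv_of_sq hv2
  have hwi : w⁻¹ = w := inv_of_sq hw2
  by_cases hc : v * w = w * v
  · have hvw2 : (v * w) ^ 2 = 1 := by
      rw [(show Commute v w from hc).mul_pow, hv2, hw2, one_mul]
    have hvw1 : v * w ≠ 1 := by
      intro h; apply hvw'
      rw [← hwi]; exact eq_inv_of_mul_eq_one_left h
    have hn1 : v ≠ v * w := by
      intro h; apply hw1
      have : w = v⁻¹ * (v * w) := by group
      rw [this, ← h]; group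
    have hn2 : w ≠ v * w := by
      intro h; apply hv1
      have : v = (v * w) * w⁻¹ := by group
      rw [this, ← h]; group
    refine ⟨⟨⟨v * w, hvw2, hvw1⟩, ?_⟩, ?_⟩
    · rw [SimpleGraph.mem_commonNeighbors]
      refine ⟨And.intro (fun h => hn1 (congrArg Subtype.val h)) ?_,
        And.intro (fun h => hn2 (congrArg Subtype.val h)) ?_⟩
      · show v * (v * w) = (v * w) * v
        rw [mul_assoc, ← hc]
      · show w * (v * w) = (v * w) * w
        rw [← mul_assoc, ← hc]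
    · rintro ⟨⟨u, hu2, hu1⟩, hu⟩
      rw [SimpleGraph.mem_commonNeighbors] at hu
      obtain ⟨⟨hne1, hc1⟩, ⟨hne2, hc2⟩⟩ := hu
      have hc1' : v * u = u * v := hc1
      have hc2' : w * u = u * w := hc2
      apply Subtype.ext; apply Subtype.ext
      show u = v * w
      rcases t.klein hv2 hv1 hw2 hw1 hvw' hc hu2 hu1 hc1'.symm hc2'.symm with h | h | h
      · exact absurd (Subtype.ext h.symm) hne1
      · exact absurd (Subtype.ext h.symm) hne2
      · exact h
  · obtain ⟨x, hx⟩ : ∃ x, x = v * w := ⟨_, rfl⟩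
    have hvx : v * x * v⁻¹ = x⁻¹ := by
      rw [hx, mul_inv_rev, hvi, hwi]
      have : v * v = 1 := by rw [← pow_two]; exact hv2
      calc v * (v * w) * v = (v * v) * w * v := by group
        _ = w * v := by rw [this, one_mul]
    have hwx : w * x * w⁻¹ = x⁻¹ := by
      rw [hx, mul_inv_rev, hvi, hwi]
      have : w * w = 1 := by rw [← pow_two]; exact hw2
      calc w * (v * w) * w = w * v * (w * w) := by group
        _ = w * v := by rw [this, mul_one]
    have h3 : p ∣ orderOf x := by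
      by_contra h3
      have hvn : Subgroup.zpowers v ≤ normalizer ((Subgroup.zpowers x : Subgroup G) : Set G) := by
        rw [Subgroup.zpowers_le]
        apply Cfsg.Agent.Lib.Helper17.Syl.mem_normalizer_of_conj_mem
        intro r hr
        obtain ⟨i, rfl⟩ := Subgroup.mem_zpowers_iff.1 hr
        rw [← conj_zpow, hvx]
        exact Subgroup.zpow_mem _ (Subgroup.inv_mem _ (Subgroup.mem_zpowers x)) i
      have hd := Cfsg.Agent.Lib.Helper9.card_sup_dvd_of_le_normalizer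
        (X := Subgroup.zpowers x) (Y := Subgroup.zpowers v) hvn
      have hnp : ¬ p ∣ Nat.card (Subgroup.zpowers x ⊔ Subgroup.zpowers v : Subgroup G) := by
        intro hdd
        rcases (Nat.Prime.dvd_mul hp.out).1 (hdd.trans hd) with h | h
        · rw [Nat.card_zpowers] at h; exact h3 h
        · rw [Nat.card_zpowers] at h
          exact (Nat.Prime.coprime_iff_not_dvd hp.out).1 (t.co2 hv2).symm h
      have hcomm : v * x = x * v := t.s.mc.hyp.2 _ hnp v
        ((le_sup_right : Subgroup.zpowers v ≤ Subgroup.zpowers x ⊔ Subgroup.zpowers v)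
          (Subgroup.mem_zpowers v)) x
        ((le_sup_left : Subgroup.zpowers x ≤ Subgroup.zpowers x ⊔ Subgroup.zpowers v)
          (Subgroup.mem_zpowers x))
      apply hc
      rw [hx] at hcomm
      calc v * w = v⁻¹ * (v * (v * w)) := by group
        _ = v⁻¹ * (v * w * v) := by rw [hcomm]
        _ = w * v := by group
    have hxo : orderOf x ≠ 0 := (orderOf_pos x).ne'
    obtain ⟨c, hcdef⟩ : ∃ c, c = x ^ (orderOf x / p) := ⟨_, rfl⟩
    have hco : orderOf c = p := by rw [hcdef]; exact orderOf_pow_orderOf_div hxo h3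
    have hc1 : c ≠ 1 := by
      intro h; rw [h, orderOf_one] at hco; exact hp.out.ne_one hco.symm
    have hcp : ∃ j : ℕ, c ^ (p ^ j) = 1 :=
      ⟨1, by rw [pow_one, ← hco]; exact pow_orderOf_eq_one c⟩
    have hvc : v * c * v⁻¹ = c⁻¹ := by rw [hcdef, ← conj_pow, hvx, inv_pow]
    have hwc : w * c * w⁻¹ = c⁻¹ := by rw [hcdef, ← conj_pow, hwx, inv_pow]
    have hcinv : c⁻¹ ≠ c := by
      intro h
      have h2 : c ^ 2 = 1 := by
        rw [pow_two]; nth_rewrite 1 [← h]; exact inv_mul_cancel c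
      have := orderOf_dvd_of_pow_eq_one h2
      rw [hco, t.hp3] at this; omega
    obtain ⟨g, hg⟩ := exists_conj_mem P hcp
    have hg1 : g⁻¹ * c * g ≠ 1 := conj_ne_one hc1
    have hu₀2 : (g * z * g⁻¹) ^ 2 = 1 := by rw [conj_pow, t.hz2]; group
    have hu₀1 : g * z * g⁻¹ ≠ 1 := by
      intro h; apply t.hz1
      have : z = g⁻¹ * (g * z * g⁻¹) * g := by group
      rw [this, h]; group
    have key : ∀ a : G, a * c * a⁻¹ = c⁻¹ →
        a * (g * z * g⁻¹) = (g * z * g⁻¹) * a ∧ a ≠ g * z * g⁻¹ := by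
      intro a hac
      constructor
      · have h1 : (g⁻¹ * a * g) * (g⁻¹ * c * g) * (g⁻¹ * a * g)⁻¹ ∈ (P : Subgroup G) := by
          have : (g⁻¹ * a * g) * (g⁻¹ * c * g) * (g⁻¹ * a * g)⁻¹ = (g⁻¹ * c * g)⁻¹ := by
            calc (g⁻¹ * a * g) * (g⁻¹ * c * g) * (g⁻¹ * a * g)⁻¹
                = g⁻¹ * (a * c * a⁻¹) * g := by group
              _ = (g⁻¹ * c * g)⁻¹ := by rw [hac]; group
          rw [this]; exact Subgroup.inv_mem _ hg
        have h2 := t.s.ti hg hg1 h1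
        rw [← t.hN] at h2
        have h3 := Subgroup.mem_centralizer_iff.1 h2 z rfl
        calc a * (g * z * g⁻¹) = g * ((g⁻¹ * a * g) * z) * g⁻¹ := by group
          _ = g * (z * (g⁻¹ * a * g)) * g⁻¹ := by rw [h3]
          _ = (g * z * g⁻¹) * a := by group
      · intro h
        have h1 : z * (g⁻¹ * c * g) = (g⁻¹ * c * g) * z :=
          (Subgroup.mem_centralizer_iff.1 t.hzC _ hg).symm
        apply hcinv
        rw [← hac, h]
        calc (g * z * g⁻¹) * c * (g * z * g⁻¹)⁻¹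
            = g * (z * (g⁻¹ * c * g)) * z⁻¹ * g⁻¹ := by group
          _ = g * ((g⁻¹ * c * g) * z) * z⁻¹ * g⁻¹ := by rw [h1]
          _ = c := by group
    obtain ⟨hv3, hv4⟩ := key v hvc
    obtain ⟨hw3, hw4⟩ := key w hwc
    refine ⟨⟨⟨g * z * g⁻¹, hu₀2, hu₀1⟩, ?_⟩, ?_⟩
    · rw [SimpleGraph.mem_commonNeighbors]
      exact ⟨And.intro (fun h => hv4 (congrArg Subtype.val h)) hv3,
        And.intro (fun h => hw4 (congrArg Subtype.val h)) hw3⟩
    · rintro ⟨⟨u, hu2, hu1⟩, hu⟩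
      rw [SimpleGraph.mem_commonNeighbors] at hu
      obtain ⟨⟨hne1, hc1'⟩, ⟨hne2, hc2'⟩⟩ := hu
      have hc1'' : v * u = u * v := hc1'
      have hc2'' : w * u = u * w := hc2'
      apply Subtype.ext; apply Subtype.ext
      show u = g * z * g⁻¹
      have hux : u * x = x * u := by
        rw [hx]
        calc u * (v * w) = (u * v) * w := (mul_assoc _ _ _).symm
          _ = (v * u) * w := by rw [hc1'']
          _ = v * (u * w) := mul_assoc _ _ _
          _ = v * (w * u) := by rw [hc2'']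
          _ = (v * w) * u := (mul_assoc _ _ _).symm
      have huc : u * c = c * u := by
        rw [hcdef]; exact ((show Commute u x from hux).pow_right _).eq
      have h5 : (g⁻¹ * u * g) * (g⁻¹ * c * g) = (g⁻¹ * c * g) * (g⁻¹ * u * g) := by
        have e1 : (g⁻¹ * u * g) * (g⁻¹ * c * g) = g⁻¹ * (u * c) * g := by group
        have e2 : (g⁻¹ * c * g) * (g⁻¹ * u * g) = g⁻¹ * (c * u) * g := by group
        rw [e1, e2, huc]
      have h8 := t.F6 hg hg1 (conj_sq hu2) (conj_ne_one hu1) h5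
      have : u = g * (g⁻¹ * u * g) * g⁻¹ := by group
      rw [this, h8]

theorem false : False := by
  classical
  haveI : Fintype {s : G // s ^ 2 = 1 ∧ s ≠ 1} := Fintype.ofFinite _
  haveI : Nonempty {s : G // s ^ 2 = 1 ∧ s ≠ 1} := ⟨⟨z, t.hz2, t.hz1⟩⟩
  obtain ⟨⟨u₀, hu₀2, hu₀1⟩, hpol⟩ := Friend.friendship_theorem t.friendship
  have hall : ∀ w : G, w ^ 2 = 1 → u₀ * w = w * u₀ := by
    intro w hw2
    by_cases hw1 : w = 1
    · rw [hw1]; simp
    · by_cases h : u₀ = w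
      · rw [h]
      · have hadj : (⟨u₀, hu₀2, hu₀1⟩ : {s : G // s ^ 2 = 1 ∧ s ≠ 1}) ≠ ⟨w, hw2, hw1⟩ ∧
            u₀ * w = w * u₀ :=
          hpol ⟨w, hw2, hw1⟩ (fun h' => h (congrArg Subtype.val h'))
        exact hadj.2
  have hZn : (centralizer {w : G | w ^ 2 = 1}).Normal := by
    constructor
    intro a ha g
    rw [Subgroup.mem_centralizer_iff] at ha ⊢
    intro w hw
    have hw' : g⁻¹ * w * g ∈ {w : G | w ^ 2 = 1} := conj_sq (show w ^ 2 = 1 from hw)
    have h1 := ha _ hw'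
    calc w * (g * a * g⁻¹) = g * ((g⁻¹ * w * g) * a) * g⁻¹ := by group
      _ = g * (a * (g⁻¹ * w * g)) * g⁻¹ := by rw [h1]
      _ = g * a * g⁻¹ * w := by group
  have hZp : ¬ p ∣ Nat.card (centralizer {w : G | w ^ 2 = 1}) := by
    intro hd
    obtain ⟨⟨x, hxZ⟩, hxo⟩ := exists_prime_orderOf_dvd_card' p hd
    have hxo' : orderOf x = p := by simpa using hxo
    have hx1 : x ≠ 1 := by
      rintro rfl; rw [orderOf_one] at hxo'; exact hp.out.ne_one hxo'.symm
    have hxp : ∃ j : ℕ, x ^ (p ^ j) = 1 :=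
      ⟨1, by rw [pow_one, ← hxo']; exact pow_orderOf_eq_one x⟩
    have hconj : ∀ g : G, g * x * g⁻¹ ∈ (P : Subgroup G) := by
      intro g
      have h1 : g * x * g⁻¹ ∈ centralizer {w : G | w ^ 2 = 1} := hZn.conj_mem x hxZ g
      have h2 : g * x * g⁻¹ ∈ normalizer ((P : Subgroup G) : Set G) := by
        rw [← t.hN, Subgroup.mem_centralizer_iff]
        intro w hw; rw [Set.mem_singleton_iff] at hw; rw [hw]
        exact Subgroup.mem_centralizer_iff.1 h1 z t.hz2
      exact mem_sylow_of_pow P h2 (pow_conj' hxp)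
    have hxP : x ∈ (P : Subgroup G) := by simpa using hconj 1
    apply t.s.not_normal
    exact Subgroup.normalizer_eq_top_iff.1 (eq_top_iff.2 (fun g _ => t.s.ti hxP hx1 (hconj g)))
  have hZ := t.s.nop' _ hZn hZp
  have : u₀ ∈ centralizer {w : G | w ^ 2 = 1} := by
    rw [Subgroup.mem_centralizer_iff]; intro w hw; exact (hall w hw).symm
  rw [hZ, Subgroup.mem_bot] at this
  exact hu₀1 this

end SetupC

end

end Cfsg.Agent.Lib.Helper17.CycSyl
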