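import Mathlib
import Cfsg.Agent.Lib.Helper17.CycSyl4
import Cfsg.Agent.Lib.Helper17.CycSyl5

/-!
Cyclic Sylow `p`-subgroup and abelian `p'`-subgroups ⇒ normal `p`-complement or normal
Sylow `p`-subgroup: the induction.
-/

set_option autoImplicit false

namespace Cfsg.Agent.Lib.Helper17.CycSyl

open Subgroup

universe u

theorem core {p : ℕ} [hp : Fact p.Prime] :
    ∀ (n : ℕ) (G : Type u) [Group G] [Finite G], Nat.card G = n → Hyp p G → Concl p G := by
  intro n
  induction n using Nat.strong_induction_on with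
  | _ n ih =>
    intro G _ _ hn hyp
    by_contra hnot
    have mc : MC p G :=
      ⟨hyp, fun H _ _ hlt hH => ih (Nat.card H) (hn ▸ hlt) H rfl hH, hnot⟩
    obtain ⟨P⟩ : Nonempty (Sylow p G) := inferInstance
    obtain ⟨K, y, s⟩ := mc.exists_setup P
    by_cases hA : ∀ a ∈ K, a ∈ centralizer ((P : Subgroup G) : Set G) → a = 1
    · exact s.caseA hA
    · obtain ⟨z, t⟩ := s.caseB hA
      exact t.false

end Cfsg.Agent.Lib.Helper17.CycSyl
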