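import Mathlib

set_option autoImplicit false
open Finset

namespace Cfsg.Agent.Lib.Helper17.HT1

/-- Reindexing a product over `range p` along multiplication by a unit mod `p`. -/
theorem reindex {M : Type*} [CommMonoid M] (p : ℕ) (hp : p.Prime) (f : ℕ → M)
    (hf : ∀ n, f (n % p) = f n) (j : ℕ) (hj : ¬ p ∣ j) :
    ∏ i ∈ range p, f (i * j) = ∏ i ∈ range p, f i := by
  have hcop : Nat.gcd p j = 1 := (Nat.Prime.coprime_iff_not_dvd hp).2 hj
  have h1 : ∏ i ∈ range p, f (i * j) = ∏ i ∈ range p, f ((i * j) % p) :=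
    prod_congr rfl (fun i _ => (hf _).symm)
  rw [h1]
  have hmaps : Set.MapsTo (fun i => (i * j) % p) (range p : Set ℕ) (range p : Set ℕ) := by
    intro i _
    simp only [coe_range, Set.mem_Iio]
    exact Nat.mod_lt _ hp.pos
  have hinj : Set.InjOn (fun i => (i * j) % p) (range p : Set ℕ) := by
    intro i hi i' hi' h
    simp only [coe_range, Set.mem_Iio] at hi hi'
    have h2 : i * j ≡ i' * j [MOD p] := h
    have h3 : i ≡ i' [MOD p] := Nat.ModEq.cancel_right_of_coprime hcop h2
    have h4 : i % p = i' % p := h3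
    rwa [Nat.mod_eq_of_lt hi, Nat.mod_eq_of_lt hi'] at h4
  have hsurj : Set.SurjOn (fun i => (i * j) % p) (range p : Set ℕ) (range p : Set ℕ) :=
    Finset.surjOn_of_injOn_of_card_le _ hmaps hinj le_rfl
  exact Finset.prod_nbij (fun i => (i * j) % p) (fun i hi => hmaps hi) hinj hsurj (fun _ _ => rfl)

variable {V : Type*} [CommGroup V]

/-- The norm of `v` under `α` (product over `p` iterates). -/
def nrm (p : ℕ) (α : MulAut V) (v : V) : V := ∏ j ∈ range p, (α ^ j) v

theorem nrm_succ (n : ℕ) (α : MulAut V) (v : V) :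
    nrm (n + 1) α v = (∏ j ∈ range n, (α ^ (j + 1)) v) * v := by
  unfold nrm
  rw [prod_range_succ']
  simp only [pow_zero, MulAut.one_apply]

theorem nrm_fixed (p : ℕ) (α : MulAut V) (hα : α ^ p = 1) (v : V) :
    α (nrm p α v) = nrm p α v := by
  unfold nrm
  rw [map_prod]
  have h1 : ∀ j ∈ range p, α ((α ^ j) v) = (α ^ (j + 1)) v := by
    intro j _
    rw [pow_succ', MulAut.mul_apply]
  rw [prod_congr rfl h1]
  have h2 := prod_range_succ (fun i => (α ^ i) v) p
  have h3 := prod_range_succ' (fun i => (α ^ i) v) p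
  rw [h3] at h2
  simp only [hα, pow_zero, MulAut.one_apply] at h2
  exact mul_right_cancel h2

theorem nrm_eq_one (p : ℕ) (α : MulAut V) (hα : α ^ p = 1) (hfpf : ∀ v, α v = v → v = 1) (v : V) :
    nrm p α v = 1 := hfpf _ (nrm_fixed p α hα v)

/-- Two commuting automorphisms of order `p` of an abelian `p'`-group such that all `τ σ^i` are
fixed-point-free: then `σ = 1`. -/
theorem pure_lemma [Finite V] (p : ℕ) (hp : p.Prime) (hV : (Nat.card V).Coprime p)
    (σ τ : MulAut V) (hc : Commute σ τ) (hσ : σ ^ p = 1) (hτ : τ ^ p = 1)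
    (hfpf : ∀ i, i < p → ∀ v, (τ * σ ^ i) v = v → v = 1) : σ = 1 := by
  obtain ⟨p', rfl⟩ : ∃ p', p = p' + 1 := ⟨p - 1, by have := hp.pos; omega⟩
  have hN : ∀ i, i < p' + 1 → ∀ v, nrm (p' + 1) (τ * σ ^ i) v = 1 := by
    intro i hi v
    apply nrm_eq_one _ _ _ (hfpf i hi)
    rw [(hc.symm.pow_right i).mul_pow, hτ, ← pow_mul, mul_comm i, pow_mul, hσ, one_pow, one_mul]
  have key : ∀ v : V, v ^ (p' + 1) = nrm (p' + 1) σ v := by
    intro v
    have h1 : ∏ i ∈ range (p' + 1), nrm (p' + 1) (τ * σ ^ i) v = 1 :=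
      prod_eq_one (fun i hi => hN i (mem_range.1 hi) v)
    unfold nrm at h1
    rw [prod_comm] at h1
    have h2 : ∀ j ∈ range (p' + 1), ∏ i ∈ range (p' + 1), ((τ * σ ^ i) ^ j) v
        = (τ ^ j) (if j = 0 then v ^ (p' + 1) else ∏ i ∈ range (p' + 1), (σ ^ i) v) := by
      intro j hj
      have hj' := mem_range.1 hj
      have h3 : ∀ i ∈ range (p' + 1), ((τ * σ ^ i) ^ j) v = (τ ^ j) ((σ ^ (i * j)) v) := by
        intro i _
        rw [(hc.symm.pow_right i).mul_pow, ← pow_mul, MulAut.mul_apply]
      rw [prod_congr rfl h3, ← map_prod]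
      congr 1
      split_ifs with hj0
      · subst hj0
        simp only [mul_zero, pow_zero, MulAut.one_apply, prod_const, card_range]
      · apply reindex (p' + 1) hp (fun n => (σ ^ n) v)
        · intro n
          show (σ ^ (n % (p' + 1))) v = (σ ^ n) v
          rw [← pow_eq_pow_mod n hσ]
        · intro hd
          exact hj0 (Nat.eq_zero_of_dvd_of_lt hd hj')
    rw [prod_congr rfl h2, prod_range_succ'] at h1
    simp only [Nat.add_eq_zero_iff, one_ne_zero, and_false, ↓reduceIte, pow_zero,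
      MulAut.one_apply] at h1
    have h4 := hN 0 (Nat.succ_pos _) (∏ i ∈ range (p' + 1), (σ ^ i) v)
    simp only [pow_zero, mul_one] at h4
    rw [nrm_succ] at h4
    unfold nrm
    exact mul_left_cancel (h1.trans h4.symm)
  apply MulEquiv.ext
  intro v
  rw [MulAut.one_apply]
  have h1 : σ (v ^ (p' + 1)) = v ^ (p' + 1) := by
    rw [key v]; exact nrm_fixed _ σ hσ v
  rw [map_pow] at h1
  exact (powCoprime hV).injective h1

/-- A `p`-group `A` of automorphisms of an abelian `p'`-group in which every element outside the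
proper subgroup `K` has order `p` and is fixed-point-free: then `K = 1` and `|A| = p`. -/
theorem L_abs [Finite V] [Nontrivial V] (p : ℕ) [hp : Fact p.Prime] (hV : (Nat.card V).Coprime p)
    (A K : Subgroup (MulAut V)) (hA : IsPGroup p A) (hKA : K ≤ A) (hne : K ≠ A)
    (hout : ∀ α ∈ A, α ∉ K → α ^ p = 1 ∧ ∀ v, α v = v → v = 1) :
    K = ⊥ ∧ Nat.card A = p := by
  classical
  obtain ⟨x₀, hx₀A, hx₀K⟩ : ∃ x ∈ A, x ∉ K := by
    by_contra hcon
    apply hne
    apply le_antisymm hKA
    intro x hx
    by_contra hxK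
    exact hcon ⟨x, hx, hxK⟩
  have : Nontrivial A := by
    rw [Subgroup.nontrivial_iff_ne_bot]
    rintro rfl
    exact hne (le_bot_iff.1 hKA)
  have : Finite (MulAut V) := Finite.of_injective (fun α : MulAut V => (α : V → V))
    (fun α β h => MulEquiv.ext (fun v => congrFun h v))
  have := hA.center_nontrivial
  have hZp : IsPGroup p (Subgroup.center A) := hA.to_subgroup _
  have hdvd : p ∣ Nat.card (Subgroup.center A) := by
    rcases hZp.card_eq_or_dvd with h | h
    · exact absurd h (Finite.one_lt_card).ne'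
    · exact h
  obtain ⟨z, hz⟩ := exists_prime_orderOf_dvd_card' p hdvd
  set ζ : MulAut V := ((z : A) : MulAut V) with hζ
  have hζA : ζ ∈ A := (z : A).2
  have hζp : ζ ^ p = 1 := by
    have h1 : z ^ p = 1 := by rw [← hz]; exact pow_orderOf_eq_one z
    have h2 := congrArg (fun y : Subgroup.center A => ((y : A) : MulAut V)) h1
    simpa using h2
  have hζ1 : ζ ≠ 1 := by
    intro h
    have h1 : z = 1 := by
      apply Subtype.ext
      apply Subtype.ext
      exact h
    rw [h1, orderOf_one] at hz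
    exact hp.out.one_lt.ne hz
  have hζc : ∀ y ∈ A, Commute ζ y := by
    intro y hy
    have h1 := Subgroup.mem_center_iff.1 z.2 ⟨y, hy⟩
    have h2 := congrArg (fun y : A => (y : MulAut V)) h1
    exact h2.symm
  have claim : ∀ x ∈ A, x ∉ K → x ∈ Subgroup.zpowers ζ := by
    intro x hxA hxK
    obtain ⟨hxp, hxf⟩ := hout x hxA hxK
    by_contra hxz
    have hcx : Commute ζ x := hζc x hxA
    have case1 : (∀ i, i < p → x * ζ ^ i ∉ K) → False := by
      intro hall
      apply hζ1
      apply pure_lemma p hp.out hV ζ x hcx hζp hxp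
      intro i hi v hv
      exact (hout _ (A.mul_mem hxA (A.pow_mem hζA i)) (hall i hi)).2 v hv
    by_cases hζK : ζ ∈ K
    · apply case1
      intro i _ h
      apply hxK
      have := K.mul_mem h (K.inv_mem (K.pow_mem hζK i))
      simpa using this
    · by_cases hall : ∀ i, i < p → x * ζ ^ i ∉ K
      · exact case1 hall
      · obtain ⟨i, hi, hiK⟩ : ∃ i, i < p ∧ x * ζ ^ i ∈ K := by
          by_contra h
          exact hall (fun i hi hK => h ⟨i, hi, hK⟩)
        have hcw : Commute (x * ζ ^ i) ζ := (hcx.symm).mul_left ((Commute.refl ζ).pow_left i)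
        have hwp : (x * ζ ^ i) ^ p = 1 := by
          rw [(hcx.symm.pow_right i).mul_pow, hxp, ← pow_mul, mul_comm, pow_mul, hζp, one_pow,
            one_mul]
        have hw1 : x * ζ ^ i = 1 := by
          apply pure_lemma p hp.out hV (x * ζ ^ i) ζ hcw hwp hζp
          intro j _ v hv
          have hmem : ζ * (x * ζ ^ i) ^ j ∈ A :=
            A.mul_mem hζA (A.pow_mem (A.mul_mem hxA (A.pow_mem hζA i)) j)
          have hnot : ζ * (x * ζ ^ i) ^ j ∉ K := by
            intro h
            apply hζK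
            have := K.mul_mem h (K.inv_mem (K.pow_mem hiK j))
            simpa using this
          exact (hout _ hmem hnot).2 v hv
        apply hxz
        have h3 : x = (ζ ^ i)⁻¹ := eq_inv_of_mul_eq_one_left hw1
        rw [h3]
        exact (Subgroup.zpowers ζ).inv_mem (Subgroup.npow_mem_zpowers ζ i)
  have hAle : A ≤ Subgroup.zpowers ζ := by
    intro y hy
    by_cases hyK : y ∈ K
    · have h1 : y * x₀ ∉ K := by
        intro h
        apply hx₀K
        have := K.mul_mem (K.inv_mem hyK) h
        simpa using this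
      have h2 := claim (y * x₀) (A.mul_mem hy hx₀A) h1
      have h3 := claim x₀ hx₀A hx₀K
      have := (Subgroup.zpowers ζ).mul_mem h2 ((Subgroup.zpowers ζ).inv_mem h3)
      simpa using this
    · exact claim y hy hyK
  have hAeq : A = Subgroup.zpowers ζ :=
    le_antisymm hAle (by rw [Subgroup.zpowers_le]; exact hζA)
  have hcard : Nat.card A = p := by
    rw [hAeq, Nat.card_zpowers, orderOf_eq_prime hζp hζ1]
  refine ⟨?_, hcard⟩
  have hdvd2 : Nat.card K ∣ Nat.card A := Subgroup.card_dvd_of_le hKA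
  rw [hcard] at hdvd2
  rcases (Nat.dvd_prime hp.out).1 hdvd2 with h | h
  · exact Subgroup.eq_bot_of_card_eq K h
  · exfalso
    apply hne
    exact Subgroup.eq_of_le_of_card_ge hKA (by rw [h, hcard])

/-- A group `F` acting on an elementary abelian `p`-group `V` such that every element outside the
subgroup `Q` has order `p` and trivial norm on `V`; if `p ∣ |F|` and `p ∤ |Q|` then `Q` acts
trivially. -/
theorem part_abs {F : Type*} [Group F] [Finite F] [Finite V] (p : ℕ) (hp : p.Prime)
    (act : F →* MulAut V) (Q : Subgroup F)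
    (hout : ∀ y : F, y ∉ Q → y ^ p = 1 ∧ ∀ w : V, nrm p (act y) w = 1)
    (hF : p ∣ Nat.card F) (hQ : ¬ p ∣ Nat.card Q) (hVe : ∀ w : V, w ^ p = 1) :
    ∀ c ∈ Q, ∀ w : V, act c w = w := by
  classical
  have : Fintype F := Fintype.ofFinite F
  obtain ⟨p', rfl⟩ : ∃ p', p = p' + 1 := ⟨p - 1, by have := hp.pos; omega⟩
  set S : Finset F := univ.filter (fun y => y ∉ Q) with hS
  set X : V → V := fun w => ∏ y ∈ S, act y w with hX
  set U : V → V := fun w => ∏ y ∈ univ.filter (fun y => y ∈ Q), act y w with hU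
  have hT : ∀ w, U w * X w = ∏ y : F, act y w := by
    intro w
    exact prod_filter_mul_prod_filter_not univ (fun y => y ∈ Q) (fun y => act y w)
  have hTfix : ∀ (c : F) (w : V), act c (∏ y : F, act y w) = ∏ y : F, act y w := by
    intro c w
    rw [map_prod]
    have h1 : ∀ y : F, act c (act y w) = act (c * y) w := by
      intro y; rw [map_mul, MulAut.mul_apply]
    simp_rw [h1]
    exact Fintype.prod_bijective (fun y : F => c * y) (Group.mulLeft_bijective c) _ _
      (fun _ => rfl)
  have hUfix : ∀ c ∈ Q, ∀ w : V, act c (U w) = U w := by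
    intro c hc w
    rw [hU]
    simp only
    rw [map_prod]
    have h1 : ∀ y : F, act c (act y w) = act (c * y) w := by
      intro y; rw [map_mul, MulAut.mul_apply]
    simp_rw [h1]
    apply Finset.prod_bij' (fun y _ => c * y) (fun y _ => c⁻¹ * y)
    · intro y hy
      simp only [mem_filter, mem_univ, true_and] at hy ⊢
      exact Q.mul_mem hc hy
    · intro y hy
      simp only [mem_filter, mem_univ, true_and] at hy ⊢
      exact Q.mul_mem (Q.inv_mem hc) hy
    · intro y _; simp
    · intro y _; simp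
    · intro y _; rfl
  have hXfix : ∀ c ∈ Q, ∀ w : V, act c (X w) = X w := by
    intro c hc w
    have h1 := hTfix c w
    rw [← hT w, map_mul, hUfix c hc w] at h1
    exact mul_left_cancel h1
  have hpow : ∀ k, k < p' → ∀ w : V, ∏ y ∈ S, act (y ^ (k + 1)) w = X w := by
    intro k hk w
    have hcop : Nat.Coprime (k + 1) (p' + 1) :=
      Nat.Coprime.symm ((Nat.Prime.coprime_iff_not_dvd hp).2
        (Nat.not_dvd_of_pos_of_lt (Nat.succ_pos k) (by omega)))
    obtain ⟨m, -, hm⟩ := Nat.exists_mul_mod_eq_one_of_coprime hcop hp.one_lt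
    have hinv : ∀ y ∈ S, (y ^ (k + 1)) ^ m = y := by
      intro y hy
      have hy' : y ∉ Q := (mem_filter.1 hy).2
      rw [← pow_mul, pow_eq_pow_mod _ (hout y hy').1, hm, pow_one]
    have hmem : ∀ y ∈ S, y ^ (k + 1) ∈ S := by
      intro y hy
      have hy' : y ∉ Q := (mem_filter.1 hy).2
      refine mem_filter.2 ⟨mem_univ _, fun h => hy' ?_⟩
      rw [← hinv y hy]; exact Q.pow_mem h m
    have hinv' : ∀ y ∈ S, (y ^ m) ^ (k + 1) = y := by
      intro y hy
      rw [← pow_mul, mul_comm, pow_mul]; exact hinv y hy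
    have hmem' : ∀ y ∈ S, y ^ m ∈ S := by
      intro y hy
      have hy' : y ∉ Q := (mem_filter.1 hy).2
      refine mem_filter.2 ⟨mem_univ _, fun h => hy' ?_⟩
      rw [← hinv' y hy]; exact Q.pow_mem h (k + 1)
    rw [hX]
    simp only
    exact Finset.prod_bij' (fun y _ => y ^ (k + 1)) (fun y _ => y ^ m) hmem hmem' hinv hinv'
      (fun _ _ => rfl)
  have hXp : ∀ w : V, X w ^ p' = (w ^ S.card)⁻¹ := by
    intro w
    have h1 : X w ^ p' = ∏ k ∈ range p', ∏ y ∈ S, act (y ^ (k + 1)) w := by
      rw [prod_congr rfl (fun k hk => hpow k (mem_range.1 hk) w), prod_const, card_range]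
    rw [h1, prod_comm]
    have h2 : ∀ y ∈ S, ∏ k ∈ range p', act (y ^ (k + 1)) w = w⁻¹ := by
      intro y hy
      have hy' : y ∉ Q := (mem_filter.1 hy).2
      have h3 := (hout y hy').2 w
      rw [nrm_succ] at h3
      have h4 : ∏ k ∈ range p', act (y ^ (k + 1)) w = ∏ k ∈ range p', (act y ^ (k + 1)) w :=
        prod_congr rfl (fun k _ => by rw [map_pow])
      rw [h4]
      exact eq_inv_of_mul_eq_one_left h3
    rw [prod_congr rfl h2, prod_const, inv_pow]
  have hQc : (univ.filter (fun y => y ∈ Q)).card = Nat.card Q :=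
    (Fintype.card_subtype _).symm.trans (Nat.card_eq_fintype_card).symm
  have hsum : (univ.filter (fun y => y ∈ Q)).card + S.card = Nat.card F := by
    rw [hS, card_filter_add_card_filter_not, card_univ, Nat.card_eq_fintype_card]
  have hSp : ¬ (p' + 1) ∣ S.card := by
    intro h
    apply hQ
    rw [← hQc]
    have := (Nat.dvd_add_left h).1 (hsum ▸ hF)
    exact this
  intro c hc w
  have hfix : act c (w ^ S.card) = w ^ S.card := by
    have h1 : act c ((w ^ S.card)⁻¹) = (w ^ S.card)⁻¹ := by
      rw [← hXp w, map_pow, hXfix c hc w]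
    rw [map_inv, inv_inj] at h1
    exact h1
  have hcop : Nat.Coprime S.card (orderOf w) := by
    have h1 : orderOf w ∣ p' + 1 := orderOf_dvd_of_pow_eq_one (hVe w)
    have h2 : Nat.Coprime S.card (p' + 1) :=
      Nat.Coprime.symm ((Nat.Prime.coprime_iff_not_dvd hp).2 hSp)
    exact Nat.Coprime.coprime_dvd_right h1 h2
  obtain ⟨m, hm⟩ := exists_pow_eq_self_of_coprime hcop
  rw [← hm, map_pow, hfix]

end Cfsg.Agent.Lib.Helper17.HT1
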