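import Mathlib
import Cfsg.Agent.Lib.Helper17.HT1
import Cfsg.Agent.Lib.Helper19.RelIndex
import Cfsg.Agent.Lib.Lead.FpfAut

set_option autoImplicit false
open Finset

namespace Cfsg.Agent.Lib.Helper17.HT2

open Cfsg.Agent.Lib.Helper17 Cfsg.Agent.Lib.Lead

variable {Γ : Type*} [Group Γ]

/-- The elements of order dividing `q` in the centre of `A`. -/
def omZ (A : Subgroup Γ) (q : ℕ) : Subgroup Γ where
  carrier := {x | x ∈ A ∧ x ^ q = 1 ∧ ∀ y ∈ A, x * y = y * x}
  mul_mem' := by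
    rintro a b ⟨ha, ha1, ha2⟩ ⟨hb, hb1, hb2⟩
    refine ⟨A.mul_mem ha hb, ?_, ?_⟩
    · rw [Commute.mul_pow (ha2 b hb) q, ha1, hb1, one_mul]
    · intro y hy
      rw [mul_assoc, hb2 y hy, ← mul_assoc, ha2 y hy, mul_assoc]
  one_mem' := ⟨A.one_mem, one_pow _, fun y _ => by rw [one_mul, mul_one]⟩
  inv_mem' := by
    rintro a ⟨ha, ha1, ha2⟩
    refine ⟨A.inv_mem ha, by rw [inv_pow, ha1, inv_one], ?_⟩
    intro y hy
    have := ha2 y hy
    rw [inv_mul_eq_iff_eq_mul, ← mul_assoc, this, mul_assoc, mul_inv_cancel, mul_one]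

theorem omZ_le (A : Subgroup Γ) (q : ℕ) : omZ A q ≤ A := fun _ hx => hx.1

theorem omZ_comm (A : Subgroup Γ) (q : ℕ) : ∀ a ∈ omZ A q, ∀ b ∈ omZ A q, a * b = b * a :=
  fun _ ha b hb => ha.2.2 b hb.1

theorem omZ_pow (A : Subgroup Γ) (q : ℕ) : ∀ a ∈ omZ A q, a ^ q = 1 := fun _ ha => ha.2.1

instance omZ_normal (A : Subgroup Γ) [hA : A.Normal] (q : ℕ) : (omZ A q).Normal := by
  refine ⟨fun x hx g => ⟨hA.conj_mem x hx.1 g, ?_, ?_⟩⟩
  · rw [conj_pow, hx.2.1, mul_one, mul_inv_cancel]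
  · intro y hy
    have h := hx.2.2 (g⁻¹ * y * g) (by have := hA.conj_mem y hy g⁻¹; simpa using this)
    calc g * x * g⁻¹ * y = g * (x * (g⁻¹ * y * g)) * g⁻¹ := by group
      _ = g * ((g⁻¹ * y * g) * x) * g⁻¹ := by rw [h]
      _ = y * (g * x * g⁻¹) := by group

theorem omZ_isPGroup (A : Subgroup Γ) (q : ℕ) : IsPGroup q (omZ A q) := by
  intro v
  refine ⟨1, ?_⟩
  apply Subtype.ext
  rw [pow_one]
  exact v.2.2.1

theorem omZ_ne_bot [Finite Γ] (p : ℕ) [hp : Fact p.Prime] (A : Subgroup Γ) (hA : IsPGroup p A)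
    (hA1 : A ≠ ⊥) : omZ A p ≠ ⊥ := by
  have h1 := FpfAut.inf_centralizer_ne_bot A hA hA1
  have hZp : IsPGroup p (A ⊓ Subgroup.centralizer (A : Set Γ) : Subgroup Γ) := hA.to_le inf_le_left
  have hdvd : p ∣ Nat.card (A ⊓ Subgroup.centralizer (A : Set Γ) : Subgroup Γ) := by
    rcases hZp.card_eq_or_dvd with h | h
    · exact absurd (Subgroup.eq_bot_of_card_eq _ h) h1
    · exact h
  obtain ⟨z, hz⟩ := exists_prime_orderOf_dvd_card' p hdvd
  have hzp : (z : Γ) ^ p = 1 := by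
    have h2 : z ^ p = 1 := by rw [← hz]; exact pow_orderOf_eq_one z
    exact congrArg Subtype.val h2
  have hmem : (z : Γ) ∈ omZ A p :=
    ⟨z.2.1, hzp, fun y hy => ((Subgroup.mem_centralizer_iff.1 z.2.2) y hy).symm⟩
  intro hbot
  rw [hbot, Subgroup.mem_bot] at hmem
  have h3 : z = 1 := Subtype.ext hmem
  rw [h3, orderOf_one] at hz
  exact hp.out.one_lt.ne hz

/-- In a finite group, an element conjugating `N` into itself normalises `N`. -/
theorem mem_normalizer_of_conj_mem [Finite Γ] (N : Subgroup Γ) (b : Γ)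
    (h : ∀ x ∈ N, b * x * b⁻¹ ∈ N) : b ∈ Subgroup.normalizer (N : Set Γ) := by
  rw [Subgroup.mem_normalizer_iff]
  intro x
  constructor
  · exact h x
  · intro hx
    let f : N → N := fun y => ⟨b * y * b⁻¹, h y y.2⟩
    have hinj : Function.Injective f := by
      intro y y' hyy
      have h1 : b * (y : Γ) * b⁻¹ = b * (y' : Γ) * b⁻¹ := congrArg Subtype.val hyy
      exact Subtype.ext (mul_left_cancel (mul_right_cancel h1))
    obtain ⟨y, hy⟩ := (Finite.injective_iff_surjective.1 hinj) ⟨b * x * b⁻¹, hx⟩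
    have h1 : b * (y : Γ) * b⁻¹ = b * x * b⁻¹ := congrArg Subtype.val hy
    have h2 : (y : Γ) = x := mul_left_cancel (mul_right_cancel h1)
    rw [← h2]
    exact y.2

/-- The hypothesis: `a` has order dividing `p` and so does every element of the coset `G a`. -/
def HK (p : ℕ) (G : Subgroup Γ) (a : Γ) : Prop := a ^ p = 1 ∧ ∀ x ∈ G, (x * a) ^ p = 1

theorem HK.mul_left {p : ℕ} {G : Subgroup Γ} {a : Γ} (h : HK p G a) {g : Γ} (hg : g ∈ G) :
    HK p G (g * a) :=
  ⟨h.2 g hg, fun x hx => by rw [← mul_assoc]; exact h.2 _ (G.mul_mem hx hg)⟩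

theorem HK.comm_pow {p : ℕ} {G : Subgroup Γ} {a : Γ} (h : HK p G a) {x : Γ} (hx : x ∈ G)
    (hc : x * a = a * x) : x ^ p = 1 := by
  have h1 := h.2 x hx
  rw [Commute.mul_pow hc, h.1, mul_one] at h1
  exact h1

theorem HK.exp_of_mem {p : ℕ} {G : Subgroup Γ} {a : Γ} (h : HK p G a) (ha : a ∈ G) {x : Γ}
    (hx : x ∈ G) : x ^ p = 1 := by
  have h1 := h.2 (x * a⁻¹) (G.mul_mem hx (G.inv_mem ha))
  rwa [inv_mul_cancel_right] at h1

theorem HK.pow [Finite Γ] {p : ℕ} (hp : p.Prime) {G : Subgroup Γ} [hGn : G.Normal] {a : Γ}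
    (h : HK p G a) (j : ℕ) (hj : ¬ p ∣ j) : HK p G (a ^ j) := by
  refine ⟨by rw [← pow_mul, mul_comm, pow_mul, h.1, one_pow], ?_⟩
  have hmem : ∀ (i : ℕ) (x : Γ), x ∈ G → (x * a) ^ i * (a ^ i)⁻¹ ∈ G := by
    intro i
    induction i with
    | zero => intro x _; simp
    | succ i ih =>
      intro x hx
      have h1 : (x * a) ^ (i + 1) * (a ^ (i + 1))⁻¹
          = ((x * a) ^ i * (a ^ i)⁻¹) * (a ^ i * x * (a ^ i)⁻¹) := by
        rw [pow_succ, pow_succ]; group
      rw [h1]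
      exact G.mul_mem (ih x hx) (hGn.conj_mem x hx _)
  have hcop : Nat.Coprime j p := Nat.Coprime.symm ((Nat.Prime.coprime_iff_not_dvd hp).2 hj)
  obtain ⟨m, -, hm⟩ := Nat.exists_mul_mod_eq_one_of_coprime hcop hp.one_lt
  let f : G → G := fun x => ⟨((x : Γ) * a) ^ j * (a ^ j)⁻¹, hmem j x x.2⟩
  have hinj : Function.Injective f := by
    intro x y hxy
    have h1 : ((x : Γ) * a) ^ j = ((y : Γ) * a) ^ j := by
      have h0 : ((x : Γ) * a) ^ j * (a ^ j)⁻¹ = ((y : Γ) * a) ^ j * (a ^ j)⁻¹ :=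
        congrArg Subtype.val hxy
      exact mul_right_cancel h0
    have h2 : ∀ z : G, (((z : Γ) * a) ^ j) ^ m = (z : Γ) * a := by
      intro z
      rw [← pow_mul, pow_eq_pow_mod _ (h.2 z z.2), hm, pow_one]
    have h3 : (x : Γ) * a = (y : Γ) * a := by rw [← h2 x, ← h2 y, h1]
    exact Subtype.ext (mul_right_cancel h3)
  have hsurj := Finite.injective_iff_surjective.1 hinj
  intro y hy
  obtain ⟨x, hx⟩ := hsurj ⟨y, hy⟩
  have h1 : ((x : Γ) * a) ^ j = y * a ^ j := by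
    have h0 : ((x : Γ) * a) ^ j * (a ^ j)⁻¹ = y := congrArg Subtype.val hx
    rw [← h0, inv_mul_cancel_right]
  rw [← h1, ← pow_mul, mul_comm, pow_mul, h.2 x x.2, one_pow]

theorem HK.zpowers [Finite Γ] {p : ℕ} (hp : p.Prime) {G : Subgroup Γ} [hGn : G.Normal] {a : Γ}
    (h : HK p G a) {b : Γ} (hb : b ∈ Subgroup.zpowers a) (hb1 : b ≠ 1) : HK p G b := by
  obtain ⟨k, rfl⟩ := Subgroup.mem_zpowers_iff.1 hb
  have h1 : a ^ k = a ^ (k % (p : ℤ)) := zpow_eq_zpow_emod' k h.1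
  have h2 : 0 ≤ k % (p : ℤ) := Int.emod_nonneg _ (by exact_mod_cast hp.ne_zero)
  obtain ⟨j, hj⟩ := Int.eq_ofNat_of_zero_le h2
  rw [h1, hj, zpow_natCast] at hb1 ⊢
  apply h.pow hp
  intro hd
  have hlt : (j : ℤ) < p := by
    rw [← hj]; exact Int.emod_lt_of_pos _ (by exact_mod_cast hp.pos)
  have hj0 : j = 0 := Nat.eq_zero_of_dvd_of_lt hd (by exact_mod_cast hlt)
  rw [hj0, pow_zero] at hb1
  exact hb1 rfl

theorem HK.all [Finite Γ] {p : ℕ} (hp : p.Prime) {G : Subgroup Γ} [hGn : G.Normal] {a : Γ}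
    (h : HK p G a) {u b : Γ} (hu : u ∈ G) (hb : b ∈ Subgroup.zpowers a) (hb1 : b ≠ 1) :
    HK p G (u * b) := (h.zpowers hp hb hb1).mul_left hu

/-- Group form of `HT1.L_abs`. -/
theorem L_grp [Finite Γ] (p : ℕ) [hp : Fact p.Prime] (V : Subgroup Γ) [hVn : V.Normal]
    (hVc : ∀ a ∈ V, ∀ b ∈ V, a * b = b * a) (hV1 : V ≠ ⊥) (hVp : (Nat.card V).Coprime p)
    (P S : Subgroup Γ) (hPS : P ≤ S) (hS : IsPGroup p S) (hne : P ≠ S)
    (hout : ∀ b ∈ S, b ∉ P → b ^ p = 1 ∧ ∀ v ∈ V, b * v = v * b → v = 1) :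
    P ≤ Subgroup.centralizer (V : Set Γ) ∧ P.relIndex S = p := by
  classical
  letI : CommGroup V :=
    { (inferInstance : Group V) with
      mul_comm := fun a b => Subtype.ext (hVc a a.2 b b.2) }
  have hnt : Nontrivial V := (Subgroup.nontrivial_iff_ne_bot V).2 hV1
  set ρ : Γ →* MulAut V := MulAut.conjNormal with hρ
  have hρfix : ∀ (g : Γ) (v : V), ρ g v = v → g * (v : Γ) = (v : Γ) * g := by
    intro g v hv
    have h1 : g * (v : Γ) * g⁻¹ = (v : Γ) := by
      have := congrArg Subtype.val hv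
      simpa [hρ] using this
    calc g * (v : Γ) = (g * (v : Γ) * g⁻¹) * g := by group
      _ = (v : Γ) * g := by rw [h1]
  have hρ1 : ∀ (g : Γ), ρ g = 1 → ∀ v ∈ V, g * v = v * g := by
    intro g hg v hv
    exact hρfix g ⟨v, hv⟩ (by rw [hg]; rfl)
  obtain ⟨b₀, hb₀S, hb₀P⟩ : ∃ b ∈ S, b ∉ P := by
    by_contra hcon
    apply hne
    apply le_antisymm hPS
    intro x hx
    by_contra hxP
    exact hcon ⟨x, hx, hxP⟩
  have hVtriv : ∀ b ∈ S, b ∉ P → ρ b ≠ 1 := by
    intro b hbS hbP h1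
    apply hV1
    rw [Subgroup.eq_bot_iff_forall]
    intro v hv
    exact (hout b hbS hbP).2 v hv (hρ1 b h1 v hv)
  have hKne : P.map ρ ≠ S.map ρ := by
    intro heq
    have h1 : ρ b₀ ∈ P.map ρ := by rw [heq]; exact Subgroup.mem_map_of_mem ρ hb₀S
    obtain ⟨u, hu, hub⟩ := h1
    have hmem : u⁻¹ * b₀ ∈ S := S.mul_mem (S.inv_mem (hPS hu)) hb₀S
    have hnot : u⁻¹ * b₀ ∉ P := by
      intro h
      apply hb₀P
      have := P.mul_mem hu h
      simpa using this
    apply hVtriv _ hmem hnot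
    rw [map_mul, map_inv, hub, inv_mul_cancel]
  have hAout : ∀ α ∈ S.map ρ, α ∉ P.map ρ → α ^ p = 1 ∧ ∀ v, α v = v → v = 1 := by
    rintro _ ⟨b, hbS, rfl⟩ hα
    have hbP : b ∉ P := fun h => hα (Subgroup.mem_map_of_mem ρ h)
    obtain ⟨h1, h2⟩ := hout b hbS hbP
    refine ⟨by rw [← map_pow, h1, map_one], ?_⟩
    intro v hv
    have := h2 v v.2 (hρfix b v hv)
    exact Subtype.ext this
  obtain ⟨hK, hcard⟩ := HT1.L_abs p hVp (S.map ρ) (P.map ρ) (hS.map ρ) (Subgroup.map_mono hPS)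
    hKne hAout
  constructor
  · intro u hu
    rw [Subgroup.mem_centralizer_iff]
    intro v hv
    have h1 : ρ u = 1 := by
      have : ρ u ∈ P.map ρ := Subgroup.mem_map_of_mem ρ hu
      rw [hK] at this
      exact Subgroup.mem_bot.1 this
    exact (hρ1 u h1 v hv).symm
  · have hker : P.subgroupOf S = (ρ.comp S.subtype).ker := by
      ext x
      rw [Subgroup.mem_subgroupOf, MonoidHom.mem_ker, MonoidHom.comp_apply, Subgroup.subtype_apply]
      constructor
      · intro hx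
        have : ρ x ∈ P.map ρ := Subgroup.mem_map_of_mem ρ hx
        rw [hK] at this
        exact Subgroup.mem_bot.1 this
      · intro hx
        by_contra hxP
        exact hVtriv x x.2 hxP hx
    rw [Subgroup.relIndex, hker, Subgroup.index_ker, ← MonoidHom.map_range, Subgroup.range_subtype]
    exact hcard

/-- Group form of `HT1.part_abs`. -/
theorem part_grp [Finite Γ] (p : ℕ) (hp : p.Prime) (V : Subgroup Γ) [hVn : V.Normal]
    (hVc : ∀ a ∈ V, ∀ b ∈ V, a * b = b * a) (hVe : ∀ v ∈ V, v ^ p = 1)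
    (Q F : Subgroup Γ) (hQF : Q ≤ F) (hFp : p ∣ Nat.card F) (hQp : ¬ p ∣ Nat.card Q)
    (hout : ∀ y ∈ F, y ∉ Q → y ^ p = 1 ∧ ∀ w ∈ V, (w * y) ^ p = 1) :
    Q ≤ Subgroup.centralizer (V : Set Γ) := by
  classical
  letI : CommGroup V :=
    { (inferInstance : Group V) with
      mul_comm := fun a b => Subtype.ext (hVc a a.2 b b.2) }
  set act : F →* MulAut V := (MulAut.conjNormal).comp F.subtype with hact
  have hexp : ∀ (y : Γ) (w : V) (n : ℕ), ((w : Γ) * y) ^ n
      = ((∏ i ∈ range n, ((MulAut.conjNormal y : MulAut V) ^ i) w : V) : Γ) * y ^ n := by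
    intro y w n
    induction n with
    | zero => simp
    | succ n ih =>
      calc ((w : Γ) * y) ^ (n + 1) = ((w : Γ) * y) ^ n * ((w : Γ) * y) := pow_succ _ _
        _ = ((∏ i ∈ range n, ((MulAut.conjNormal y : MulAut V) ^ i) w : V) : Γ) * y ^ n
              * ((w : Γ) * y) := by rw [ih]
        _ = ((∏ i ∈ range n, ((MulAut.conjNormal y : MulAut V) ^ i) w : V) : Γ)
              * (y ^ n * (w : Γ) * (y ^ n)⁻¹) * y ^ (n + 1) := by rw [pow_succ]; group
        _ = _ := by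
            rw [prod_range_succ, Subgroup.coe_mul, ← map_pow (MulAut.conjNormal (H := V)) y n,
              MulAut.conjNormal_apply]
  have h1 : ∀ y : F, y ∉ Q.subgroupOf F → y ^ p = 1 ∧ ∀ w : V, HT1.nrm p (act y) w = 1 := by
    intro y hy
    have hy' : (y : Γ) ∉ Q := fun h => hy (by rw [Subgroup.mem_subgroupOf]; exact h)
    obtain ⟨h1, h2⟩ := hout y y.2 hy'
    refine ⟨Subtype.ext (by simpa using h1), ?_⟩
    intro w
    have h3 := hexp (y : Γ) w p
    rw [h2 w w.2, h1, mul_one] at h3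
    apply Subtype.ext
    unfold HT1.nrm
    exact h3.symm
  have h2 : ¬ p ∣ Nat.card (Q.subgroupOf F) := by
    rw [Nat.card_congr (Subgroup.subgroupOfEquivOfLe hQF).toEquiv]; exact hQp
  have h3 : ∀ w : V, w ^ p = 1 := by
    intro w; exact Subtype.ext (by simpa using hVe w w.2)
  have key := HT1.part_abs p hp act (Q.subgroupOf F) h1 hFp h2 h3
  intro c hc
  rw [Subgroup.mem_centralizer_iff]
  intro v hv
  have h4 := key ⟨c, hQF hc⟩ (by rw [Subgroup.mem_subgroupOf]; exact hc) ⟨v, hv⟩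
  have h5 : c * v * c⁻¹ = v := by
    have := congrArg Subtype.val h4
    simpa [hact] using this
  calc v * c = (c * v * c⁻¹) * c := by rw [h5]
    _ = c * v := by group

/-- Core of the Hughes–Thompson index theorem. -/
theorem ht_core [Finite Γ] (p : ℕ) [hp : Fact p.Prime] (H : Subgroup Γ) [hHn : H.Normal]
    (hH : H ≠ ⊤) (hout : ∀ g : Γ, g ∉ H → g ^ p = 1) (V : Subgroup Γ) [V.Normal] (hVH : V ≤ H)
    (hVc : ∀ a ∈ V, ∀ b ∈ V, a * b = b * a) (hV1 : V ≠ ⊥) (hVp : (Nat.card V).Coprime p) :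
    H.index = p := by
  obtain ⟨S⟩ : Nonempty (Sylow p Γ) := inferInstance
  have hq : IsPGroup p (Γ ⧸ H) := by
    intro y
    obtain ⟨g, rfl⟩ := QuotientGroup.mk_surjective y
    refine ⟨1, ?_⟩
    rw [pow_one, ← QuotientGroup.mk_pow, QuotientGroup.eq_one_iff]
    by_cases hg : g ∈ H
    · exact H.pow_mem hg p
    · rw [hout g hg]; exact H.one_mem
  obtain ⟨k, hk⟩ := IsPGroup.iff_card.1 hq
  have hidx : H.index = p ^ k := by rw [Subgroup.index_eq_card]; exact hk
  have hsup : H ⊔ (S : Subgroup Γ) = ⊤ := by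
    rw [← Subgroup.index_eq_one]
    have h1 : (H ⊔ (S : Subgroup Γ)).index ∣ H.index := Subgroup.index_dvd_of_le le_sup_left
    have h2 : (H ⊔ (S : Subgroup Γ)).index ∣ (S : Subgroup Γ).index :=
      Subgroup.index_dvd_of_le le_sup_right
    rw [hidx] at h1
    obtain ⟨j, -, hj⟩ := (Nat.dvd_prime_pow hp.out).1 h1
    rw [hj] at h2 ⊢
    cases j with
    | zero => rfl
    | succ j => exact absurd (dvd_trans (dvd_pow_self p (Nat.succ_ne_zero j)) h2) S.not_dvd_index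
  have hrel : H.index = H.relIndex (S : Subgroup Γ) := by
    rw [← Subgroup.relIndex_top_right, ← hsup, Subgroup.relIndex_sup_left]
  have hSH : H ⊓ (S : Subgroup Γ) ≠ (S : Subgroup Γ) := by
    intro h
    apply hH
    rw [← hsup]
    exact (sup_eq_left.2 (inf_eq_right.1 h)).symm
  have hL := L_grp p V hVc hV1 hVp (H ⊓ (S : Subgroup Γ)) (S : Subgroup Γ) inf_le_right S.2 hSH
    (by
      intro b hbS hb
      have hbH : b ∉ H := fun h => hb ⟨h, hbS⟩
      refine ⟨hout b hbH, ?_⟩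
      intro v hv hc
      have hvb : v * b ∉ H := by
        intro h
        apply hbH
        have := H.mul_mem (H.inv_mem (hVH hv)) h
        simpa using this
      have h1 := hout _ hvb
      rw [Commute.mul_pow hc.symm, hout b hbH, mul_one] at h1
      have h2 : orderOf v ∣ p := orderOf_dvd_of_pow_eq_one h1
      have h3 : orderOf v ∣ Nat.card V := Subgroup.orderOf_dvd_natCard V hv
      exact orderOf_eq_one_iff.1 (Nat.eq_one_of_dvd_coprimes hVp h3 h2))
  rw [hrel, ← Subgroup.inf_relIndex_right]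
  exact hL.2

/-- The Hughes–Thompson theorem: a proper Hughes subgroup of a finite group that is not a `p`-group
has index `p`. -/
theorem ht_index {Γ : Type*} [Group Γ] [Finite Γ] (p : ℕ) [hp : Fact p.Prime]
    (hG : ¬ IsPGroup p Γ) (hH : Subgroup.closure {g : Γ | g ^ p ≠ 1} ≠ ⊤) :
    (Subgroup.closure {g : Γ | g ^ p ≠ 1}).Normal ∧
      (Subgroup.closure {g : Γ | g ^ p ≠ 1}).index = p := by
  have hHn : (Subgroup.closure {g : Γ | g ^ p ≠ 1}).Normal := by
    refine ⟨fun n hn g => ?_⟩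
    have h1 : (Subgroup.closure {g : Γ | g ^ p ≠ 1}).map (MulAut.conj g).toMonoidHom
        ≤ Subgroup.closure {g : Γ | g ^ p ≠ 1} := by
      rw [MonoidHom.map_closure, Subgroup.closure_le]
      rintro _ ⟨x, hx, rfl⟩
      apply Subgroup.subset_closure
      show (g * x * g⁻¹) ^ p ≠ 1
      rw [conj_pow]
      intro h
      apply hx
      have h2 : x ^ p = g⁻¹ * (g * x ^ p * g⁻¹) * g := by group
      rw [h2, h]; group
    exact h1 (Subgroup.mem_map_of_mem _ hn)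
  refine ⟨hHn, ?_⟩
  set H := Subgroup.closure {g : Γ | g ^ p ≠ 1} with hHdef
  have hout : ∀ g : Γ, g ∉ H → g ^ p = 1 := by
    intro g hg
    by_contra h
    exact hg (Subgroup.subset_closure h)
  obtain ⟨q, hq, hqd, hqp⟩ : ∃ q, q.Prime ∧ q ∣ Nat.card Γ ∧ q ≠ p := by
    by_contra hcon
    apply hG
    have := Nat.eq_prime_pow_of_unique_prime_dvd (Nat.card_pos (α := Γ)).ne'
      (fun {d} hd hdd => by by_contra h; exact hcon ⟨d, hd, hdd, h⟩)
    exact IsPGroup.of_card this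
  haveI : Fact q.Prime := ⟨hq⟩
  have hqH : q ∣ Nat.card H := by
    obtain ⟨z, hz⟩ := exists_prime_orderOf_dvd_card' q hqd
    have hzH : z ∈ H := by
      by_contra h
      have h1 := hout z h
      have h2 : orderOf z ∣ p := orderOf_dvd_of_pow_eq_one h1
      rw [hz] at h2
      exact hqp ((Nat.prime_dvd_prime_iff_eq hq hp.out).1 h2)
    rw [← hz]
    exact Subgroup.orderOf_dvd_natCard H hzH
  obtain ⟨Q₁⟩ : Nonempty (Sylow q H) := inferInstance
  set Q : Subgroup Γ := (Q₁ : Subgroup H).map H.subtype with hQ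
  have hfrat : Subgroup.normalizer (Q : Set Γ) ⊔ H = ⊤ := Sylow.normalizer_sup_eq_top Q₁
  have hQq : IsPGroup q Q := Q₁.2.map H.subtype
  have hQ1 : Q ≠ ⊥ := by
    rw [hQ, Ne, Subgroup.map_eq_bot_iff_of_injective _ H.subtype_injective]
    exact Q₁.ne_bot_of_dvd_card hqH
  have hQH : Q ≤ H := Subgroup.map_subtype_le _
  set N := Subgroup.normalizer (Q : Set Γ) with hN
  set Q' : Subgroup N := Q.subgroupOf N with hQ'
  have hQ'n : Q'.Normal := Subgroup.normal_in_normalizer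
  have hQ'q : IsPGroup q Q' := hQq.comap_subtype
  have hQ'1 : Q' ≠ ⊥ := by
    obtain ⟨x, hx, hx1⟩ := (Subgroup.ne_bot_iff_exists_ne_one).1 hQ1 |> fun ⟨x, hx⟩ =>
      (⟨(x : Γ), x.2, fun h => hx (Subtype.ext h)⟩ : ∃ x : Γ, x ∈ Q ∧ x ≠ 1)
    intro hbot
    have hmem : (⟨x, Subgroup.le_normalizer hx⟩ : N) ∈ Q' := by
      rw [hQ', Subgroup.mem_subgroupOf]; exact hx
    rw [hbot, Subgroup.mem_bot] at hmem
    exact hx1 (congrArg Subtype.val hmem)
  haveI := hHn.subgroupOf N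
  have hV1 := omZ_ne_bot q Q' hQ'q hQ'1
  have hVp : (Nat.card (omZ Q' q)).Coprime p := by
    obtain ⟨k, hk⟩ := IsPGroup.iff_card.1 (omZ_isPGroup Q' q)
    rw [hk]
    exact Nat.Coprime.pow_left _ ((Nat.coprime_primes hq hp.out).2 hqp)
  have hcore := ht_core p (H.subgroupOf N)
    (by
      intro h
      rw [Subgroup.subgroupOf_eq_top] at h
      apply hH
      rw [← hfrat]
      exact (sup_eq_right.2 h).symm)
    (by
      intro g hg
      have hg' : (g : Γ) ∉ H := fun h => hg (by rw [Subgroup.mem_subgroupOf]; exact h)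
      exact Subtype.ext (by simpa using hout g hg'))
    (omZ Q' q)
    (by
      intro x hx
      have h1 : x ∈ Q' := omZ_le Q' q hx
      rw [hQ', Subgroup.mem_subgroupOf] at h1
      rw [Subgroup.mem_subgroupOf]
      exact hQH h1)
    (omZ_comm Q' q) hV1 hVp
  have h2 : H.relIndex N = p := hcore
  rw [← Subgroup.relIndex_top_right, ← hfrat, sup_comm, Subgroup.relIndex_sup_left]
  exact h2

end Cfsg.Agent.Lib.Helper17.HT2
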