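import Mathlib
import Cfsg.Prelude.Def_IsolatedElements

set_option autoImplicit false

namespace Cfsg.Agent.Lib.Helper17.Iso

variable {G : Type*} [Group G]

theorem isIsolated_conj {x : G} (hiso : Cfsg.IsIsolated x) (g : G) :
    Cfsg.IsIsolated (g * x * g⁻¹) := by
  intro h hc
  have h1 : Commute x ((g⁻¹ * h * g) * x * (g⁻¹ * h * g)⁻¹) := by
    have e : (g⁻¹ * h * g) * x * (g⁻¹ * h * g)⁻¹ = g⁻¹ * (h * (g * x * g⁻¹) * h⁻¹) * g := by group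
    have e2 : x = g⁻¹ * (g * x * g⁻¹) * g := by group
    rw [e]
    nth_rewrite 1 [e2]
    have hc' : (g * x * g⁻¹) * (h * (g * x * g⁻¹) * h⁻¹) = (h * (g * x * g⁻¹) * h⁻¹) * (g * x * g⁻¹) := hc
    show g⁻¹ * (g * x * g⁻¹) * g * (g⁻¹ * (h * (g * x * g⁻¹) * h⁻¹) * g) =
      g⁻¹ * (h * (g * x * g⁻¹) * h⁻¹) * g * (g⁻¹ * (g * x * g⁻¹) * g)
    calc g⁻¹ * (g * x * g⁻¹) * g * (g⁻¹ * (h * (g * x * g⁻¹) * h⁻¹) * g)
        = g⁻¹ * ((g * x * g⁻¹) * (h * (g * x * g⁻¹) * h⁻¹)) * g := by group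
      _ = g⁻¹ * ((h * (g * x * g⁻¹) * h⁻¹) * (g * x * g⁻¹)) * g := by rw [hc']
      _ = _ := by group
  have h2 := hiso _ h1
  calc h * (g * x * g⁻¹) * h⁻¹ = g * ((g⁻¹ * h * g) * x * (g⁻¹ * h * g)⁻¹) * g⁻¹ := by group
    _ = g * x * g⁻¹ := by rw [h2]

/-- An isolated element of a `p`-subgroup is central in it. -/
theorem conj_eq_of_mem_pGroup [Finite G] {p : ℕ} [Fact p.Prime] {x : G} (hiso : Cfsg.IsIsolated x)
    {R : Subgroup G} (hR : IsPGroup p ↥R) (hx : x ∈ R) {r : G} (hr : r ∈ R) : r * x * r⁻¹ = x := by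
  classical
  have hnil : Group.IsNilpotent ↥R := hR.isNilpotent
  have hCtop : Subgroup.centralizer ({(⟨x, hx⟩ : ↥R)} : Set ↥R) = ⊤ := by
    by_contra hne
    have hlt : Subgroup.centralizer ({(⟨x, hx⟩ : ↥R)} : Set ↥R) < ⊤ := lt_top_iff_ne_top.2 hne
    have hnc := Group.normalizerCondition_of_isNilpotent (G := ↥R) _ hlt
    obtain ⟨n, hn, hnC⟩ := SetLike.exists_of_lt hnc
    apply hnC
    have hxC : (⟨x, hx⟩ : ↥R) ∈ Subgroup.centralizer ({(⟨x, hx⟩ : ↥R)} : Set ↥R) := by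
      rw [Subgroup.mem_centralizer_iff]
      intro h hh
      rw [Set.mem_singleton_iff] at hh
      rw [hh]
    have h1 := (Subgroup.mem_normalizer_iff.1 hn ⟨x, hx⟩).1 hxC
    have h2 := Subgroup.mem_centralizer_iff.1 h1 ⟨x, hx⟩ rfl
    have h2' : x * ((n : G) * x * (n : G)⁻¹) = ((n : G) * x * (n : G)⁻¹) * x := by
      have := congrArg Subtype.val h2
      simpa using this
    have h3 : (n : G) * x * (n : G)⁻¹ = x := hiso n h2'
    rw [Subgroup.mem_centralizer_iff]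
    intro h hh
    rw [Set.mem_singleton_iff] at hh
    rw [hh]
    apply Subtype.ext
    show x * (n : G) = (n : G) * x
    calc x * (n : G) = ((n : G) * x * (n : G)⁻¹) * (n : G) := by rw [h3]
      _ = (n : G) * x := by group
  have hmem : (⟨r, hr⟩ : ↥R) ∈ Subgroup.centralizer ({(⟨x, hx⟩ : ↥R)} : Set ↥R) := by
    rw [hCtop]; trivial
  have h4 := Subgroup.mem_centralizer_iff.1 hmem ⟨x, hx⟩ rfl
  have h5 : x * r = r * x := by
    have := congrArg Subtype.val h4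
    simpa using this
  rw [← h5]; group

theorem isPGroup_zpowers {p : ℕ} [Fact p.Prime] {x : G} (hx : ∃ k : ℕ, orderOf x = p ^ k) :
    IsPGroup p ↥(Subgroup.zpowers x) := by
  obtain ⟨k, hk⟩ := hx
  exact IsPGroup.of_card (n := k) (by rw [Nat.card_zpowers, hk])

/-- Two conjugate isolated `p`-elements lying in a subgroup `H` are conjugate in `H`. -/
theorem exists_conj_in_subgroup [Finite G] {p : ℕ} [Fact p.Prime] {x : G}
    (hiso : Cfsg.IsIsolated x) (hxp : ∃ k : ℕ, orderOf x = p ^ k) {g : G} {H : Subgroup G}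
    (hx : x ∈ H) (hx₁ : g * x * g⁻¹ ∈ H) : ∃ c ∈ H, c * x * c⁻¹ = g * x * g⁻¹ := by
  classical
  have hiso₁ := isIsolated_conj hiso g
  have ho : ∃ k : ℕ, orderOf (⟨x, hx⟩ : ↥H) = p ^ k := by
    obtain ⟨k, hk⟩ := hxp
    exact ⟨k, by rw [← hk, ← Subgroup.orderOf_coe]⟩
  have ho₁ : ∃ k : ℕ, orderOf (⟨g * x * g⁻¹, hx₁⟩ : ↥H) = p ^ k := by
    obtain ⟨k, hk⟩ := hxp
    refine ⟨k, ?_⟩
    rw [← hk, ← Subgroup.orderOf_coe]
    show orderOf (g * x * g⁻¹) = orderOf x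
    have hs : SemiconjBy g x (g * x * g⁻¹) := by
      show g * x = g * x * g⁻¹ * g
      group
    exact (hs.orderOf_eq g).symm
  obtain ⟨S₁, hS₁⟩ := (isPGroup_zpowers ho).exists_le_sylow
  obtain ⟨S₂, hS₂⟩ := (isPGroup_zpowers ho₁).exists_le_sylow
  obtain ⟨c, hc⟩ := MulAction.exists_smul_eq ↥H S₁ S₂
  have hm1 : c * (⟨x, hx⟩ : ↥H) * c⁻¹ ∈ (S₂ : Subgroup ↥H) := by
    rw [← hc, Sylow.coe_subgroup_smul, Subgroup.mem_smul_pointwise_iff_exists]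
    exact ⟨⟨x, hx⟩, hS₁ (Subgroup.mem_zpowers _), rfl⟩
  have hm2 : (⟨g * x * g⁻¹, hx₁⟩ : ↥H) ∈ (S₂ : Subgroup ↥H) := hS₂ (Subgroup.mem_zpowers _)
  have hR : IsPGroup p ↥((S₂ : Subgroup ↥H).map H.subtype) := S₂.2.map H.subtype
  have hr1 : (c : G) * x * (c : G)⁻¹ ∈ (S₂ : Subgroup ↥H).map H.subtype :=
    Subgroup.mem_map.2 ⟨_, hm1, rfl⟩
  have hr2 : g * x * g⁻¹ ∈ (S₂ : Subgroup ↥H).map H.subtype :=
    Subgroup.mem_map.2 ⟨_, hm2, rfl⟩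
  have h1 := conj_eq_of_mem_pGroup hiso₁ hR hr2 hr1
  -- so x₁ commutes with c x c⁻¹ = (c g⁻¹) x₁ (c g⁻¹)⁻¹
  have e : (c : G) * x * (c : G)⁻¹ = ((c : G) * g⁻¹) * (g * x * g⁻¹) * ((c : G) * g⁻¹)⁻¹ := by group
  have hcomm : Commute (g * x * g⁻¹) (((c : G) * g⁻¹) * (g * x * g⁻¹) * ((c : G) * g⁻¹)⁻¹) := by
    rw [← e]
    show g * x * g⁻¹ * ((c : G) * x * (c : G)⁻¹) = (c : G) * x * (c : G)⁻¹ * (g * x * g⁻¹)
    calc g * x * g⁻¹ * ((c : G) * x * (c : G)⁻¹)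
        = ((c : G) * x * (c : G)⁻¹ * (g * x * g⁻¹) * ((c : G) * x * (c : G)⁻¹)⁻¹) *
            ((c : G) * x * (c : G)⁻¹) := by rw [h1]
      _ = _ := by group
  have h2 := hiso₁ _ hcomm
  exact ⟨c, c.2, by rw [e, h2]⟩

end Cfsg.Agent.Lib.Helper17.Iso
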