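import Mathlib

/-!
A `p'`-element normalizing a `p`-subgroup `Q` (`p` odd) and centralizing all elements `x ∈ Q`
with `x ^ p = 1` centralizes `Q`  (Gorenstein 5.3.10 / Huppert IV.5.12).
Also: class-2 power formula.
-/

set_option autoImplicit false

namespace Cfsg.Agent.Lib.Helper17.OmegaAct

open scoped commutatorElement

section aux

variable {G : Type*} [Group G]

/-- class-2 commutation of a power past an element -/
theorem pow_mul_comm_class2 (a b c : G) (hba : b * a = c * a * b) (hcb : c * b = b * c) (n : ℕ) :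
    b ^ n * a = c ^ n * a * b ^ n := by
  induction n with
  | zero => simp
  | succ n ih =>
    have hcnb : c ^ n * b = b * c ^ n := (Commute.pow_left (show Commute c b from hcb) n).eq
    calc b ^ (n + 1) * a = b * (b ^ n * a) := by rw [pow_succ', mul_assoc]
      _ = b * (c ^ n * a * b ^ n) := by rw [ih]
      _ = (b * c ^ n) * a * b ^ n := by simp only [mul_assoc]
      _ = (c ^ n * b) * a * b ^ n := by rw [hcnb]
      _ = c ^ n * (b * a) * b ^ n := by simp only [mul_assoc]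
      _ = c ^ n * (c * a * b) * b ^ n := by rw [hba]
      _ = c ^ (n + 1) * a * b ^ (n + 1) := by rw [pow_succ, pow_succ']; simp only [mul_assoc]

/-- class-2 power formula: `(ab)^n = c^(n choose 2) a^n b^n` where `ba = cab`, `c` central. -/
theorem mul_pow_class2 (a b c : G) (hba : b * a = c * a * b) (hca : c * a = a * c)
    (hcb : c * b = b * c) (n : ℕ) :
    (a * b) ^ n = c ^ (n.choose 2) * a ^ n * b ^ n := by
  induction n with
  | zero => simp
  | succ n ih =>
    have h1 := pow_mul_comm_class2 a b c hba hcb n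
    have hcan : c ^ n * a ^ n = a ^ n * c ^ n :=
      (Commute.pow_pow (show Commute c a from hca) n n).eq
    have hch : (n + 1).choose 2 = n.choose 2 + n := by
      rw [Nat.choose_succ_succ, Nat.choose_one_right]; ring
    calc (a * b) ^ (n + 1) = (a * b) ^ n * (a * b) := pow_succ _ _
      _ = c ^ (n.choose 2) * a ^ n * b ^ n * (a * b) := by rw [ih]
      _ = c ^ (n.choose 2) * a ^ n * (b ^ n * a) * b := by simp only [mul_assoc]
      _ = c ^ (n.choose 2) * a ^ n * (c ^ n * a * b ^ n) * b := by rw [h1]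
      _ = c ^ (n.choose 2) * (a ^ n * c ^ n) * a * b ^ n * b := by simp only [mul_assoc]
      _ = c ^ (n.choose 2) * (c ^ n * a ^ n) * a * b ^ n * b := by rw [hcan]
      _ = c ^ ((n + 1).choose 2) * a ^ (n + 1) * b ^ (n + 1) := by
        rw [hch, pow_add, pow_succ, pow_succ]; simp only [mul_assoc]

/-- for `p` odd: `(ab)^p = a^p b^p` when `c = [b,a]` is central of order dividing `p`. -/
theorem mul_pow_prime_class2 {p : ℕ} (hp : p.Prime) (hp2 : p ≠ 2) (a b c : G)
    (hba : b * a = c * a * b) (hca : c * a = a * c) (hcb : c * b = b * c) (hc : c ^ p = 1) :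
    (a * b) ^ p = a ^ p * b ^ p := by
  rw [mul_pow_class2 a b c hba hca hcb p]
  have h2 : 2 < p := lt_of_le_of_ne hp.two_le (Ne.symm hp2)
  obtain ⟨m, hm⟩ := hp.dvd_choose_self (by norm_num : (2 : ℕ) ≠ 0) h2
  rw [hm, pow_mul, hc, one_pow, one_mul]

/-- coprime action: if `g` (of order prime to `p`) normalizes the `p`-group `Q` and commutes with
`x⁻¹ g⁻¹ x g` for some `x ∈ Q`, then `g` commutes with `x`. -/
theorem comm_of_comm_commutator {p : ℕ} [Fact p.Prime] {Q : Subgroup G} (hQ : IsPGroup p Q)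
    {g : G} (hg : g ∈ Subgroup.normalizer (Q : Set G)) (hco : (orderOf g).Coprime p)
    {x : G} (hx : x ∈ Q) (hc : g * (x⁻¹ * g⁻¹ * x * g) = (x⁻¹ * g⁻¹ * x * g) * g) :
    g * x = x * g := by
  set c := x⁻¹ * g⁻¹ * x * g with hcdef
  have hgi : g⁻¹ ∈ Subgroup.normalizer (Q : Set G) := Subgroup.inv_mem _ hg
  have hcQ : c ∈ Q := by
    have h1 : g⁻¹ * x * g⁻¹⁻¹ ∈ Q := (Subgroup.mem_normalizer_iff.1 hgi x).1 hx
    rw [inv_inv] at h1
    have : c = x⁻¹ * (g⁻¹ * x * g) := by rw [hcdef]; group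
    rw [this]
    exact Q.mul_mem (Q.inv_mem hx) h1
  have hpow : ∀ n : ℕ, g⁻¹ ^ n * x * g ^ n = x * c ^ n := by
    intro n
    induction n with
    | zero => simp
    | succ n ih =>
      have hcn : g * c ^ n = c ^ n * g := (Commute.pow_right (show Commute g c from hc) n).eq
      calc g⁻¹ ^ (n + 1) * x * g ^ (n + 1) = g⁻¹ * (g⁻¹ ^ n * x * g ^ n) * g := by
            rw [pow_succ', pow_succ]; simp only [mul_assoc]
        _ = g⁻¹ * (x * c ^ n) * g := by rw [ih]
        _ = g⁻¹ * x * (c ^ n * g) := by simp only [mul_assoc]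
        _ = g⁻¹ * x * (g * c ^ n) := by rw [hcn]
        _ = x * (x⁻¹ * g⁻¹ * x * g) * c ^ n := by group
        _ = x * c ^ (n + 1) := by rw [← hcdef, pow_succ', mul_assoc]
  have h1 := hpow (orderOf g)
  rw [inv_pow, pow_orderOf_eq_one, inv_one, one_mul, mul_one] at h1
  have h2 : c ^ orderOf g = 1 := by
    have : x * c ^ orderOf g = x * 1 := by rw [← h1, mul_one]
    exact mul_left_cancel this
  have h3 : orderOf c ∣ orderOf g := orderOf_dvd_of_pow_eq_one h2
  obtain ⟨k, hk⟩ := hQ ⟨c, hcQ⟩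
  have hk' : c ^ p ^ k = 1 := by
    have := congrArg Subtype.val hk
    simpa using this
  have h4 : orderOf c ∣ p ^ k := orderOf_dvd_of_pow_eq_one hk'
  have h5 : (orderOf c).Coprime (p ^ k) :=
    Nat.Coprime.pow_right k (Nat.Coprime.coprime_dvd_left h3 hco)
  have h6 : orderOf c = 1 := Nat.Coprime.eq_one_of_dvd h5 h4
  have h7 : c = 1 := orderOf_eq_one_iff.1 h6
  have : x⁻¹ * g⁻¹ * x * g = 1 := h7
  calc g * x = x * g * (x⁻¹ * g⁻¹ * x * g)⁻¹ := by group
    _ = x * g := by rw [this, inv_one, mul_one]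

/-- the subgroup generated by `p`-th powers and commutators of `Q`. -/
def powComm (p : ℕ) (Q : Subgroup G) : Subgroup G :=
  Subgroup.closure ({y | ∃ x ∈ Q, y = x ^ p} ∪ {y | ∃ a ∈ Q, ∃ b ∈ Q, y = ⁅a, b⁆})

theorem pow_mem_powComm (p : ℕ) {Q : Subgroup G} {x : G} (hx : x ∈ Q) : x ^ p ∈ powComm p Q :=
  Subgroup.subset_closure (Or.inl ⟨x, hx, rfl⟩)

theorem comm_mem_powComm (p : ℕ) {Q : Subgroup G} {a b : G} (ha : a ∈ Q) (hb : b ∈ Q) :
    ⁅a, b⁆ ∈ powComm p Q :=
  Subgroup.subset_closure (Or.inr ⟨a, ha, b, hb, rfl⟩)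

theorem powComm_le (p : ℕ) (Q : Subgroup G) : powComm p Q ≤ Q := by
  unfold powComm
  rw [Subgroup.closure_le]
  rintro y (⟨x, hx, rfl⟩ | ⟨a, ha, b, hb, rfl⟩)
  · exact Q.pow_mem hx p
  · exact Q.mul_mem (Q.mul_mem (Q.mul_mem ha hb) (Q.inv_mem ha)) (Q.inv_mem hb)

theorem conj_mem_powComm (p : ℕ) {Q : Subgroup G} {h : G}
    (hh : ∀ x ∈ Q, h * x * h⁻¹ ∈ Q) {f : G} (hf : f ∈ powComm p Q) :
    h * f * h⁻¹ ∈ powComm p Q := by
  unfold powComm at hf
  induction hf using Subgroup.closure_induction with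
  | mem y hy =>
    rcases hy with ⟨x, hx, rfl⟩ | ⟨a, ha, b, hb, rfl⟩
    · rw [← conj_pow]
      exact pow_mem_powComm p (hh x hx)
    · have : h * ⁅a, b⁆ * h⁻¹ = ⁅h * a * h⁻¹, h * b * h⁻¹⁆ := by
        simp only [commutatorElement_def]; group
      rw [this]
      exact comm_mem_powComm p (hh a ha) (hh b hb)
  | one => simp
  | mul a b _ _ iha ihb =>
    have : h * (a * b) * h⁻¹ = (h * a * h⁻¹) * (h * b * h⁻¹) := by group
    rw [this]; exact Subgroup.mul_mem _ iha ihb
  | inv a _ iha =>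
    have : h * a⁻¹ * h⁻¹ = (h * a * h⁻¹)⁻¹ := by group
    rw [this]; exact Subgroup.inv_mem _ iha

/-- a nontrivial finite `p`-group has a proper subgroup containing all `p`-th powers and
commutators. -/
theorem exists_proper_pow_comm {P : Type*} [Group P] [Finite P] [Nontrivial P] {p : ℕ}
    [hp : Fact p.Prime] (hP : IsPGroup p P) :
    ∃ M : Subgroup P, M ≠ ⊤ ∧ (∀ x : P, x ^ p ∈ M) ∧ ∀ a b : P, ⁅a, b⁆ ∈ M := by
  obtain ⟨n, hn⟩ := IsPGroup.iff_card.1 hP
  have hn0 : n ≠ 0 := by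
    rintro rfl
    rw [pow_zero] at hn
    have : Subsingleton P := (Nat.card_eq_one_iff_unique.1 hn).1
    exact not_subsingleton P this
  obtain ⟨k, rfl⟩ := Nat.exists_eq_succ_of_ne_zero hn0
  obtain ⟨M, hM⟩ := Sylow.exists_subgroup_card_pow_prime_of_le_card hp.out hP
    (n := k) (by rw [hn]; exact Nat.pow_le_pow_right hp.out.pos (Nat.le_succ k))
  have hidx : M.index = p := by
    have h1 := M.card_mul_index
    rw [hM, hn, pow_succ] at h1
    exact Nat.eq_of_mul_eq_mul_left (pow_pos hp.out.pos k) h1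
  have hnorm : M.Normal := by
    apply Subgroup.normal_of_index_eq_minFac_card
    rw [hidx, hn, Nat.Prime.pow_minFac hp.out (Nat.succ_ne_zero k)]
  refine ⟨M, ?_, ?_, ?_⟩
  · intro h
    rw [h, Subgroup.index_top] at hidx
    exact hp.out.one_lt.ne hidx
  · intro x
    have := M.pow_index_mem x
    rwa [hidx] at this
  · intro a b
    have hcard : Nat.card (P ⧸ M) = p := by rw [← hidx]; rfl
    have hcyc : IsCyclic (P ⧸ M) := isCyclic_of_prime_card hcard
    have hcomm : IsMulCommutative (P ⧸ M) := hcyc.isMulCommutative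
    have := Subgroup.Normal.quotient_commutative_iff_commutator_le.1 hcomm
    exact this (Subgroup.commutator_mem_commutator (Subgroup.mem_top a) (Subgroup.mem_top b))

theorem powComm_card_lt [Finite G] {p : ℕ} [Fact p.Prime] {Q : Subgroup G} (hQ : IsPGroup p Q)
    (hne : Q ≠ ⊥) : Nat.card (powComm p Q) < Nat.card Q := by
  have : Nontrivial Q := (Subgroup.nontrivial_iff_ne_bot Q).2 hne
  obtain ⟨M, hM, hpow, hcomm⟩ := exists_proper_pow_comm (P := ↥Q) hQ
  have h1 : powComm p Q ≤ M.map Q.subtype := by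
    unfold powComm
    rw [Subgroup.closure_le]
    rintro y (⟨x, hx, rfl⟩ | ⟨a, ha, b, hb, rfl⟩)
    · exact Subgroup.mem_map.2 ⟨(⟨x, hx⟩ : ↥Q) ^ p, hpow ⟨x, hx⟩, rfl⟩
    · exact Subgroup.mem_map.2 ⟨⁅(⟨a, ha⟩ : ↥Q), (⟨b, hb⟩ : ↥Q)⁆, hcomm ⟨a, ha⟩ ⟨b, hb⟩, rfl⟩
  by_contra hlt
  push Not at hlt
  have h2 : powComm p Q = Q := Subgroup.eq_of_le_of_card_ge (powComm_le p Q) hlt
  apply hM
  rw [eq_top_iff]
  intro x _
  have hx : (x : G) ∈ M.map Q.subtype := h1 (by rw [h2]; exact x.2)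
  obtain ⟨y, hy, hyx⟩ := hx
  have : y = x := Subtype.ext hyx
  rwa [← this]

theorem commutator_comm_of_comm {g x f : G} (h1 : g * f = f * g)
    (h2 : g * (x * f * x⁻¹) = (x * f * x⁻¹) * g) :
    f * (x⁻¹ * g⁻¹ * x * g) = (x⁻¹ * g⁻¹ * x * g) * f := by
  have h2' : g⁻¹ * (x * f * x⁻¹) = (x * f * x⁻¹) * g⁻¹ :=
    (Commute.inv_left (show Commute g (x * f * x⁻¹) from h2)).eq
  calc f * (x⁻¹ * g⁻¹ * x * g) = x⁻¹ * ((x * f * x⁻¹) * g⁻¹) * x * g := by group
    _ = x⁻¹ * (g⁻¹ * (x * f * x⁻¹)) * x * g := by rw [h2']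
    _ = x⁻¹ * g⁻¹ * x * (f * g) := by group
    _ = x⁻¹ * g⁻¹ * x * (g * f) := by rw [h1]
    _ = (x⁻¹ * g⁻¹ * x * g) * f := by group

end aux

variable {G : Type*} [Group G] [Finite G] {p : ℕ} [Fact p.Prime]

/-- **Gorenstein 5.3.10**: for `p` odd, an element `g` of order prime to `p` normalizing the
`p`-subgroup `Q` and commuting with all `x ∈ Q` with `x ^ p = 1` centralizes `Q`. -/
theorem centralizes_of_centralizes_omega (hp : p ≠ 2) {g : G} (hco : (orderOf g).Coprime p) :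
    ∀ (n : ℕ) (Q : Subgroup G), Nat.card Q = n → IsPGroup p Q →
      g ∈ Subgroup.normalizer (Q : Set G) → (∀ x ∈ Q, x ^ p = 1 → g * x = x * g) →
      ∀ x ∈ Q, g * x = x * g := by
  intro n
  induction n using Nat.strong_induction_on with
  | _ n ih =>
  intro Q hn hQ hg hΩ
  by_cases hne : Q = ⊥
  · intro x hx
    rw [hne, Subgroup.mem_bot] at hx
    rw [hx, mul_one, one_mul]
  have hpp : p.Prime := Fact.out
  have hgQ : ∀ x ∈ Q, g * x * g⁻¹ ∈ Q := fun x hx => (Subgroup.mem_normalizer_iff.1 hg x).1 hx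
  have hgQ' : ∀ x ∈ Q, g⁻¹ * x * g ∈ Q := fun x hx => by
    have := (Subgroup.mem_normalizer_iff.1 (Subgroup.inv_mem _ hg) x).1 hx
    rwa [inv_inv] at this
  -- F
  have hFle := powComm_le p Q
  have hFlt := powComm_card_lt hQ hne
  have hgF : g ∈ Subgroup.normalizer (powComm p Q : Set G) := by
    rw [Subgroup.mem_normalizer_iff]
    intro h
    refine ⟨fun hh => conj_mem_powComm p hgQ hh, fun hh => ?_⟩
    have := conj_mem_powComm p (h := g⁻¹) (fun x hx => by rw [inv_inv]; exact hgQ' x hx) hh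
    have e : g⁻¹ * (g * h * g⁻¹) * g⁻¹⁻¹ = h := by group
    rwa [e] at this
  have hF : ∀ f ∈ powComm p Q, g * f = f * g :=
    ih _ (hn ▸ hFlt) (powComm p Q) rfl (hQ.to_le hFle) hgF (fun x hx => hΩ x (hFle hx))
  -- commutators centralize F
  have hcF : ∀ x ∈ Q, ∀ f ∈ powComm p Q, f * (x⁻¹ * g⁻¹ * x * g) = (x⁻¹ * g⁻¹ * x * g) * f := by
    intro x hx f hf
    refine commutator_comm_of_comm (hF f hf) (hF _ ?_)
    exact conj_mem_powComm p (fun y hy => Q.mul_mem (Q.mul_mem hx hy) (Q.inv_mem hx)) hf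
  have hcQ : ∀ x ∈ Q, x⁻¹ * g⁻¹ * x * g ∈ Q := by
    intro x hx
    have : x⁻¹ * g⁻¹ * x * g = x⁻¹ * (g⁻¹ * x * g) := by group
    rw [this]
    exact Q.mul_mem (Q.inv_mem hx) (hgQ' x hx)
  by_cases hC : Q ≤ Subgroup.centralizer (powComm p Q : Set G)
  · -- class 2 case
    intro x hx
    apply comm_of_comm_commutator hQ hg hco hx
    apply hΩ _ (hcQ x hx)
    have hb : g⁻¹ * x * g ∈ Q := hgQ' x hx
    have ha : x⁻¹ ∈ Q := Q.inv_mem hx
    have hcomm : ∀ y ∈ Q, ∀ f ∈ powComm p Q, f * y = y * f := fun y hy f hf =>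
      Subgroup.mem_centralizer_iff.1 (hC hy) f hf
    set a := x⁻¹ with hadef
    set b := g⁻¹ * x * g with hbdef
    have hcm : ⁅b, a⁆ ∈ powComm p Q := comm_mem_powComm p hb ha
    have hba : b * a = ⁅b, a⁆ * a * b := by simp only [commutatorElement_def]; group
    have hca : ⁅b, a⁆ * a = a * ⁅b, a⁆ := hcomm a ha _ hcm
    have hcb : ⁅b, a⁆ * b = b * ⁅b, a⁆ := hcomm b hb _ hcm
    have hcp : ⁅b, a⁆ ^ p = 1 := by
      have h1 := pow_mul_comm_class2 a b ⁅b, a⁆ hba hcb p
      have h2 : b ^ p * a = a * b ^ p := hcomm a ha _ (pow_mem_powComm p hb)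
      rw [h2, mul_assoc] at h1
      have h3 : 1 * (a * b ^ p) = ⁅b, a⁆ ^ p * (a * b ^ p) := by rw [one_mul]; exact h1
      exact (mul_right_cancel h3).symm
    have hmain := mul_pow_prime_class2 hpp hp a b ⁅b, a⁆ hba hca hcb hcp
    have hbp : b ^ p = x ^ p := by
      have h1 : b ^ p = g⁻¹ * x ^ p * g := by
        rw [hbdef]
        have := conj_pow (a := g⁻¹) (b := x) (i := p)
        rw [inv_inv] at this
        exact this
      rw [h1]
      have h2 := hF _ (pow_mem_powComm p hx)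
      rw [mul_assoc, ← h2]; group
    have he : x⁻¹ * g⁻¹ * x * g = a * b := by rw [hadef, hbdef]; group
    rw [he, hmain, hbp, hadef, inv_pow, inv_mul_cancel]
  · -- C < Q
    set C := Q ⊓ Subgroup.centralizer (powComm p Q : Set G) with hCdef
    have hCle : C ≤ Q := inf_le_left
    have hClt : Nat.card C < Nat.card Q := by
      by_contra hlt
      push Not at hlt
      have h2 : C = Q := Subgroup.eq_of_le_of_card_ge hCle hlt
      apply hC
      intro y hy
      have hyC : y ∈ C := by rw [h2]; exact hy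
      exact (Subgroup.mem_inf.1 hyC).2
    have hgC : g ∈ Subgroup.normalizer (C : Set G) := by
      have key : ∀ t : G, (∀ x ∈ Q, t * x * t⁻¹ ∈ Q) → (∀ f ∈ powComm p Q, t * f = f * t) →
          ∀ h ∈ C, t * h * t⁻¹ ∈ C := by
        intro t ht1 ht2 h hh
        refine Subgroup.mem_inf.2 ⟨ht1 h hh.1, ?_⟩
        rw [Subgroup.mem_centralizer_iff]
        intro f hf
        have h1 : f * h = h * f := Subgroup.mem_centralizer_iff.1 hh.2 f hf
        have h2 := ht2 f hf
        have h2' : t⁻¹ * f = f * t⁻¹ := (Commute.inv_left (show Commute t f from h2)).eq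
        calc f * (t * h * t⁻¹) = (f * t) * h * t⁻¹ := by group
          _ = (t * f) * h * t⁻¹ := by rw [h2]
          _ = t * (f * h) * t⁻¹ := by group
          _ = t * (h * f) * t⁻¹ := by rw [h1]
          _ = t * h * (f * t⁻¹) := by group
          _ = t * h * (t⁻¹ * f) := by rw [h2']
          _ = t * h * t⁻¹ * f := by group
      rw [Subgroup.mem_normalizer_iff]
      intro h
      refine ⟨fun hh => key g hgQ hF h hh, fun hh => ?_⟩
      have := key g⁻¹ (fun x hx => by rw [inv_inv]; exact hgQ' x hx)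
        (fun f hf => (Commute.inv_left (show Commute g f from hF f hf)).eq) _ hh
      have e : g⁻¹ * (g * h * g⁻¹) * g⁻¹⁻¹ = h := by group
      rwa [e] at this
    have hCc : ∀ c ∈ C, g * c = c * g :=
      ih _ (hn ▸ hClt) C rfl (hQ.to_le hCle) hgC (fun x hx => hΩ x (hCle hx))
    intro x hx
    apply comm_of_comm_commutator hQ hg hco hx
    apply hCc
    refine Subgroup.mem_inf.2 ⟨hcQ x hx, ?_⟩
    rw [Subgroup.mem_centralizer_iff]
    exact hcF x hx

/-- subgroup-centralizer form. -/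
theorem mem_centralizer_of_centralizes_omega (hp : p ≠ 2) {g : G} (hco : (orderOf g).Coprime p)
    {Q : Subgroup G} (hQ : IsPGroup p Q) (hg : g ∈ Subgroup.normalizer (Q : Set G))
    (hΩ : ∀ x ∈ Q, x ^ p = 1 → g * x = x * g) : g ∈ Subgroup.centralizer (Q : Set G) := by
  rw [Subgroup.mem_centralizer_iff]
  intro x hx
  exact (centralizes_of_centralizes_omega hp hco _ Q rfl hQ hg hΩ x hx).symm

end Cfsg.Agent.Lib.Helper17.OmegaAct
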